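import Cfsg.Agent.LargePrime.Main
import Cfsg.Agent.S4441
import Cfsg.Agent.SylowPrimeOrder.Simple
import Cfsg.Agent.Small.SylowArgs

/-!
# Simple groups of order less than `p ^ 3`

The Sylow `p`-subgroup has order `p` and is its own centralizer: otherwise the principal block has
a non-principal character of degree less than `p`, whose kernel would contain a `p'`-element
centralizing `P`.
-/

set_option autoImplicit false
set_option linter.style.haveILetI false
set_option linter.unusedSectionVars false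

namespace CfsgLib.LargePrime

open Cfsg CfsgLib.BlocksFrobenius CfsgLib.PrincipalBlock CfsgLib.Blocks
open scoped ComplexConjugate

universe u

variable {G : Type u} [Group G] [Fintype G] {p : ℕ} [Fact p.Prime] {P : Sylow p G}

/-- A non-principal member of the principal block of degree less than `p` has every `p'`-element
centralizing `P` in its kernel. -/
theorem eq_one_of_degree_lt [IsSimpleGroup G] {M₀ : Ideal AlgInt} [M₀.IsPrime]
    (hM : Cfsg.IsPModular p M₀) (hP : Nat.card (P : Subgroup G) = p) {χ : IrrCharacter G}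
    (hχ : χ ∈ Cfsg.principalBlock M₀ G) (hne : χ ≠ trivChar G)
    (hd : Cfsg.charDegree (χ : G → ℂ) < p) {v : G}
    (hv : v ∈ Subgroup.centralizer ((P : Subgroup G) : Set G)) (hreg : ¬ p ∣ orderOf v) :
    v = 1 := by
  classical
  have h := semireg_of_prime hP
  haveI := h.comm
  haveI := finite_lin h
  letI := Fintype.ofFinite (↥(P : Subgroup G) →* ℂˣ)
  letI := Fintype.ofFinite ↥(P : Subgroup G)
  have hp0 : (p : ℂ) ≠ 0 := Nat.cast_ne_zero.2 (Fact.out : p.Prime).ne_zero
  obtain ⟨ψ, hψ⟩ : ∃ ψ : ↥(P : Subgroup G) →* ℂˣ, mult χ ψ = 0 := by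
    by_contra hno
    push Not at hno
    have hsum : ∑ ψ : ↥(P : Subgroup G) →* ℂˣ, mult χ ψ = Cfsg.charDegree (χ : G → ℂ) := by
      apply Nat.cast_injective (R := ℂ)
      refine mul_left_cancel₀ hp0 ?_
      rw [Nat.cast_sum, Finset.mul_sum, Finset.sum_congr rfl (g := fun ψ : ↥(P : Subgroup G) →* ℂˣ =>
          ∑ y : ↥(P : Subgroup G), (χ : G → ℂ) y * ((ψ⁻¹ y : ℂˣ) : ℂ)) fun ψ _ => by
        rw [show (p : ℂ) = (Nat.card (P : Subgroup G) : ℂ) by rw [hP], ← sum_mult_eq]
        exact Finset.sum_congr rfl fun y _ => by rw [conj_apply],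
        Finset.sum_comm, Finset.sum_eq_single 1]
      · rw [← Finset.mul_sum,
          Fintype.sum_equiv (Equiv.inv (↥(P : Subgroup G) →* ℂˣ))
            (fun ψ => ((ψ⁻¹ 1 : ℂˣ) : ℂ)) (fun ψ => ((ψ 1 : ℂˣ) : ℂ)) (fun ψ => rfl),
          sum_dual_apply, if_pos rfl, hP, charDegree_cast]
        show (χ : G → ℂ) 1 * _ = _
        ring
      · intro y _ hy
        rw [← Finset.mul_sum,
          Fintype.sum_equiv (Equiv.inv (↥(P : Subgroup G) →* ℂˣ))
            (fun ψ => ((ψ⁻¹ y : ℂˣ) : ℂ)) (fun ψ => ((ψ y : ℂˣ) : ℂ)) (fun ψ => rfl),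
          sum_dual_apply, if_neg hy, mul_zero]
      · intro hh; exact absurd (Finset.mem_univ _) hh
    have h1 : ∑ _ψ : ↥(P : Subgroup G) →* ℂˣ, 1 ≤ ∑ ψ, mult χ ψ :=
      Finset.sum_le_sum fun ψ _ => Nat.one_le_iff_ne_zero.2 (hno ψ)
    rw [Finset.sum_const, smul_eq_mul, mul_one, Finset.card_univ, ← Nat.card_eq_fintype_card,
      card_dual, hP, hsum] at h1
    omega
  have h0 := sum_mult_eq χ ψ
  rw [hψ, Nat.cast_zero, mul_zero] at h0
  obtain ⟨n, ρ, hρ⟩ := Characters.isCharacter_of_isIrr χ.2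
  let R : (Fin n → ℂ) →ₗ[ℂ] (Fin n → ℂ) := ∑ y : ↥(P : Subgroup G), conj (ψ y : ℂ) • ρ (y : G)
  have hRR : R * R = (p : ℂ) • R := by
    have hshift : ∀ y : ↥(P : Subgroup G),
        ∑ w : ↥(P : Subgroup G), conj (ψ (y * w) : ℂ) • ρ ((y * w : ↥(P : Subgroup G)) : G) = R :=
      fun y => Fintype.sum_equiv (Equiv.mulLeft y) _ _ fun w => rfl
    calc R * R = ∑ y : ↥(P : Subgroup G), ∑ w : ↥(P : Subgroup G),
        conj (ψ (y * w) : ℂ) • ρ ((y * w : ↥(P : Subgroup G)) : G) := by
          simp only [R, Finset.sum_mul, Finset.mul_sum]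
          rw [Finset.sum_comm]
          refine Finset.sum_congr rfl fun y _ => Finset.sum_congr rfl fun w _ => ?_
          rw [smul_mul_smul_comm, ← map_mul ρ, ← map_mul (starRingEnd ℂ), ← Units.val_mul,
            ← map_mul ψ, Subgroup.coe_mul]
      _ = (p : ℂ) • R := by
          simp only [hshift]
          rw [Finset.sum_const, Finset.card_univ, ← Nat.card_eq_fintype_card, hP, ← Nat.cast_smul_eq_nsmul ℂ]
  set T := (p : ℂ)⁻¹ • R with hT
  have hidem : IsIdempotentElem T := by
    show T * T = T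
    rw [hT, smul_mul_smul_comm, hRR, smul_smul, mul_assoc, inv_mul_cancel₀ hp0, mul_one]
  have htr : LinearMap.trace ℂ (Fin n → ℂ) T = 0 := by
    rw [hT, map_smul, map_sum]
    simp only [map_smul]
    rw [Finset.sum_congr rfl (g := fun y : ↥(P : Subgroup G) => (χ : G → ℂ) y * conj (ψ y : ℂ))
      fun y _ => by rw [← hρ, smul_eq_mul, mul_comm]; rfl, h0, smul_zero]
  have hTz : T = 0 := by
    rw [← LinearMap.range_eq_bot]
    have h1 := ((LinearMap.isProj_range_iff_isIdempotentElem T).2 hidem).trace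
    rw [htr] at h1
    exact Submodule.finrank_eq_zero.1 (by exact_mod_cast h1.symm)
  have hv0 : ∑ y : ↥(P : Subgroup G), (χ : G → ℂ) ((y : G) * v) * conj (ψ y : ℂ) = 0 := by
    have h1 : LinearMap.trace ℂ (Fin n → ℂ) (R * ρ v) = 0 := by
      have hR : R = 0 := by
        have := congrArg (fun A => (p : ℂ) • A) hTz
        simpa [hT, smul_smul, hp0] using this
      rw [hR, zero_mul, map_zero]
    simp only [R, Finset.sum_mul, map_sum, smul_mul_assoc, map_smul, ← map_mul ρ, smul_eq_mul] at h1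
    refine Eq.trans (Finset.sum_congr rfl fun y _ => ?_) h1
    rw [← hρ, mul_comm]
    rfl
  have hval : ∀ y : ↥(P : Subgroup G), y ≠ 1 → (χ : G → ℂ) ((y : G) * v) = (χ : G → ℂ) y :=
    fun y hy => h.apply_of_isPPart hM hχ (isPPart_of_mul
      (Subgroup.mem_centralizer_iff.1 hv y y.2) (isPow_of_mem y.2) hreg) y.2
      (fun e => hy (Subtype.ext e))
  have hker : (χ : G → ℂ) v = (χ : G → ℂ) 1 := by
    rw [← Finset.add_sum_erase _ _ (Finset.mem_univ (1 : ↥(P : Subgroup G)))] at hv0 h0
    rw [Finset.sum_congr rfl (fun y hy => by rw [hval y (Finset.mem_erase.1 hy).1])] at hv0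
    simp only [OneMemClass.coe_one, one_mul, map_one, Units.val_one, mul_one] at hv0 h0
    linear_combination hv0 - h0
  have hmem : v ∈ charKer χ := mem_charKer.2 hker
  have hnormal : (charKer χ).Normal := ⟨fun a ha g => mem_charKer.2 (by
    rw [Characters.isClassFunction_of_isIrr χ.2 a g]; exact mem_charKer.1 ha)⟩
  rcases hnormal.eq_bot_or_eq_top with hb | ht
  · rw [hb] at hmem; exact Subgroup.mem_bot.1 hmem
  · exact absurd (eq_trivChar_of_charKer_eq_top ht) hne

/-- A degree congruent to `1` when `f n < p`. -/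
theorem degree_one_small {p f n d c : ℕ} (hp : 1 < p) (hf : 0 < f) (hn : 0 < n) (hfn : f * n < p)
    (hdc : d * c = f * (1 + n * p)) (hd : (d : ℤ) ≡ 1 [ZMOD (p : ℤ)]) :
    d = 1 ∨ d = 1 + n * p := by
  have hfp : f < p := lt_of_le_of_lt (Nat.le_mul_of_pos_right f hn) hfn
  have hd' : (p : ℤ) ∣ (d : ℤ) - 1 := Int.modEq_iff_dvd.1 hd.symm
  have hdc' : (d : ℤ) * c = f * (1 + n * p) := by exact_mod_cast hdc
  obtain ⟨w, rfl⟩ := exists_add_mul hfp (show (p : ℤ) ∣ (c : ℤ) - f by
    have h1 := dvd_sub (dvd_mul_left (p : ℤ) ((f : ℤ) * n)) (hd'.mul_right (c : ℤ))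
    rwa [show (f : ℤ) * n * p - ((d : ℤ) - 1) * c = c - f by linear_combination -hdc'] at h1)
  obtain ⟨u, rfl⟩ := exists_add_mul hp (by exact_mod_cast hd')
  have key : u * w * p + u * f + w = f * n := by
    refine Nat.eq_of_mul_eq_mul_left (show 0 < p by omega) ?_
    zify at hdc ⊢
    linear_combination hdc
  rcases Nat.eq_zero_or_pos (u * w) with h | h
  · rcases Nat.mul_eq_zero.1 h with h | h
    · left; rw [h, zero_mul, add_zero]
    · right
      rw [h] at key
      have h2 : u * f = n * f := by rw [mul_comm n]; simpa using key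
      rw [Nat.eq_of_mul_eq_mul_right hf h2]
  · have : 1 * p ≤ u * w * p := Nat.mul_le_mul_right p h
    omega

/-- If `C(P) ≠ P` some non-principal member of the principal block has degree less than `p`. -/
theorem exists_degree_lt [IsSimpleGroup G] (hna : ¬ IsMulCommutative G) {M₀ : Ideal AlgInt}
    (hM : Cfsg.IsPModular p M₀) (hodd : p ≠ 2) (hP : Nat.card (P : Subgroup G) = p) {e c n : ℕ}
    (he : (Subgroup.centralizer ((P : Subgroup G) : Set G)).relIndex
      (Subgroup.normalizer ((P : Subgroup G) : Set G)) = e) (he2 : 2 ≤ e) (hc : 2 ≤ c) (hn : 0 < n)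
    (hG : Nat.card G = p * (e * c * (1 + n * p))) (hsmall : e * c * n < p) :
    ∃ χ ∈ Cfsg.principalBlock M₀ G, χ ≠ trivChar G ∧ Cfsg.charDegree (χ : G → ℂ) < p := by
  classical
  have hp := (Fact.out : p.Prime)
  haveI : M₀.IsPrime := hM.2.1.isPrime
  obtain ⟨X, Y, hB, hXY, hX, hY, εX, ε, hXs, hε, hYd, -, hid⟩ :=
    Cfsg.Agent.S4441.result p M₀ hM hodd P hP e he
  have hec : e * c ≤ e * c * n := Nat.le_mul_of_pos_right _ hn
  have h2e : e * 2 ≤ e * c := Nat.mul_le_mul_left e hc
  have h2c : 2 * c ≤ e * c := Nat.mul_le_mul_right c he2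
  have hd1 : Cfsg.charDegree ((trivChar G : IrrCharacter G) : G → ℂ) = 1 := charDegree_trivChar
  have htriv : trivChar G ∈ X := by
    have : trivChar G ∈ X ∪ Y := hB ▸ trivChar_mem
    rcases this with h | h
    · exact h
    exfalso
    have h1 := hYd _ h
    rw [hd1, Nat.cast_one] at h1
    obtain ⟨a, ha⟩ := Int.modEq_iff_dvd.1 h1
    rcases hε with rfl | rfl
    · have hd : p ∣ e - 1 :=
        Int.natCast_dvd_natCast.1 ⟨a, by push_cast [Nat.cast_sub (by omega : 1 ≤ e)]; linarith⟩
      have := Nat.le_of_dvd (by omega : 0 < e - 1) hd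
      omega
    · have hd : p ∣ e + 1 := Int.natCast_dvd_natCast.1 ⟨-a, by push_cast; linarith⟩
      have := Nat.le_of_dvd (by omega : 0 < e + 1) hd
      omega
  have hcof : ∀ χ : IrrCharacter G, ¬ p ∣ Cfsg.charDegree (χ : G → ℂ) →
      ∃ v, Cfsg.charDegree (χ : G → ℂ) * v = e * c * (1 + n * p) := fun χ hnd => by
    obtain ⟨v, hv⟩ := ((hp.coprime_iff_not_dvd.2 hnd).symm).dvd_of_dvd_mul_left
      (hG ▸ charDegree_dvd_card χ)
    exact ⟨v, hv.symm⟩
  have hYne : Y.Nonempty := by
    rw [← Set.ncard_pos, ← Nat.card_coe_set_eq, hY]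
    exact Nat.div_pos (by omega) (by omega)
  obtain ⟨θ, hθ⟩ := hYne
  have hθB : θ ∈ Cfsg.principalBlock M₀ G := hB ▸ Or.inr hθ
  have hθne : θ ≠ trivChar G := fun h => Set.disjoint_left.1 hXY htriv (h ▸ hθ)
  by_contra hno
  push Not at hno
  set d := Cfsg.charDegree (θ : G → ℂ) with hd
  have hdp : p ≤ d := hno θ hθB hθne
  -- the identity at `1`
  have hsum : ε * (d : ℤ) = 1 + ∑ χ ∈ X.toFinset.erase (trivChar G),
      εX χ * (Cfsg.charDegree (χ : G → ℂ) : ℤ) := by
    have h1 := hid θ hθ 1 (by rw [orderOf_one]; exact hp.not_dvd_one)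
    rw [finsum_mem_eq_toFinset_sum] at h1
    have h3 : ε * (d : ℤ) = ∑ χ ∈ X.toFinset, εX χ * (Cfsg.charDegree (χ : G → ℂ) : ℤ) := by
      apply Int.cast_injective (α := ℂ)
      push_cast
      simp only [hd, charDegree_cast]
      exact h1
    rw [h3, ← Finset.add_sum_erase _ _ (Set.mem_toFinset.2 htriv)]
    congr 1
    have h4 := (hXs _ htriv).2.1
    rw [hd1, Nat.cast_one] at h4
    rcases (hXs _ htriv).1 with h | h
    · rw [h, hd1]; norm_num
    · rw [h] at h4
      obtain ⟨a, ha⟩ := Int.modEq_iff_dvd.1 h4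
      have := Nat.le_of_dvd two_pos (Int.natCast_dvd_natCast.1
        (show ((p : ℕ) : ℤ) ∣ ((2 : ℕ) : ℤ) from ⟨-a, by push_cast; linarith⟩))
      have := hp.two_le
      omega
  have hXcard : (X.toFinset.erase (trivChar G)).card + 1 = e := by
    rw [Finset.card_erase_add_one (Set.mem_toFinset.2 htriv), ← Set.ncard_eq_toFinset_card',
      ← Nat.card_coe_set_eq, hX]
  have hXsign : ∀ χ ∈ X.toFinset.erase (trivChar G),
      (εX χ = -1 ∧ (Cfsg.charDegree (χ : G → ℂ) : ℤ) ≡ -1 [ZMOD (p : ℤ)]) ∨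
      (εX χ = 1 ∧ Cfsg.charDegree (χ : G → ℂ) = 1 + n * p) := by
    intro χ hχ
    obtain ⟨hne, hmem⟩ := Finset.mem_erase.1 hχ
    obtain ⟨hs, hmod, -⟩ := hXs χ (Set.mem_toFinset.1 hmem)
    rcases hs with h | h <;> rw [h] at hmod
    · right
      refine ⟨h, ?_⟩
      have hnd : ¬ p ∣ Cfsg.charDegree (χ : G → ℂ) := fun hdv => by
        have h1 := dvd_add (Int.modEq_iff_dvd.1 hmod) (Int.natCast_dvd_natCast.2 hdv)
        rw [sub_add_cancel] at h1
        exact hp.one_lt.ne' (Nat.dvd_one.1 (Int.natCast_dvd_natCast.1 (by exact_mod_cast h1)))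
      obtain ⟨v, hv⟩ := hcof χ hnd
      rcases degree_one_small hp.one_lt (by omega) hn hsmall hv hmod with h' | h'
      · exact absurd (SylowPrimeOrder.eq_trivChar_of_degree_one hna h') hne
      · exact h'
    · exact Or.inl ⟨h, hmod⟩
  have hmodY := hYd θ hθ
  rw [← hd] at hmodY
  have hnd : ¬ p ∣ d := fun h => by
    have h1 := dvd_add (Int.modEq_iff_dvd.1 hmodY) (Int.natCast_dvd_natCast.2 h)
    rw [sub_add_cancel] at h1
    have h2 : (p : ℤ) ∣ (e : ℤ) := by
      rcases hε with e' | e' <;> rw [e'] at h1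
      · simpa using h1
      · simpa using h1
    have := Nat.le_of_dvd (by omega) (Int.natCast_dvd_natCast.1 h2)
    omega
  obtain ⟨v, hv⟩ := hcof θ hnd
  rw [← hd] at hv
  have hdc' : (d : ℤ) * v = e * c * (1 + n * p) := by exact_mod_cast hv
  have hed : ∀ z : ℤ, (p : ℤ) ∣ e * z → (p : ℤ) ∣ z := fun z hz => by
    rcases (Nat.prime_iff_prime_int.1 hp).dvd_or_dvd hz with h | h
    · exact absurd (Nat.le_of_dvd (by omega) (Int.natCast_dvd_natCast.1 h)) (by omega)
    · exact h
  rcases hε with rfl | rfl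
  · rw [one_mul] at hmodY hsum
    have hd' : (p : ℤ) ∣ (d : ℤ) - e := Int.modEq_iff_dvd.1 hmodY.symm
    obtain ⟨w, rfl⟩ := exists_add_mul (show c < p by omega) (hed _ (by
      have h1 := dvd_sub (dvd_mul_left (p : ℤ) ((e : ℤ) * c * n)) (hd'.mul_right (v : ℤ))
      rwa [show (e : ℤ) * c * n * p - ((d : ℤ) - e) * v = e * (v - c) by
        linear_combination -hdc'] at h1))
    obtain ⟨u, hu⟩ := exists_add_mul (show e < p by omega) hd'
    rw [hu] at hv
    have key : u * w * p + u * c + w * e = e * c * n := by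
      refine Nat.eq_of_mul_eq_mul_left (show 0 < p by omega) ?_
      zify at hv ⊢
      linear_combination hv
    have hw : w = 0 := by
      by_contra hw
      rcases Nat.eq_zero_or_pos u with h | h
      · rw [h, zero_mul, add_zero] at hu; omega
      · have : 1 * p ≤ u * w * p := Nat.mul_le_mul_right p (Nat.mul_pos h (Nat.pos_of_ne_zero hw))
        omega
    rw [hw] at key
    simp only [mul_zero, zero_mul, zero_add, add_zero] at key
    have hu' : u = e * n := Nat.eq_of_mul_eq_mul_right (show 0 < c by omega) (by rw [key]; ring)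
    -- too large
    have hle : ∑ χ ∈ X.toFinset.erase (trivChar G), εX χ * (Cfsg.charDegree (χ : G → ℂ) : ℤ) ≤
        ∑ _χ ∈ X.toFinset.erase (trivChar G), ((1 : ℤ) + n * p) := by
      refine Finset.sum_le_sum fun χ hχ => ?_
      rcases hXsign χ hχ with h | h
      · rw [h.1]
        have h0 : (0 : ℤ) ≤ (n : ℤ) * p := by positivity
        have h1 : (0 : ℤ) ≤ (Cfsg.charDegree (χ : G → ℂ) : ℤ) := Int.natCast_nonneg _
        linarith
      · rw [h.1, h.2]; push_cast; linarith
    rw [Finset.sum_const, nsmul_eq_mul] at hle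
    have hcardZ : ((X.toFinset.erase (trivChar G)).card : ℤ) = (e : ℤ) - 1 := by
      have := congrArg (fun k : ℕ => (k : ℤ)) hXcard
      push_cast at this
      linarith
    rw [hcardZ] at hle
    have hdZ : (d : ℤ) = e * (1 + n * p) := by rw [hu, hu']; push_cast; ring
    rw [hdZ] at hsum
    have : (1 : ℤ) ≤ (n : ℤ) * p := by exact_mod_cast Nat.mul_pos hn hp.pos
    linarith
  · have hd' : (p : ℤ) ∣ (d : ℤ) + e := by simpa using Int.modEq_iff_dvd.1 hmodY.symm
    have hv0 : 0 < v := Nat.pos_of_ne_zero fun h0 => by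
      rw [h0, mul_zero] at hv
      exact (Nat.mul_pos (show 0 < e * c by omega) (show 0 < 1 + n * p by omega)).ne hv
    obtain ⟨w, hw0, hw⟩ := exists_mul_eq_add hv0
      (hed _ (by
        have h1 := dvd_sub (hd'.mul_right (v : ℤ)) (dvd_mul_left (p : ℤ) ((e : ℤ) * c * n))
        rwa [show ((d : ℤ) + e) * v - (e : ℤ) * c * n * p = e * (v + c) by
          linear_combination hdc'] at h1))
    obtain ⟨u, hu0, hu⟩ := exists_mul_eq_add (show 0 < d by omega) hd'
    have key : u * w * p = e * c * n + u * c + w * e := by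
      refine Nat.eq_of_mul_eq_mul_left (show 0 < p by omega) ?_
      zify at hv hw hu ⊢
      have hd2 : (d : ℤ) = u * p - e := by linarith
      have hc2 : (v : ℤ) = w * p - c := by linarith
      rw [hd2, hc2] at hv
      linear_combination hv
    have hu2 : 2 ≤ u := by
      by_contra h
      have hu1 : u = 1 := by omega
      rw [hu1, one_mul] at hu
      omega
    have hec1 : c + e ≤ p := by
      have h9 : (e - 1) * 1 ≤ (e - 1) * c := Nat.mul_le_mul_left _ (by omega)
      rw [Nat.sub_mul, Nat.sub_mul, one_mul, mul_one, one_mul] at h9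
      omega
    have hw1 : w = 1 := by
      by_contra h
      have hw2 : 2 ≤ w := by omega
      rcases le_total u w with huw | huw
      · have h4 : u * c ≤ w * c := Nat.mul_le_mul_right c huw
        have h5 : w * (c + e) ≤ w * p := Nat.mul_le_mul_left w hec1
        have h6 : 2 * (w * p) ≤ u * w * p := by
          rw [mul_assoc]; exact Nat.mul_le_mul_right _ hu2
        have h7 : 2 * p ≤ w * p := Nat.mul_le_mul_right p hw2
        rw [mul_add] at h5
        omega
      · have h4 : w * e ≤ u * e := Nat.mul_le_mul_right e huw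
        have h5 : u * (c + e) ≤ u * p := Nat.mul_le_mul_left u hec1
        have h6 : 2 * (u * p) ≤ u * w * p := by
          rw [mul_comm u w, mul_assoc]; exact Nat.mul_le_mul_right _ hw2
        have h7 : 2 * p ≤ u * p := Nat.mul_le_mul_right p hu2
        rw [mul_add] at h5
        omega
    rw [hw1, mul_one, one_mul] at key
    have hcp : 2 * (p - c) ≤ u * (p - c) := Nat.mul_le_mul_right _ hu2
    rw [Nat.mul_sub, Nat.mul_sub] at hcp
    have hucp : u * c ≤ u * p := Nat.mul_le_mul_left u (by omega)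
    have he2' : e = 2 := by
      by_contra h
      have h9 : (e - 2) * 2 ≤ (e - 2) * c := Nat.mul_le_mul_left _ hc
      rw [Nat.sub_mul, Nat.sub_mul] at h9
      omega
    subst he2'
    have hn1 : n = 1 := by
      by_contra h
      have : 2 * c * 2 ≤ 2 * c * n := Nat.mul_le_mul_left _ (by omega)
      omega
    subst hn1
    have hp2c : p = 2 * c + 1 := by omega
    have hu' : u = 2 := Nat.eq_of_mul_eq_mul_right (show 0 < c + 1 by omega) (by
      rw [hp2c] at key
      have h5 : u * (2 * c + 1) = u * (c + 1) + u * c := by ring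
      omega)
    subst hu'
    have hd4 : d = 4 * c := by omega
    obtain ⟨χ₁, hχ₁⟩ := Finset.card_eq_one.1
      (show (X.toFinset.erase (trivChar G)).card = 1 by omega)
    rw [hχ₁, Finset.sum_singleton, hd4] at hsum
    rcases hXsign χ₁ (hχ₁ ▸ Finset.mem_singleton_self _) with h | h
    · rw [h.1] at hsum
      push_cast at hsum
      have hd1' : Cfsg.charDegree (χ₁ : G → ℂ) = 4 * c + 1 := by omega
      have hnd1 : ¬ p ∣ Cfsg.charDegree (χ₁ : G → ℂ) := fun hdv => by
        have h6 := dvd_add (Int.modEq_iff_dvd.1 h.2) (Int.natCast_dvd_natCast.2 hdv)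
        rw [sub_add_cancel] at h6
        exact hp.one_lt.ne' (Nat.dvd_one.1 (Int.natCast_dvd_natCast.1 (by exact_mod_cast (dvd_neg.1 h6))))
      obtain ⟨r, hr⟩ := hcof χ₁ hnd1
      rw [hd1', hp2c] at hr
      have h7 : 4 * c + 1 ∣ 3 := by
        have h8 : 4 * c + 1 ∣ 4 * (2 * c * (1 + 1 * (2 * c + 1))) := by
          rw [← hr]; exact Dvd.dvd.mul_left (dvd_mul_right _ _) 4
        have h9 : (4 * c + 1) * (4 * c + 3) = 4 * (2 * c * (1 + 1 * (2 * c + 1))) + 3 := by ring
        exact (Nat.dvd_add_right h8).1 (h9 ▸ dvd_mul_right _ _)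
      have := Nat.le_of_dvd (by norm_num) h7
      omega
    · rw [h.1, h.2] at hsum
      push_cast at hsum
      omega

/-- **Brauer–Reynolds.** -/
theorem brauer_reynolds {G : Type u} [Group G] [Finite G] [IsSimpleGroup G] (hG : ¬ IsCyclic G)
    (p : ℕ) (hp : p.Prime) (hdvd : p ∣ Nat.card G) (hbig : Nat.card G < p ^ 3) :
    (∃ (F : Type) (_ : Field F) (_ : Fintype F), Fintype.card F = p ∧ 3 < p ∧
      Nonempty (G ≃* Matrix.ProjectiveSpecialLinearGroup (Fin 2) F)) ∨
    (∃ (m : ℕ) (F : Type) (_ : Field F) (_ : Fintype F), Fintype.card F = 2 ^ m ∧ p = 2 ^ m + 1 ∧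
      3 < p ∧ Nonempty (G ≃* Matrix.ProjectiveSpecialLinearGroup (Fin 2) F)) := by
  classical
  haveI := Fintype.ofFinite G
  haveI := Fact.mk hp
  have hna : ¬ IsMulCommutative G := fun hc => hG (by
    letI : CommGroup G := { (inferInstance : Group G) with mul_comm := hc.1.comm }
    infer_instance)
  have hodd : p ≠ 2 := by
    rintro rfl
    have h4 := Small.four_dvd_card_of_simple hna hdvd
    have hc : Nat.card G = 4 := by
      obtain ⟨j, hj⟩ := h4
      have := Nat.card_pos (α := G)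
      omega
    exact Small.not_isPGroup_of_simple hna 2 (IsPGroup.of_card (n := 2) (by rw [hc]; norm_num))
  obtain ⟨P⟩ : Nonempty (Sylow p G) := inferInstance
  set N := Subgroup.normalizer ((P : Subgroup G) : Set G)
  have hN : Nat.card (Sylow p G) * Nat.card N = Nat.card G := Small.card_sylow_mul_card_normalizer P
  have hne1 := Small.card_sylow_ne_one hna hdvd
  have hs := card_sylow_eq_add (G := G) p
  have hn : 0 < nIdx p G := Nat.pos_of_ne_zero fun h => hne1 (by rw [hs, h, zero_mul, add_zero])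
  have hnp : p ≤ nIdx p G * p := Nat.le_mul_of_pos_left p hn
  have hPN : Nat.card (P : Subgroup G) ≤ Nat.card N :=
    Nat.le_of_dvd Nat.card_pos (Subgroup.card_dvd_of_le Subgroup.le_normalizer)
  have hP : Nat.card (P : Subgroup G) = p := by
    obtain ⟨a, ha⟩ := P.2.exists_card_eq
    have h1 := P.dvd_card_of_dvd_card hdvd
    rcases a with _ | _ | a
    · rw [ha, pow_zero] at h1; exact absurd (Nat.dvd_one.1 h1) hp.ne_one
    · simpa using ha
    · exfalso
      have h2 : p ^ 2 ≤ p ^ (a + 1 + 1) := Nat.pow_le_pow_right hp.pos (by omega)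
      have h3 : (p + 1) * p ^ 2 ≤ Nat.card (Sylow p G) * Nat.card N :=
        Nat.mul_le_mul (by omega) (by omega)
      have h4 : p ^ 3 ≤ (p + 1) * p ^ 2 := by
        rw [pow_succ' p 2]; exact Nat.mul_le_mul_right _ (by omega)
      omega
  have hnle := Small.not_normalizer_le_centralizer hna hdvd P
  set C := Subgroup.centralizer ((P : Subgroup G) : Set G) with hCdef
  haveI := isCyclic_of_prime_card hP
  have hPC : (P : Subgroup G) ≤ C := by
    intro a ha
    rw [hCdef, Subgroup.mem_centralizer_iff]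
    intro b hb
    letI := IsCyclic.commGroup (α := (P : Subgroup G))
    exact congrArg Subtype.val (mul_comm (⟨b, hb⟩ : (P : Subgroup G)) ⟨a, ha⟩)
  set e := C.relIndex N with he
  obtain ⟨c, hc⟩ : ∃ c, Nat.card C = p * c := hP ▸ Subgroup.card_dvd_of_le hPC
  have hc0 : 0 < c := Nat.pos_of_ne_zero fun h0 => by
    rw [h0, mul_zero] at hc; exact Nat.card_pos.ne' hc
  have hNc : Nat.card N = p * (e * c) := by
    rw [← Small.card_centralizer_mul_relIndex, ← hCdef, hc, ← he]; ring
  have he2 : 2 ≤ e := by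
    have h0 : e ≠ 0 := fun h => by rw [h] at hNc; simp at hNc
    have h1 : e ≠ 1 := fun h => hnle (Subgroup.relIndex_eq_one.1 h)
    omega
  have hcard : Nat.card G = p * (e * c * (1 + nIdx p G * p)) := by rw [← hN, hNc, hs]; ring
  have hsmall : e * c * nIdx p G < p := by
    rw [hcard] at hbig
    have h5 : p * (e * c * nIdx p G * p) < p * (p * p) := by
      have h6 : p * (e * c * nIdx p G * p) ≤ p * (e * c * (1 + nIdx p G * p)) := by
        refine Nat.mul_le_mul_left p ?_
        rw [mul_add, ← mul_assoc (e * c)]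
        exact Nat.le_add_left _ _
      have h7 : p ^ 3 = p * (p * p) := by ring
      omega
    exact Nat.lt_of_mul_lt_mul_right (Nat.lt_of_mul_lt_mul_left h5)
  have hself : C = (P : Subgroup G) := by
    by_cases hc2 : 2 ≤ c
    · obtain ⟨M₀, hM⟩ := exists_isPModular p hp
      haveI : M₀.IsPrime := hM.2.1.isPrime
      obtain ⟨χ, hχ, hχne, hχd⟩ := exists_degree_lt hna hM hodd hP (P := P) he.symm he2 hc2 hn
        hcard hsmall
      refine P.3 (IsPGroup.iff_orderOf.2 fun x => ?_) hPC
      obtain ⟨a, m, hm, hxo⟩ := Nat.exists_eq_pow_mul_and_not_dvd (orderOf_pos (x : G)).ne' p hp.ne_one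
      refine ⟨a, ?_⟩
      have hvo : orderOf ((x : G) ^ p ^ a) = m := by
        rw [orderOf_pow_of_dvd (pow_ne_zero _ hp.ne_zero) (hxo ▸ dvd_mul_right _ _), hxo,
          Nat.mul_div_cancel_left _ (pow_pos hp.pos _)]
      have hv1 := eq_one_of_degree_lt hM hP hχ hχne hχd (pow_mem x.2 _) (by rw [hvo]; exact hm)
      rw [hv1, orderOf_one] at hvo
      rw [← Subgroup.orderOf_coe, hxo, ← hvo, mul_one]
    · refine (Subgroup.eq_of_le_of_card_ge hPC ?_).symm
      rw [hP, hc, show c = 1 by omega, mul_one]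
  have hperf : commutator G = ⊤ := by
    rcases (inferInstance : (commutator G).Normal).eq_bot_or_eq_top with h | h
    · exact absurd ⟨⟨fun a b => by
        have := (Subgroup.commutator_eq_bot_iff_le_centralizer.1
          (show ⁅(⊤ : Subgroup G), (⊤ : Subgroup G)⁆ = ⊥ by rw [← commutator_def]; exact h))
          (Subgroup.mem_top a)
        exact (Subgroup.mem_centralizer_iff.1 this b (Subgroup.mem_top b)).symm⟩⟩ hna
    · exact h
  refine Setup.classification (P := P) ⟨⟨hperf, hP, hself⟩, ?_⟩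
  rw [hs]
  have h6 : 2 * nIdx p G ≤ e * c * nIdx p G := Nat.mul_le_mul_right _ (le_trans he2 (Nat.le_mul_of_pos_right e hc0))
  have h7 : 2 * nIdx p G * p ≤ p * p := Nat.mul_le_mul_right p (by omega)
  have h8 : (p + 1) * (p + 2) = p * p + 3 * p + 2 := by ring
  have := hp.pos
  rw [h8]
  linarith

end CfsgLib.LargePrime
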