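import Cfsg.Agent.LargePrime.Support
import Cfsg.Agent.LargePrime.SmallCofactor

/-!
# Simple groups of order `p q ^ b g₀` with `g₀ < p - 1`

The principal `p`-block has an exceptional character of degree less than `p - 1`, so the Sylow
`p`-subgroup is self-centralizing. When that degree is `p - e` one has `q = 2` and, by counting
pairs of involutions, few Sylow `p`-subgroups.
-/

set_option autoImplicit false
set_option linter.style.haveILetI false
set_option linter.unusedSectionVars false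

namespace CfsgLib.LargePrime

open Cfsg CfsgLib.BlocksFrobenius CfsgLib.PrincipalBlock CfsgLib.Blocks
open scoped ComplexConjugate

universe u

variable {G : Type u} [Group G] [Fintype G] {p : ℕ} [Fact p.Prime] {P : Sylow p G}

theorem not_dvd_small {p n : ℕ} (h0 : 0 < n) (hn : n < p) {δ : ℤ}
    (hd : (δ : ℤ) = n ∨ δ = -(n : ℤ)) : ¬ (p : ℤ) ∣ δ := fun h => by
  have h' : (p : ℤ) ∣ (n : ℤ) := by
    rcases hd with e | e <;> rw [e] at h
    exacts [h, dvd_neg.1 h]
  have := Nat.le_of_dvd h0 (Int.natCast_dvd_natCast.1 h')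
  omega

theorem not_dvd_of_modEq {p d n : ℕ} (h0 : 0 < n) (hn : n < p) {δ : ℤ}
    (hd : (δ : ℤ) = n ∨ δ = -(n : ℤ)) (h : (d : ℤ) ≡ δ [ZMOD (p : ℤ)]) : ¬ p ∣ d := fun hdv => by
  have h1 := dvd_add (Int.modEq_iff_dvd.1 h) (Int.natCast_dvd_natCast.2 hdv)
  rw [sub_add_cancel] at h1
  exact not_dvd_small h0 hn hd h1

/-- Some non-principal member of the principal block has degree less than `p - 1`. -/
theorem exists_degree_lt_pred [IsSimpleGroup G] (hna : ¬ IsMulCommutative G) {M₀ : Ideal AlgInt}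
    (hM : Cfsg.IsPModular p M₀) (hodd : p ≠ 2) (hP : Nat.card (P : Subgroup G) = p) {q b g₀ : ℕ}
    (hq : q.Prime) (hpq : p ≠ q) (hG : Nat.card G = p * q ^ b * g₀) (hg : g₀ < p - 1) :
    ∃ χ ∈ Cfsg.principalBlock M₀ G, χ ≠ trivChar G ∧ Cfsg.charDegree (χ : G → ℂ) < p := by
  classical
  have hp := (Fact.out : p.Prime)
  haveI : M₀.IsPrime := hM.2.1.isPrime
  set e := (Subgroup.centralizer ((P : Subgroup G) : Set G)).relIndex
    (Subgroup.normalizer ((P : Subgroup G) : Set G)) with he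
  have horb := card_orb_mul (semireg_of_prime hP)
  rw [card_aut, ← he, hP] at horb
  have he0 : 0 < e := Nat.pos_of_ne_zero fun h => by
    rw [h, mul_zero] at horb; have := hp.two_le; omega
  have hk0 : 0 < Nat.card (Orb P) := Nat.pos_of_ne_zero fun h => by
    rw [h, zero_mul] at horb; have := hp.two_le; omega
  have hep : e < p := by
    have : 1 * e ≤ Nat.card (Orb P) * e := Nat.mul_le_mul_right e hk0
    omega
  obtain ⟨X, Y, hB, hXY, hX, hY, εX, ε, hXs, hε, hYd, -, hid⟩ :=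
    Cfsg.Agent.S4441.result p M₀ hM hodd P hP e rfl
  have hYne : Y.Nonempty := by
    rw [← Set.ncard_pos, ← Nat.card_coe_set_eq, hY]
    refine Nat.div_pos ?_ he0
    omega
  have hd1 : Cfsg.charDegree ((trivChar G : IrrCharacter G) : G → ℂ) = 1 := charDegree_trivChar
  by_contra hno
  push Not at hno
  have hdiv : ∀ χ : IrrCharacter G, χ ∈ X ∪ Y → χ ≠ trivChar G →
      (q : ℤ) ∣ (Cfsg.charDegree (χ : G → ℂ) : ℤ) := by
    intro χ hmem hne
    by_contra hnq
    have hnp : ¬ p ∣ Cfsg.charDegree (χ : G → ℂ) := by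
      rcases hmem with h | h
      · rcases (hXs χ h).1 with h1 | h1 <;> have h2 := (hXs χ h).2.1 <;> rw [h1] at h2
        · exact not_dvd_of_modEq one_pos hp.one_lt (Or.inl rfl) h2
        · exact not_dvd_of_modEq one_pos hp.one_lt (Or.inr rfl) h2
      · have h2 := hYd χ h
        rcases hε with h1 | h1 <;> rw [h1] at h2
        · exact not_dvd_of_modEq he0 hep (Or.inl (one_mul _)) h2
        · exact not_dvd_of_modEq he0 hep (Or.inr (neg_one_mul _)) h2
    have hcop : Nat.Coprime (Cfsg.charDegree (χ : G → ℂ)) (p * q ^ b) :=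
      Nat.Coprime.mul_right (hp.coprime_iff_not_dvd.2 hnp).symm
        ((hq.coprime_iff_not_dvd.2 fun h => hnq (Int.natCast_dvd_natCast.2 h)).symm.pow_right b)
    have hdg := hcop.dvd_of_dvd_mul_left (hG ▸ charDegree_dvd_card χ)
    have hg0 : 0 < g₀ := Nat.pos_of_ne_zero fun h => by
      rw [h, mul_zero] at hG; exact Nat.card_pos.ne' hG
    have := Nat.le_of_dvd hg0 hdg
    have := hno χ (hB ▸ hmem) hne
    omega
  obtain ⟨θ, hθ, hθ'⟩ : ∃ θ ∈ Y, trivChar G ∈ Y → θ = trivChar G := by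
    by_cases h : trivChar G ∈ Y
    · exact ⟨_, h, fun _ => rfl⟩
    · obtain ⟨θ, hθ⟩ := hYne
      exact ⟨θ, hθ, fun h' => absurd h' h⟩
  have h1 := hid θ hθ 1 (by rw [orderOf_one]; exact hp.not_dvd_one)
  rw [finsum_mem_eq_toFinset_sum] at h1
  have h3 : ε * (Cfsg.charDegree (θ : G → ℂ) : ℤ) =
      ∑ χ ∈ X.toFinset, εX χ * (Cfsg.charDegree (χ : G → ℂ) : ℤ) := by
    apply Int.cast_injective (α := ℂ)
    push_cast
    simp only [charDegree_cast]
    exact h1
  have hq1 : ¬ (q : ℤ) ∣ 1 := fun h => hq.ne_one (Nat.dvd_one.1 (Int.natCast_dvd_natCast.1 (by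
    exact_mod_cast h)))
  by_cases htX : trivChar G ∈ X
  · have hsum : (q : ℤ) ∣ εX (trivChar G) := by
      rw [← Finset.add_sum_erase _ _ (Set.mem_toFinset.2 htX), hd1, Nat.cast_one, mul_one] at h3
      have hθne : θ ≠ trivChar G := fun h => Set.disjoint_left.1 hXY htX (h ▸ hθ)
      refine (dvd_add_left (Finset.dvd_sum fun χ hχ => ?_)).1
        (h3 ▸ (hdiv θ (Or.inr hθ) hθne).mul_left ε)
      obtain ⟨hne, hmem⟩ := Finset.mem_erase.1 hχ
      exact (hdiv χ (Or.inl (Set.mem_toFinset.1 hmem)) hne).mul_left _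
    rcases (hXs _ htX).1 with h | h <;> rw [h] at hsum
    exacts [hq1 hsum, hq1 (dvd_neg.1 hsum)]
  · have htY : trivChar G ∈ Y := by
      have : trivChar G ∈ X ∪ Y := hB ▸ trivChar_mem
      exact this.resolve_left htX
    rw [hθ' htY, hd1, Nat.cast_one, mul_one] at h3
    have hsum : (q : ℤ) ∣ ε := h3 ▸ Finset.dvd_sum fun χ hχ =>
      (hdiv χ (Or.inl (Set.mem_toFinset.1 hχ))
        fun h => htX (h ▸ Set.mem_toFinset.1 hχ)).mul_left _
    rcases hε with h | h <;> rw [h] at hsum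
    exacts [hq1 hsum, hq1 (dvd_neg.1 hsum)]

/-- A small degree in the principal block makes the Sylow subgroup self-centralizing. -/
theorem self_of_degree_lt [IsSimpleGroup G] {M₀ : Ideal AlgInt} [M₀.IsPrime]
    (hM : Cfsg.IsPModular p M₀) (hP : Nat.card (P : Subgroup G) = p) {χ : IrrCharacter G}
    (hχ : χ ∈ Cfsg.principalBlock M₀ G) (hne : χ ≠ trivChar G)
    (hd : Cfsg.charDegree (χ : G → ℂ) < p) :
    Subgroup.centralizer ((P : Subgroup G) : Set G) = (P : Subgroup G) := by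
  have hp := (Fact.out : p.Prime)
  haveI := isCyclic_of_prime_card hP
  have hPC : (P : Subgroup G) ≤ Subgroup.centralizer ((P : Subgroup G) : Set G) := by
    intro a ha
    rw [Subgroup.mem_centralizer_iff]
    intro b hb
    letI := IsCyclic.commGroup (α := (P : Subgroup G))
    exact congrArg Subtype.val (mul_comm (⟨b, hb⟩ : (P : Subgroup G)) ⟨a, ha⟩)
  refine P.3 (IsPGroup.iff_orderOf.2 fun x => ?_) hPC
  obtain ⟨a, m, hm, hxo⟩ := Nat.exists_eq_pow_mul_and_not_dvd (orderOf_pos (x : G)).ne' p hp.ne_one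
  refine ⟨a, ?_⟩
  have hvo : orderOf ((x : G) ^ p ^ a) = m := by
    rw [orderOf_pow_of_dvd (pow_ne_zero _ hp.ne_zero) (hxo ▸ dvd_mul_right _ _), hxo,
      Nat.mul_div_cancel_left _ (pow_pos hp.pos _)]
  have hv1 := eq_one_of_degree_lt hM hP hχ hne hd (pow_mem x.2 _) (by rw [hvo]; exact hm)
  rw [hv1, orderOf_one] at hvo
  rw [← Subgroup.orderOf_coe, hxo, ← hvo, mul_one]

/-- The degree divides the class size times the value. -/
theorem dvd_index_mul (χ : IrrCharacter G) {z : G} {v : ℤ} (hv : (χ : G → ℂ) z = (v : ℂ)) :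
    (Cfsg.charDegree (χ : G → ℂ) : ℤ) ∣
      ((Subgroup.centralizer ({z} : Set G)).index : ℤ) * v := by
  have hd := charDegree_cast χ
  obtain ⟨n, ρ, hρ, h⟩ := χ.2
  haveI := hρ
  have hn : Cfsg.charDegree (χ : G → ℂ) = Module.finrank ℂ (Fin n → ℂ) := by
    apply Nat.cast_injective (R := ℂ)
    rw [hd, ← h, Representation.char_one]
  have hint := Characters.isIntegral_index_mul_char_div ρ z
  rw [h, hv, ← hn] at hint
  have hn0 : Cfsg.charDegree (χ : G → ℂ) ≠ 0 := fun h0 => by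
    rw [h0, Nat.cast_zero] at hd
    exact Characters.irr_one_ne_zero χ.2 hd.symm
  set k := (Subgroup.centralizer ({z} : Set G)).index
  rw [Int.natCast_dvd]
  apply Characters.dvd_of_isIntegral_div hn0
  have hcast : (k : ℂ) * (v : ℂ) = (((k : ℤ) * v : ℤ) : ℂ) := by push_cast; ring
  rw [hcast] at hint
  rcases Int.natAbs_eq ((k : ℤ) * v) with e | e <;> rw [e] at hint
  · rwa [Int.cast_natCast] at hint
  · rw [Int.cast_neg, Int.cast_natCast, neg_div] at hint
    simpa using hint.neg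

/-- At an involution every character is an integer of the parity of the degree. -/
theorem exists_value [IsSimpleGroup G] (hna : ¬ IsMulCommutative G) (χ : IrrCharacter G) {z : G}
    (hz : orderOf z = 2) :
    ∃ v : ℤ, (χ : G → ℂ) z = (v : ℂ) ∧ 2 ∣ (Cfsg.charDegree (χ : G → ℂ) : ℤ) - v ∧
      (χ ≠ trivChar G → v.natAbs < Cfsg.charDegree (χ : G → ℂ)) := by
  obtain ⟨n, hn0, -, hn, -⟩ := ClassPairs.exists_irr_degree χ
  rcases Nat.lt_or_ge 1 n with h1 | h1
  · obtain ⟨v, hv, h2, hlo, hhi⟩ := Small.Degree.exists_involution_value hna χ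
      (by rw [← charDegree_cast, hn]) h1 hz
    exact ⟨v, hv, by rw [hn]; exact h2, fun _ => by rw [hn]; omega⟩
  · have ht : χ = trivChar G :=
      SylowPrimeOrder.eq_trivChar_of_degree_one hna (by rw [hn]; omega)
    subst ht
    exact ⟨1, by simp [trivChar], by rw [charDegree_trivChar]; norm_num, fun h => absurd rfl h⟩

/-- The non-exceptional degrees when `2 d = p + 1`. -/
theorem arith_minus {h a b JA JB : ℕ} (hab : a + b + 1 = 2 * h)
    (hB : 4 * h * b + 2 * (4 * h + 1) * JB ≤ (2 * h + 1) ^ 2)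
    (hrel : (4 * h + 2) * a + 2 * (4 * h + 1) * JA + 2 * h + 2 =
      4 * h * b + 2 * (4 * h + 1) * JB) : JB = 0 ∧ JA ≤ 1 := by
  have key : a + JA + 1 = h + JB := by
    zify at hab hrel ⊢
    have h2 : 2 * (4 * (h : ℤ) + 1) * ((a : ℤ) + JA + 1 - h - JB) = 0 := by
      linear_combination hrel + (4 * (h : ℤ)) * hab
    rcases mul_eq_zero.1 h2 with h3 | h3 <;> linarith
  have hb : (b : ℤ) = h + JA - JB := by omega
  zify at hB
  rw [hb] at hB
  have hJ : (4 * (h : ℤ) + 2) * JB + 4 * h * JA ≤ 4 * h + 1 := by nlinarith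
  have hh : 0 < h := by omega
  refine ⟨?_, ?_⟩
  · by_contra hc
    have : (4 * (h : ℤ) + 2) * 1 ≤ (4 * (h : ℤ) + 2) * JB :=
      mul_le_mul_of_nonneg_left (by omega) (by positivity)
    have : (0 : ℤ) ≤ 4 * h * JA := by positivity
    linarith
  · by_contra hc
    have : 4 * (h : ℤ) * 2 ≤ 4 * (h : ℤ) * JA :=
      mul_le_mul_of_nonneg_left (by omega) (by positivity)
    have : (0 : ℤ) ≤ (4 * (h : ℤ) + 2) * JB := by positivity
    linarith

set_option maxHeartbeats 2000000 in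
open Classical in
/-- Degree `p - e`: few Sylow subgroups. -/
theorem Core.minus_case [IsSimpleGroup G] (S : Core P) (hna : ¬ IsMulCommutative G)
    (D : BlockData P) {θ θ' : IrrCharacter G} (hθ : θ ∈ D.Y) (hθ' : θ' ∈ D.Y) (hne : θ ≠ θ')
    (hε : D.ε = -1) {d s b : ℕ} (hd : Cfsg.charDegree (θ : G → ℂ) = d) (hde : d + eIdx P = p)
    (hes : eIdx P = 2 ^ s) (hs : 0 < s) (hG : Nat.card G = p * (2 ^ b * d)) (hdodd : ¬ 2 ∣ d)
    (heven : ∀ χ ∈ D.X, χ ≠ trivChar G → 2 ∣ Cfsg.charDegree (χ : G → ℂ)) :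
    ∃ m, p = 2 ^ m + 1 ∧ 2 * Nat.card (Sylow p G) < (p + 1) * (p + 2) := by
  have hp := (Fact.out : p.Prime)
  have hodd := S.odd
  haveI : Fact (Nat.Prime 2) := ⟨Nat.prime_two⟩
  have h2cop : Nat.Coprime 2 d := Nat.prime_two.coprime_iff_not_dvd.2 hdodd
  have hd0 : 0 < d := Nat.pos_of_ne_zero fun h => hdodd (h ▸ dvd_zero 2)
  have h2G : 2 ∣ Nat.card G := by
    rw [S.card_group, hes]
    exact ((dvd_pow_self 2 hs.ne').mul_right _).mul_left _
  have h4G : 2 ^ 2 ∣ Nat.card G := by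
    have := Small.four_dvd_card_of_simple hna h2G; simpa using this
  have hpodd : ¬ 2 ∣ p := fun h => hodd ((Nat.prime_dvd_prime_iff_eq Nat.prime_two hp).1 h).symm
  have hb2 : 2 ∣ 2 ^ b ∧ 4 ∣ 2 ^ b := by
    have h1 : 2 ^ 2 ∣ 2 ^ b := by
      refine (Nat.Coprime.mul_right ((Nat.prime_two.coprime_iff_not_dvd.2 hpodd).pow_left 2)
        (h2cop.pow_left 2)).dvd_of_dvd_mul_left ?_
      rwa [show p * d * 2 ^ b = p * (2 ^ b * d) by ring, ← hG]
    exact ⟨dvd_trans ⟨2, by norm_num⟩ h1, by simpa using h1⟩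
  -- a central involution
  obtain ⟨T⟩ : Nonempty (Sylow 2 G) := inferInstance
  haveI : Nontrivial (T : Subgroup G) :=
    (Subgroup.nontrivial_iff_ne_bot _).2 (T.ne_bot_of_dvd_card h2G)
  obtain ⟨zT, hzT⟩ : ∃ zT : Subgroup.center (T : Subgroup G), orderOf zT = 2 := by
    haveI := T.2.center_nontrivial
    refine exists_prime_orderOf_dvd_card' 2 ?_
    obtain ⟨i, hi⟩ := (T.2.to_subgroup (Subgroup.center (T : Subgroup G))).exists_card_eq
    have : 1 < Nat.card (Subgroup.center (T : Subgroup G)) := Finite.one_lt_card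
    rw [hi] at this ⊢
    exact dvd_pow_self 2 (by rintro rfl; simp at this)
  set z : G := ((zT : (T : Subgroup G)) : G) with hzdef
  have hz : orderOf z = 2 := by rw [hzdef, Subgroup.orderOf_coe, Subgroup.orderOf_coe, hzT]
  set C := Subgroup.centralizer ({z} : Set G) with hC
  have hTC : (T : Subgroup G) ≤ C := fun t ht => Subgroup.mem_centralizer_singleton_iff.2
    (congrArg Subtype.val (Subgroup.mem_center_iff.1 zT.2 ⟨t, ht⟩))
  have h2bC : 2 ^ b ∣ Nat.card C := by
    refine dvd_trans ?_ (Subgroup.card_dvd_of_le hTC)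
    rw [T.card_eq_multiplicity]
    refine pow_dvd_pow 2 ((Nat.prime_two.pow_dvd_iff_le_factorization Nat.card_pos.ne').1 ?_)
    rw [hG]; exact (dvd_mul_right _ _).mul_left _
  obtain ⟨d1, hd1⟩ := h2bC
  have hd10 : 0 < d1 := Nat.pos_of_ne_zero fun h => by
    rw [h, mul_zero] at hd1; exact Nat.card_pos.ne' hd1
  have hnpC : ¬ p ∣ Nat.card C := fun h => by
    obtain ⟨w, hw⟩ := exists_prime_orderOf_dvd_card' p h
    obtain ⟨a, ha, ha1⟩ := S.exists_conj_mem (g := (w : G))
      (by rw [Subgroup.orderOf_coe, hw])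
    have hzP : a * z * a⁻¹ ∈ (P : Subgroup G) := by
      rw [← S.centralizer_eq ha ha1, Subgroup.mem_centralizer_singleton_iff]
      have h1 : Commute z (w : G) := (Subgroup.mem_centralizer_singleton_iff.1 w.2).symm
      exact (h1.map (MulAut.conj a).toMonoidHom).eq
    have h2 := orderOf_dvd_natCard (⟨_, hzP⟩ : (P : Subgroup G))
    rw [S.card, Subgroup.orderOf_mk,
      show a * z * a⁻¹ = MulAut.conj a z from rfl, MulEquiv.orderOf_eq, hz] at h2
    exact hpodd h2
  have hidx : ¬ 2 ∣ C.index := fun h => by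
    have h1 : C.index * d1 = p * d := by
      refine Nat.eq_of_mul_eq_mul_left (pow_pos two_pos b) ?_
      have := C.index_mul_card
      rw [hd1, hG] at this
      linear_combination this
    rcases Nat.prime_two.dvd_mul.1 (h1 ▸ h.mul_right d1) with h' | h'
    exacts [hpodd h', hdodd h']
  have hzp : ¬ p ∣ orderOf z := fun h => by
    rw [hz] at h
    exact hodd ((Nat.prime_dvd_prime_iff_eq hp Nat.prime_two).1 h)
  -- values
  choose V hV hVpar hVlt using fun χ : IrrCharacter G => exists_value hna χ hz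
  have hV1 : V (trivChar G) = 1 := by
    have := hV (trivChar G)
    simp [trivChar] at this
    exact_mod_cast this.symm
  have hpow : ∀ (χ : IrrCharacter G) (i : ℕ), 2 ^ i ∣ Cfsg.charDegree (χ : G → ℂ) →
      (2 : ℤ) ^ i ∣ V χ := fun χ i hi => by
    refine IsCoprime.dvd_of_dvd_mul_left ?_ (dvd_trans ?_ (dvd_index_mul χ (hV χ)))
    · exact Int.isCoprime_iff_nat_coprime.2 (by
        simpa [Int.natAbs_pow] using (Nat.prime_two.coprime_iff_not_dvd.2 hidx).pow_left i)
    · exact_mod_cast Int.natCast_dvd_natCast.2 hi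
  have hdeg : ∀ χ ∈ D.X, ¬ p ∣ Cfsg.charDegree (χ : G → ℂ) := fun χ hχ => by
    have h1 : (Cfsg.charDegree (χ : G → ℂ) : ℤ) ≡ D.δ χ [ZMOD (p : ℤ)] :=
      Int.modEq_iff_dvd.2 ⟨D.δ χ - qdim P χ, by rw [D.degX χ hχ]; ring⟩
    rcases D.δ_sign χ hχ with h | h <;> rw [h] at h1
    · exact not_dvd_of_modEq one_pos hp.one_lt (Or.inl rfl) h1
    · exact not_dvd_of_modEq one_pos hp.one_lt (Or.inr rfl) h1
  have hdvd : ∀ χ ∈ D.X, Cfsg.charDegree (χ : G → ℂ) ∣ 2 ^ b * d := fun χ hχ =>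
    ((hp.coprime_iff_not_dvd.2 (hdeg χ hχ)).symm).dvd_of_dvd_mul_left (hG ▸ charDegree_dvd_card χ)
  have hdecomp : ∀ χ ∈ D.X, ∃ i f, Cfsg.charDegree (χ : G → ℂ) = 2 ^ i * f ∧ ¬ 2 ∣ f ∧ f ∣ d :=
    fun χ hχ => by
    obtain ⟨i, f, hf, hn⟩ := Nat.exists_eq_pow_mul_and_not_dvd
      (n := Cfsg.charDegree (χ : G → ℂ)) (fun h => hdeg χ hχ (h ▸ dvd_zero p)) 2 (by norm_num)
    refine ⟨i, f, hn, hf, ?_⟩
    have h1 : f ∣ 2 ^ b * d := dvd_trans (hn ▸ dvd_mul_left f _) (hdvd χ hχ)
    exact ((Nat.prime_two.coprime_iff_not_dvd.2 hf).symm.pow_right b).dvd_of_dvd_mul_left h1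
  have hT : ∀ χ ∈ D.X, ∃ t : ℤ, t * (Cfsg.charDegree (χ : G → ℂ) : ℤ) = (d : ℤ) * V χ ^ 2 ∧
      (4 ∣ Cfsg.charDegree (χ : G → ℂ) → 4 ∣ t) := fun χ hχ => by
    obtain ⟨i, f, hn, hf, g, hg⟩ := hdecomp χ hχ
    obtain ⟨w, hw⟩ := hpow χ i (hn ▸ dvd_mul_right _ _)
    refine ⟨(g : ℤ) * V χ * w, ?_, fun h4 => ?_⟩
    · rw [hn, hg]; push_cast; rw [hw]; ring
    · have h4v : (2 : ℤ) ^ 2 ∣ V χ := hpow χ 2 (by simpa using h4)
      exact Dvd.dvd.mul_right (Dvd.dvd.mul_left (by simpa using h4v) _) _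
  choose! t ht ht4 using hT
  set X' := D.X.erase (trivChar G) with hX'
  set R : ℤ := (d : ℤ) + V θ ^ 2 + ∑ χ ∈ X', D.δ χ * t χ with hRdef
  have hVθ' : V θ' = V θ := by
    have h1 := D.eqY θ' hθ' θ hθ z hzp
    rw [hV, hV] at h1
    exact_mod_cast h1
  obtain ⟨a, ha⟩ := D.involution_pairs S hθ z hzp
  have heq : (a : ℤ) * (2 ^ b * (d1 : ℤ) ^ 2) = (p : ℤ) * R := by
    have hpos : (0 : ℤ) < 2 ^ b * (d : ℤ) := by positivity
    refine mul_left_cancel₀ hpos.ne' ?_
    apply Int.cast_injective (α := ℂ)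
    push_cast [hRdef]
    rw [hd1, hG, hV θ, hε, ← charDegree_cast θ, hd, ← Finset.add_sum_erase _ _ D.triv_mem, ← hX'] at ha
    rw [D.δ_triv, hV, hV1, ← charDegree_cast, charDegree_trivChar] at ha
    push_cast at ha
    have hsum : ∑ χ ∈ X', (D.δ χ : ℂ) * (t χ : ℂ) =
        (d : ℂ) * ∑ χ ∈ X', (D.δ χ : ℂ) * ((χ : G → ℂ) z ^ 2 / (χ : G → ℂ) 1) := by
      rw [Finset.mul_sum]
      refine Finset.sum_congr rfl fun χ hχ => ?_
      have h1 := ht χ (Finset.mem_of_mem_erase hχ)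
      have h2 : (t χ : ℂ) * (χ : G → ℂ) 1 = (d : ℂ) * (χ : G → ℂ) z ^ 2 := by
        rw [hV, ← charDegree_cast]; exact_mod_cast h1
      field_simp [Characters.irr_one_ne_zero χ.2]
      linear_combination (D.δ χ : ℂ) * h2
    rw [hsum]
    have hdC : (d : ℂ) ≠ 0 := Nat.cast_ne_zero.2 hd0.ne'
    have hθd := div_mul_cancel₀ ((V θ : ℂ) ^ 2) hdC
    linear_combination (d : ℂ) * ha + ((p : ℂ) * 2 ^ b * d) * hθd
  obtain ⟨a', ha'⟩ : ∃ a', a = p * a' := by
    have h1 : (p : ℤ) ∣ (a : ℤ) * (2 ^ b * (d1 : ℤ) ^ 2) := ⟨R, heq⟩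
    have h2 : ¬ (p : ℤ) ∣ 2 ^ b * (d1 : ℤ) ^ 2 := fun h => hnpC (by
      have h3 : p ∣ 2 ^ b * d1 ^ 2 := by exact_mod_cast h
      rcases hp.dvd_mul.1 h3 with h4 | h4
      · exact hd1 ▸ h4.mul_right _
      · exact hd1 ▸ (hp.dvd_of_dvd_pow h4).mul_left _)
    exact Int.natCast_dvd_natCast.1 (((Nat.prime_iff_prime_int.1 hp).dvd_or_dvd h1).resolve_right h2)
  have hR : R = (a' : ℤ) * (2 ^ b * (d1 : ℤ) ^ 2) := by
    refine mul_left_cancel₀ (show (p : ℤ) ≠ 0 by exact_mod_cast hp.ne_zero) ?_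
    rw [← heq, ha']; push_cast; ring
  have hR4 : 4 ∣ R := by
    rw [hR]
    exact ((show (4 : ℤ) ∣ 2 ^ b by exact_mod_cast hb2.2).mul_right _).mul_left _
  have hbound : 0 < R → (2 : ℤ) ^ b * (d1 : ℤ) ^ 2 ≤ R := fun h => by
    rw [hR] at h ⊢
    have h1 : 1 ≤ (a' : ℤ) := by
      rcases Nat.eq_zero_or_pos a' with h0 | h0
      · rw [h0] at h; simp at h
      · exact_mod_cast h0
    exact le_mul_of_one_le_left (by positivity) h1
  have hsyl : eIdx P * Nat.card (Sylow p G) = 2 ^ b * d := by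
    have := S.card_group
    rw [hG, ← card_sylow_eq_add p] at this
    exact (Nat.eq_of_mul_eq_mul_left hp.pos this).symm
  have hrel : -(d : ℤ) = 1 + ∑ χ ∈ X', D.δ χ * (Cfsg.charDegree (χ : G → ℂ) : ℤ) := by
    have h := D.rel_one S hθ
    rw [hε, hd, ← Finset.add_sum_erase _ _ D.triv_mem, ← hX', D.δ_triv, charDegree_trivChar,
      Nat.cast_one, one_mul, neg_one_mul] at h
    exact h
  have hXcard : X'.card + 1 = eIdx P := by
    rw [hX', Finset.card_erase_add_one D.triv_mem, D.cardX]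
  rcases Nat.lt_or_ge s 2 with hs2 | hs2
  · -- two members of `X`
    obtain rfl : s = 1 := by omega
    rw [pow_one] at hes
    obtain ⟨χ, hχ⟩ := Finset.card_eq_one.1 (show X'.card = 1 by omega)
    obtain ⟨hχne, hχX⟩ := Finset.mem_erase.1 (show χ ∈ X' by rw [hχ]; exact Finset.mem_singleton_self _)
    rw [hχ, Finset.sum_singleton] at hrel
    rw [hRdef, hχ, Finset.sum_singleton] at hbound
    have hδ : D.δ χ = -1 := by
      rcases D.δ_sign χ hχX with h | h
      · rw [h] at hrel; omega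
      · exact h
    rw [hδ] at hrel hbound
    have hn : Cfsg.charDegree (χ : G → ℂ) = p - 1 := by omega
    have h1 : p - 1 ∣ 2 ^ b := by
      refine (Nat.Coprime.dvd_of_dvd_mul_right ?_ (hn ▸ hdvd χ hχX))
      rw [show p - 1 = d + 1 by omega]
      simp
    obtain ⟨m, -, hm⟩ := (Nat.dvd_prime_pow Nat.prime_two).1 h1
    have hv : V χ = 0 := by
      refine Int.eq_zero_of_dvd_of_natAbs_lt_natAbs (hpow χ m (by rw [hn, hm])) ?_
      rw [Int.natAbs_pow]
      have := hVlt χ hχne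
      rw [hn, hm] at this
      simpa using this
    have hθv : V θ = -1 := by
      have h := D.rel θ hθ z hzp
      rw [hε, ← Finset.add_sum_erase _ _ D.triv_mem, ← hX', hχ, Finset.sum_singleton, D.δ_triv,
        hV, hV, hV, hV1, hv] at h
      push_cast at h
      have : ((-(V θ) : ℤ) : ℂ) = ((1 : ℤ) : ℂ) := by push_cast; linear_combination h
      have := Int.cast_injective this
      omega
    have ht0 : t χ = 0 := by
      have h := ht χ hχX
      rw [hv, hn] at h
      rcases mul_eq_zero.1 (h.trans (by ring)) with h' | h'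
      · exact h'
      · omega
    rw [hθv, ht0] at hbound
    have hb1 := hbound (by have : (0 : ℤ) < d := by exact_mod_cast hd0
                           linarith)
    have h2b : 2 ^ b ≤ d + 1 := by
      have h3 : (2 : ℤ) ^ b * 1 ≤ 2 ^ b * (d1 : ℤ) ^ 2 :=
        mul_le_mul_of_nonneg_left (by have : (1 : ℤ) ≤ d1 := by exact_mod_cast hd10
                                      nlinarith) (by positivity)
      have h4 : ((2 ^ b : ℕ) : ℤ) ≤ ((d + 1 : ℕ) : ℤ) := by push_cast; linarith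
      exact_mod_cast h4
    refine ⟨m, by omega, ?_⟩
    have h5 : 2 ^ b * d ≤ (d + 1) * d := Nat.mul_le_mul_right d h2b
    rw [hes] at hsyl hde
    have h6 : (p + 1) * (p + 2) = (d + 3) * (d + 4) := by rw [← hde]
    rw [h6]
    nlinarith
  · -- `2 d = p + 1`
    set h := 2 ^ (s - 1) with hh
    have he2h : eIdx P = 2 * h := by
      rw [hes, hh, ← pow_succ', Nat.sub_add_cancel (by omega : 1 ≤ s)]
    have hheven : 2 ∣ h := dvd_pow_self 2 (by omega)
    have hk := S.eq_mul_add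
    have h4p : 4 ∣ p - 1 := by
      rw [hk, Nat.add_sub_cancel, he2h]
      exact (Nat.mul_dvd_mul_left 2 hheven).mul_right _
    obtain ⟨χ₀, hχ₀, hχ₀4⟩ : ∃ χ ∈ X', ¬ 4 ∣ Cfsg.charDegree (χ : G → ℂ) := by
      by_contra hall
      push Not at hall
      have h1 : (4 : ℤ) ∣ ∑ χ ∈ X', D.δ χ * t χ := Finset.dvd_sum fun χ hχ =>
        (ht4 χ (Finset.mem_of_mem_erase hχ) (hall χ hχ)).mul_left _
      have h2 : (4 : ℤ) ∣ (d : ℤ) + V θ ^ 2 := (dvd_add_left h1).1 hR4
      have hp4 : p % 4 = 1 := by have := hp.two_le; omega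
      have hd4 : (d : ℤ) % 4 = 1 := by omega
      obtain ⟨r, hr⟩ : ∃ r, V θ = 2 * r + 1 := by
        have := hVpar θ
        rw [hd] at this
        exact ⟨(V θ - 1) / 2, by omega⟩
      have h3 : V θ ^ 2 = 4 * (r ^ 2 + r) + 1 := by rw [hr]; ring
      omega
    obtain ⟨hχ₀ne, hχ₀X⟩ := Finset.mem_erase.1 hχ₀
    have h2d : 2 * d = p + 1 := by
      obtain ⟨f, hf⟩ := heven χ₀ hχ₀X hχ₀ne
      have hfd : f ∣ d := by
        obtain ⟨i, f', hn', hf', hfd'⟩ := hdecomp χ₀ hχ₀X
        rcases i with _ | _ | i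
        · rw [pow_zero, one_mul] at hn'; exact absurd (hn' ▸ heven χ₀ hχ₀X hχ₀ne) hf'
        · rw [pow_one, hf] at hn'; rwa [Nat.eq_of_mul_eq_mul_left two_pos hn']
        · exfalso; refine hχ₀4 ?_
          rw [hn', pow_succ, pow_succ, show 2 ^ i * 2 * 2 * f' = 4 * (2 ^ i * f') by ring]
          exact dvd_mul_right _ _
      have hfle := Nat.le_of_dvd hd0 hfd
      have h1 : (Cfsg.charDegree (χ₀ : G → ℂ) : ℤ) = (p : ℤ) * qdim P χ₀ - ((p : ℤ) - 1) * D.δ χ₀ :=
        D.degX χ₀ hχ₀X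
      rw [hf] at h1
      rcases D.δ_sign χ₀ hχ₀X with hδ | hδ <;> rw [hδ] at h1
      · rcases Nat.lt_or_ge (qdim P χ₀) 3 with hq | hq
        · interval_cases hq' : qdim P χ₀
          · push_cast at h1; omega
          · exfalso
            push_cast at h1
            have h12 : Cfsg.charDegree (χ₀ : G → ℂ) = 1 := by omega
            exact hχ₀ne (SylowPrimeOrder.eq_trivChar_of_degree_one hna h12)
          · obtain ⟨c, hc⟩ := hfd
            rcases c with _ | _ | c
            · omega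
            · push_cast at h1; omega
            · have : 2 * f ≤ d := by rw [hc]; nlinarith
              push_cast at h1; omega
        · exfalso
          have : (p : ℤ) * 3 ≤ (p : ℤ) * qdim P χ₀ :=
            mul_le_mul_of_nonneg_left (by exact_mod_cast hq) (Int.natCast_nonneg p)
          push_cast at h1
          omega
      · exfalso
        rcases Nat.eq_zero_or_pos (qdim P χ₀) with hq | hq
        · rw [hq] at h1
          push_cast at h1
          refine hχ₀4 ?_
          rw [hf, show 2 * f = p - 1 by omega]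
          exact h4p
        · have : (p : ℤ) * 1 ≤ (p : ℤ) * qdim P χ₀ :=
            mul_le_mul_of_nonneg_left (by exact_mod_cast hq) (Int.natCast_nonneg p)
          push_cast at h1
          omega
    have hp' : p = 4 * h + 1 := by omega
    have hdh : d = 2 * h + 1 := by omega
    set A := X'.filter (fun χ => D.δ χ = 1) with hA
    set B := X'.filter (fun χ => D.δ χ = -1) with hB
    have hXm : ∀ {χ}, χ ∈ X' → χ ∈ D.X ∧ χ ≠ trivChar G := fun h =>
      ⟨Finset.mem_of_mem_erase h, Finset.ne_of_mem_erase h⟩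
    have hsplit : ∀ f : IrrCharacter G → ℤ,
        ∑ χ ∈ X', D.δ χ * f χ = ∑ χ ∈ A, f χ - ∑ χ ∈ B, f χ := fun f => by
      rw [hA, hB, Finset.sum_filter, Finset.sum_filter, ← Finset.sum_sub_distrib]
      refine Finset.sum_congr rfl fun χ hχ => ?_
      rcases D.δ_sign χ (hXm hχ).1 with e | e <;> rw [e] <;> simp
    have hcard : A.card + B.card = X'.card := by
      rw [← Finset.card_union_of_disjoint]
      · congr 1
        ext χ
        simp only [hA, hB, Finset.mem_union, Finset.mem_filter]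
        refine ⟨fun hh => hh.elim And.left And.left, fun hh => ?_⟩
        rcases D.δ_sign χ (hXm hh).1 with e | e
        exacts [Or.inl ⟨hh, e⟩, Or.inr ⟨hh, e⟩]
      · exact Finset.disjoint_filter.2 fun χ _ h1 h2 => by omega
    have hjA : ∀ χ ∈ A, ∃ j : ℕ, Cfsg.charDegree (χ : G → ℂ) = p + 1 + 2 * p * j := fun χ hχ => by
      obtain ⟨hχ', hδ⟩ := Finset.mem_filter.1 hχ
      obtain ⟨hmem, hne'⟩ := hXm hχ'
      have h1 := D.degX χ hmem
      rw [hδ, mul_one] at h1
      have hn1 : Cfsg.charDegree (χ : G → ℂ) ≠ 1 := fun h' =>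
        hne' (SylowPrimeOrder.eq_trivChar_of_degree_one hna h')
      rcases Nat.lt_or_ge (qdim P χ) 2 with hq | hq
      · exfalso
        have := hp.two_le
        interval_cases hq' : qdim P χ <;> push_cast at h1 <;> omega
      · obtain ⟨k, hk'⟩ := Nat.even_or_odd' (qdim P χ)
        rcases hk' with hk' | hk' <;> rw [hk'] at h1 <;> push_cast at h1
        · refine ⟨k - 1, ?_⟩
          zify [show 1 ≤ k by omega]
          linarith
        · exfalso
          obtain ⟨f, hf⟩ := heven χ hmem hne'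
          rw [hf] at h1
          push_cast at h1
          have h2 : (2 : ℤ) * f = 2 * ((p : ℤ) * k) + 1 := by linarith
          omega
    have hjB : ∀ χ ∈ B, ∃ j : ℕ, Cfsg.charDegree (χ : G → ℂ) + 1 = p + 2 * p * j := fun χ hχ => by
      obtain ⟨hχ', hδ⟩ := Finset.mem_filter.1 hχ
      obtain ⟨hmem, hne'⟩ := hXm hχ'
      have h1 := D.degX χ hmem
      rw [hδ] at h1
      obtain ⟨k, hk'⟩ := Nat.even_or_odd' (qdim P χ)
      rcases hk' with hk' | hk' <;> rw [hk'] at h1 <;> push_cast at h1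
      · refine ⟨k, ?_⟩
        zify
        linarith
      · exfalso
        obtain ⟨f, hf⟩ := heven χ hmem hne'
        rw [hf] at h1
        push_cast at h1
        have h2 : (2 : ℤ) * f = 2 * ((p : ℤ) * k + p) - 1 := by linarith
        omega
    choose! jA hjA using hjA
    choose! jB hjB using hjB
    have hsumA : (∑ χ ∈ A, (Cfsg.charDegree (χ : G → ℂ) : ℤ)) =
        (p + 1) * A.card + 2 * p * (∑ χ ∈ A, jA χ : ℕ) := by
      rw [Finset.sum_congr rfl (g := fun χ => ((p : ℤ) + 1) + 2 * p * (jA χ : ℤ)) fun χ hχ => by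
        rw [hjA χ hχ]; push_cast; ring, Finset.sum_add_distrib, Finset.sum_const, ← Finset.mul_sum]
      push_cast; ring
    have hsumB : (∑ χ ∈ B, (Cfsg.charDegree (χ : G → ℂ) : ℤ)) =
        (p - 1) * B.card + 2 * p * (∑ χ ∈ B, jB χ : ℕ) := by
      rw [Finset.sum_congr rfl (g := fun χ => ((p : ℤ) - 1) + 2 * p * (jB χ : ℤ)) fun χ hχ => by
        have := hjB χ hχ; zify at this; linarith, Finset.sum_add_distrib, Finset.sum_const,
        ← Finset.mul_sum]
      push_cast; ring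
    have hBle : ∑ χ ∈ B, Cfsg.charDegree (χ : G → ℂ) ≤ d ^ 2 := by
      rw [← hd]
      refine le_trans (Finset.sum_le_sum_of_subset fun χ hχ => ?_) (D.sum_degree_le S hθ hθ' hne).2
      obtain ⟨h1, h2⟩ := Finset.mem_filter.1 hχ
      exact Finset.mem_filter.2 ⟨(hXm h1).1, h2⟩
    have hBle' : ((p : ℤ) - 1) * B.card + 2 * p * (∑ χ ∈ B, jB χ : ℕ) ≤ (d : ℤ) ^ 2 := by
      rw [← hsumB]; exact_mod_cast hBle
    rw [hsplit, hsumA, hsumB] at hrel
    obtain ⟨hJB, hJA⟩ := arith_minus (h := h) (a := A.card) (b := B.card)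
      (JA := ∑ χ ∈ A, jA χ) (JB := ∑ χ ∈ B, jB χ) (by omega)
      (by zify; rw [hp', hdh] at hBle'; push_cast at hBle' ⊢; linarith)
      (by zify; rw [hp', hdh] at hrel; push_cast at hrel ⊢; linarith)
    have hA1 : ∀ χ ∈ A, Cfsg.charDegree (χ : G → ℂ) = 2 * d := fun χ hχ => by
      rw [hjA χ hχ]
      have : jA χ ≤ 1 := le_trans (Finset.single_le_sum (fun _ _ => Nat.zero_le _) hχ) hJA
      rcases Nat.eq_zero_or_pos (jA χ) with h0 | h0
      · rw [h0]; omega
      · exfalso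
        have h1 : Cfsg.charDegree (χ : G → ℂ) = 4 * (3 * h + 1) := by
          rw [hjA χ hχ, show jA χ = 1 by omega]; omega
        have h3 : 3 * h + 1 ∣ 2 ^ b * d :=
          dvd_trans (h1 ▸ dvd_mul_left _ _) (hdvd χ (hXm (Finset.mem_filter.1 hχ).1).1)
        have h4 : Nat.Coprime (3 * h + 1) (2 ^ b) :=
          ((Nat.prime_two.coprime_iff_not_dvd.2 (by omega)).symm).pow_right b
        have h5 := Nat.le_of_dvd hd0 (h4.dvd_of_dvd_mul_left h3)
        omega
    have hB1 : ∀ χ ∈ B, V χ = 0 := fun χ hχ => by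
      obtain ⟨hχ', -⟩ := Finset.mem_filter.1 hχ
      have h0 : jB χ = 0 := by
        have : jB χ ≤ ∑ χ ∈ B, jB χ := Finset.single_le_sum (fun _ _ => Nat.zero_le _) hχ
        omega
      have hn : Cfsg.charDegree (χ : G → ℂ) = 2 ^ (s + 1) := by
        have := hjB χ hχ
        rw [h0] at this
        rw [pow_succ, ← hes]
        omega
      refine Int.eq_zero_of_dvd_of_natAbs_lt_natAbs (hpow χ (s + 1) (hn ▸ dvd_rfl)) ?_
      have := hVlt χ (hXm hχ').2
      rw [hn] at this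
      simpa [Int.natAbs_pow] using this
    have htA : ∀ χ ∈ A, 2 * t χ = V χ ^ 2 := fun χ hχ => by
      have h1 := ht χ (hXm (Finset.mem_filter.1 hχ).1).1
      rw [hA1 χ hχ] at h1
      push_cast at h1
      refine mul_left_cancel₀ (show (d : ℤ) ≠ 0 by exact_mod_cast hd0.ne') ?_
      linear_combination h1
    have htB : ∑ χ ∈ B, t χ = 0 := Finset.sum_eq_zero fun χ hχ => by
      have hmem := (hXm (Finset.mem_filter.1 hχ).1).1
      have h1 := ht χ hmem
      rw [hB1 χ hχ] at h1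
      refine (mul_eq_zero.1 (h1.trans (by ring))).resolve_right fun h2 => hdeg χ hmem ?_
      rw [Int.natCast_eq_zero.1 h2]
      exact dvd_zero p
    have h2R : 2 * R = 2 * d + 2 * V θ ^ 2 + ∑ χ ∈ A, V χ ^ 2 := by
      rw [hRdef, hsplit, htB, sub_zero, mul_add, mul_add, Finset.mul_sum, Finset.sum_congr rfl htA]
    have horth : 1 + 2 * V θ ^ 2 + ∑ χ ∈ A, V χ ^ 2 ≤ (Nat.card C : ℤ) := by
      have hall : ∑ χ : IrrCharacter G, V χ ^ 2 = (Nat.card C : ℤ) := by
        apply Int.cast_injective (α := ℂ)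
        push_cast
        rw [← Characters.sum_irr_mul_conj_of_isConj (IsConj.refl z)]
        exact Finset.sum_congr rfl fun χ _ => by rw [hV, map_intCast, sq]
      rw [← hall]
      have hθA : θ ∉ insert (trivChar G) A ∧ θ' ∉ insert (trivChar G) A := by
        constructor <;> intro hmem <;> rcases Finset.mem_insert.1 hmem with e | e
        · exact Finset.disjoint_left.1 D.disj D.triv_mem (e ▸ hθ)
        · exact Finset.disjoint_left.1 D.disj (hXm (Finset.mem_filter.1 e).1).1 hθ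
        · exact Finset.disjoint_left.1 D.disj D.triv_mem (e ▸ hθ')
        · exact Finset.disjoint_left.1 D.disj (hXm (Finset.mem_filter.1 e).1).1 hθ'
      refine le_trans (le_of_eq ?_) (Finset.sum_le_sum_of_subset_of_nonneg
        (Finset.subset_univ (insert θ (insert θ' (insert (trivChar G) A))))
        fun χ _ _ => sq_nonneg (V χ))
      rw [Finset.sum_insert (by simp [hne, hθA.1]), Finset.sum_insert hθA.2,
        Finset.sum_insert (fun hh => (hXm (Finset.mem_filter.1 hh).1).2 rfl), hV1, hVθ']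
      ring
    have hRpos : 0 < R := by
      have h1 : (0 : ℤ) ≤ ∑ χ ∈ A, V χ ^ 2 := Finset.sum_nonneg fun χ _ => sq_nonneg _
      have h2 : (0 : ℤ) < d := by exact_mod_cast hd0
      nlinarith [sq_nonneg (V θ)]
    have hb1 := hbound hRpos
    have h2b : 2 ^ b ≤ p := by
      rw [hd1] at horth
      push_cast at horth
      have hd1Z : (1 : ℤ) ≤ d1 := by exact_mod_cast hd10
      have h3 : (2 : ℤ) ^ b * 1 ≤ 2 ^ b * (2 * (d1 : ℤ) ^ 2 - d1) :=
        mul_le_mul_of_nonneg_left (by nlinarith) (by positivity)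
      have h4 : ((2 ^ b : ℕ) : ℤ) ≤ (p : ℤ) := by
        push_cast
        have : (2 * d : ℤ) = p + 1 := by exact_mod_cast h2d
        nlinarith
      exact_mod_cast h4
    refine ⟨s + 1, by rw [pow_succ, ← hes]; omega, ?_⟩
    have h5 : 2 ^ b * d ≤ p * d := Nat.mul_le_mul_right d h2b
    have h6 : 1 * Nat.card (Sylow p G) ≤ eIdx P * Nat.card (Sylow p G) :=
      Nat.mul_le_mul_right _ (by rw [hes]; exact Nat.one_le_two_pow)
    have h7 : 2 * (p * d) = p * (p + 1) := by rw [← h2d]; ring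
    have h8 : (p + 1) * (p + 2) = p * (p + 1) + 2 * (p + 1) := by ring
    omega

end CfsgLib.LargePrime
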