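import Cfsg.Agent.LargePrime.CaseMinus
import Cfsg.Agent.SelfCentralizing.Basic
import Cfsg.Agent.S0731
import Cfsg.Agent.S1230
import Cfsg.Agent.Linear.Basic

/-!
# Brauer's theorem: self-centralizing elements of prime order and few Sylow subgroups

A perfect group with a self-centralizing Sylow subgroup of order `p` and fewer than
`(p + 1) (p + 2) / 2` Sylow `p`-subgroups is `PSL₂(p)`, or `PSL₂(p - 1)` with `p` a Fermat prime.
-/

set_option autoImplicit false
set_option linter.style.haveILetI false
set_option linter.unusedSectionVars false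

namespace CfsgLib.LargePrime

open Cfsg

universe u

variable {G : Type u} [Group G] [Fintype G] {p : ℕ} [Fact p.Prime] {P : Sylow p G}

theorem Setup.fixCount_conj (S : Setup P) (g x : G) :
    fixCount p (x * g * x⁻¹) = fixCount p g := by
  apply Nat.cast_injective (R := ℂ)
  rw [S.fixCount_eq_sum, S.fixCount_eq_sum]
  exact Finset.sum_congr rfl fun χ _ => by rw [Characters.isClassFunction_of_isIrr χ.2 g x]

namespace BlockData

variable (D : BlockData P) (S : Setup P)
include D S

/-- With `k = 2` the group is `PSL₂(p)`. -/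
theorem nonempty_equiv_of_two (hk : kIdx P = 2) (hn : nIdx p G = 1) :
    ∃ (F : Type) (_ : Field F) (_ : Fintype F), Fintype.card F = p ∧ 3 < p ∧
      Nonempty (G ≃* Matrix.ProjectiveSpecialLinearGroup (Fin 2) F) := by
  classical
  have hp := (Fact.out : p.Prime)
  have he := S.two_le_eIdx
  have hpe := S.eq_mul_add
  rw [hk] at hpe
  have hp3 : 3 < p := by omega
  have hΩ : Nat.card (Sylow p G) = p + 1 := by rw [card_sylow_eq_add p, hn, one_mul, add_comm]
  obtain ⟨Q₀, hQ₀⟩ : ∃ Q : Sylow p G, Q ≠ P := by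
    refine Fintype.exists_ne_of_one_lt_card ?_ P
    rw [← Nat.card_eq_fintype_card, hΩ]
    omega
  have hfix : ∀ g ∈ Subgroup.normalizer ((P : Subgroup G) : Set G), g ∉ (P : Subgroup G) →
      fixCount p g = nIdx p G + 1 := fun g hg hgP => D.fixCount_eq S hg hgP
  -- `P` is regular on the others
  have hmove : ∀ R : Sylow p G, R ≠ P → ∀ u ∈ (P : Subgroup G), u • R = R → u = 1 :=
    fun R hR u hu h => S.inter_of_fixed hR
      (mem_fixedBy_sylow.1 (MulAction.mem_fixedBy.2 h)) hu
  have hPfix : ∀ u ∈ (P : Subgroup G), u • P = P := fun u hu =>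
    MulAction.mem_fixedBy.1 (mem_fixedBy_sylow.2 (Subgroup.le_normalizer hu))
  have hreg : ∀ y z : Sylow p G, y ≠ P → z ≠ P → ∃! u : ↥(P : Subgroup G), (u : G) • y = z := by
    intro y z hy hz
    let f : ↥(P : Subgroup G) → {R : Sylow p G // R ≠ P} := fun u => ⟨(u : G) • y, fun h => hy (by
      rw [← inv_smul_smul (u : G) y, h]; exact hPfix _ (inv_mem u.2))⟩
    have hinj : Function.Injective f := fun u v h => by
      have h' : (u : G) • y = (v : G) • y := congrArg Subtype.val h
      have := hmove y hy _ (mul_mem (inv_mem v.2) u.2) (by rw [mul_smul, h', inv_smul_smul])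
      exact Subtype.ext (inv_mul_eq_one.1 this).symm
    have hbij : Function.Bijective f := (Nat.bijective_iff_injective_and_card f).2 ⟨hinj, by
      rw [S.card, Nat.card_eq_fintype_card, Fintype.card_subtype_compl, Fintype.card_subtype_eq,
        ← Nat.card_eq_fintype_card, hΩ, Nat.add_sub_cancel]⟩
    obtain ⟨u, hu⟩ := hbij.2 ⟨z, hz⟩
    exact ⟨u, congrArg Subtype.val hu, fun v hv => hbij.1 ((Subtype.ext hv).trans hu.symm)⟩
  -- fixed points of non-trivial elements
  have hle2 : ∀ g : G, g ≠ 1 → fixCount p g ≤ 2 := by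
    intro g hg
    rcases Nat.eq_zero_or_pos (fixCount p g) with h0 | hpos
    · omega
    obtain ⟨⟨R, hR⟩⟩ := (Nat.card_pos_iff.1 hpos).1
    obtain ⟨x, rfl⟩ := MulAction.exists_smul_eq G P R
    have hN : x⁻¹ * g * x ∈ Subgroup.normalizer ((P : Subgroup G) : Set G) :=
      mem_normalizer_smul.1 (mem_fixedBy_sylow.1 hR)
    rw [show g = x * (x⁻¹ * g * x) * x⁻¹ by group, S.fixCount_conj]
    by_cases hP' : x⁻¹ * g * x ∈ (P : Subgroup G)
    · rw [S.fixCount_of_mem hP' (fun h => hg (by
        calc g = x * (x⁻¹ * g * x) * x⁻¹ := by group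
          _ = 1 := by rw [h]; group))]
      omega
    · rw [hfix _ hN hP', hn]
  -- the two-point stabiliser
  have hE : Nat.card ↥(Subgroup.normalizer ((P : Subgroup G) : Set G) ⊓
      Subgroup.normalizer ((Q₀ : Subgroup G) : Set G)) = eIdx P :=
    S.card_inf_normalizer hfix hQ₀
  have hZ : Cfsg.IsZassenhausGroup G (Sylow p G) := by
    refine ⟨⟨fun {a b} hab => ?_⟩, ?_, ?_, ?_, ?_⟩
    · by_contra hne
      have h1 : b⁻¹ * a ≠ 1 := fun h => hne (inv_mul_eq_one.1 h).symm
      have h2 : fixCount p (b⁻¹ * a) = Nat.card (Sylow p G) := by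
        rw [fixCount]
        exact Nat.card_congr (Equiv.subtypeUnivEquiv fun R =>
          MulAction.mem_fixedBy.2 (by rw [mul_smul, hab, inv_smul_smul]))
      have := hle2 _ h1
      omega
    · rw [MulAction.is_two_pretransitive_iff]
      intro a b c d hab hcd
      obtain ⟨x, hx⟩ := MulAction.exists_smul_eq G a P
      obtain ⟨y, hy⟩ := MulAction.exists_smul_eq G c P
      obtain ⟨u, hu, -⟩ := hreg (x • b) (y • d)
        (fun h => hab (smul_left_cancel x (hx.trans h.symm)))
        (fun h => hcd (smul_left_cancel y (hy.trans h.symm)))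
      exact ⟨y⁻¹ * u * x, by rw [mul_smul, mul_smul, hx, hPfix _ u.2, inv_smul_eq_iff, hy],
        by rw [mul_smul, mul_smul, hu, inv_smul_smul]⟩
    · intro g a b c hab hbc hac ha hb hc
      by_contra hg
      have h3 : ({a, b, c} : Finset (Sylow p G)) ⊆
          Finset.univ.filter (fun R => R ∈ MulAction.fixedBy (Sylow p G) g) := by
        intro R hR
        simp only [Finset.mem_insert, Finset.mem_singleton] at hR
        refine Finset.mem_filter.2 ⟨Finset.mem_univ _, MulAction.mem_fixedBy.2 ?_⟩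
        rcases hR with rfl | rfl | rfl <;> assumption
      have h4 := Finset.card_le_card h3
      rw [Finset.card_eq_three.2 ⟨a, b, c, hab, hac, hbc, rfl⟩] at h4
      have h5 := hle2 g hg
      rw [fixCount, Nat.card_eq_fintype_card, Fintype.card_subtype] at h5
      omega
    · obtain ⟨g, hg, hg1⟩ := (Subgroup.bot_or_exists_ne_one (Subgroup.normalizer
        ((P : Subgroup G) : Set G) ⊓ Subgroup.normalizer ((Q₀ : Subgroup G) : Set G))).resolve_left
          (fun hb => by rw [hb, Subgroup.card_bot] at hE; omega)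
      exact ⟨g, hg1, P, Q₀, hQ₀.symm, MulAction.mem_fixedBy.1 (mem_fixedBy_sylow.2 hg.1),
        MulAction.mem_fixedBy.1 (mem_fixedBy_sylow.2 hg.2)⟩
    · intro M hM htr
      by_contra hno
      push Not at hno
      haveI := hM
      haveI := htr
      have hcard : Nat.card M = p + 1 := by
        rw [← hΩ]
        refine Nat.card_eq_of_bijective (fun m : M => m • P) ⟨fun m m' h => ?_, fun R => ?_⟩
        · have hmem : m'⁻¹ * m ∈ MulAction.stabilizer M P := by
            rw [MulAction.mem_stabilizer_iff, mul_smul, show m • P = m' • P from h, inv_smul_smul]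
          rw [hno P, Subgroup.mem_bot] at hmem
          exact (inv_mul_eq_one.1 hmem).symm
        · exact MulAction.exists_smul_eq M P R
      -- the quotient is the image of the normalizer
      let ψ : ↥(Subgroup.normalizer ((P : Subgroup G) : Set G)) →* G ⧸ M :=
        (QuotientGroup.mk' M).comp (Subgroup.subtype _)
      have hψ : Function.Surjective ψ := by
        intro q
        obtain ⟨g, rfl⟩ := QuotientGroup.mk_surjective q
        obtain ⟨m, hm⟩ := MulAction.exists_smul_eq M P (g • P)
        have hn' : (m : G)⁻¹ * g ∈ Subgroup.normalizer ((P : Subgroup G) : Set G) := by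
          refine mem_fixedBy_sylow.1 (MulAction.mem_fixedBy.2 ?_)
          rw [mul_smul, ← hm]
          exact inv_smul_smul (m : G) P
        refine ⟨⟨_, hn'⟩, ?_⟩
        show ((((m : G)⁻¹ * g : G)) : G ⧸ M) = g
        rw [QuotientGroup.mk_mul, (QuotientGroup.eq_one_iff _).2 (inv_mem m.2), one_mul]
      have hperfQ : commutator (G ⧸ M) = ⊤ := by
        rw [← Subgroup.map_top_of_surjective (QuotientGroup.mk' M) (QuotientGroup.mk'_surjective M),
          ← S.perfect, commutator_def, commutator_def, Subgroup.map_commutator,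
          Subgroup.map_top_of_surjective _ (QuotientGroup.mk'_surjective M)]
      have hder : commutator ↥(Subgroup.normalizer ((P : Subgroup G) : Set G)) ≤
          (P : Subgroup G).subgroupOf (Subgroup.normalizer ((P : Subgroup G) : Set G)) :=
        Subgroup.Normal.quotient_commutative_iff_commutator_le.1 S.isMulCommutative_quot
      have himg : commutator (G ⧸ M) ≤ ((P : Subgroup G).subgroupOf
          (Subgroup.normalizer ((P : Subgroup G) : Set G))).map ψ := by
        refine le_trans (le_of_eq ?_) (Subgroup.map_mono hder)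
        rw [commutator_def, commutator_def, Subgroup.map_commutator,
          Subgroup.map_top_of_surjective _ hψ]
      rw [hperfQ, top_le_iff] at himg
      have hab : IsMulCommutative (G ⧸ M) := ⟨⟨fun a b => by
        obtain ⟨a', ha', rfl⟩ : a ∈ ((P : Subgroup G).subgroupOf
          (Subgroup.normalizer ((P : Subgroup G) : Set G))).map ψ := himg ▸ Subgroup.mem_top a
        obtain ⟨b', hb', rfl⟩ : b ∈ ((P : Subgroup G).subgroupOf
          (Subgroup.normalizer ((P : Subgroup G) : Set G))).map ψ := himg ▸ Subgroup.mem_top b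
        haveI := S.semireg.comm
        rw [← map_mul, ← map_mul]
        congr 1
        exact Subtype.ext (show ((a' : G) * (b' : G)) = (b' : G) * (a' : G) from
          congrArg Subtype.val (IsMulCommutative.is_comm.comm
          (⟨_, Subgroup.mem_subgroupOf.1 ha'⟩ : ↥(P : Subgroup G))
          ⟨_, Subgroup.mem_subgroupOf.1 hb'⟩))⟩⟩
      have htop : M = ⊤ := by
        have h := Subgroup.Normal.quotient_commutative_iff_commutator_le.1 hab
        rwa [S.perfect, top_le_iff] at h
      rw [htop, Subgroup.card_top, S.card_group, hn, one_mul] at hcard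
      have h2 : 2 * 2 * (1 + p) ≤ p * (eIdx P * (1 + p)) := by
        rw [← mul_assoc]
        exact Nat.mul_le_mul_right _ (Nat.mul_le_mul hp.two_le he)
      omega
  have hFle : (P : Subgroup G) ≤ MulAction.stabilizer G P := fun u hu => hPfix u hu
  have hFn : ((P : Subgroup G).subgroupOf (MulAction.stabilizer G P)).Normal := ⟨fun a ha g => by
    rw [Subgroup.mem_subgroupOf] at ha ⊢
    exact (Subgroup.mem_normalizer_iff.1 (mem_fixedBy_sylow.1 (MulAction.mem_fixedBy.2 g.2))
      (a : G)).1 ha⟩
  rcases Cfsg.Agent.S0731.result hZ P (P : Subgroup G) hFle hFn S.semireg.comm hreg with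
    ⟨h3, -⟩ | ⟨K, iK, iKf, hchar, ⟨φ⟩⟩
  · -- not triply transitive
    exfalso
    let Ω' := {R : Sylow p G // R ≠ P ∧ R ≠ Q₀}
    obtain ⟨c, hc⟩ : ∃ c : Sylow p G, c ≠ P ∧ c ≠ Q₀ := by
      by_contra h
      push Not at h
      have h2 : (Finset.univ : Finset (Sylow p G)) ⊆ {P, Q₀} := fun R _ => by
        by_cases hR : R = P
        · simp [hR]
        · simp [h R hR]
      have := (Finset.card_le_card h2).trans Finset.card_le_two
      rw [Finset.card_univ, ← Nat.card_eq_fintype_card, hΩ] at this
      omega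
    have hsurj : ∀ d : Ω', ∃ g : ↥(Subgroup.normalizer ((P : Subgroup G) : Set G) ⊓
        Subgroup.normalizer ((Q₀ : Subgroup G) : Set G)), (g : G) • c = d.1 := by
      intro d
      have inj : ∀ r : Sylow p G, r ≠ P → r ≠ Q₀ → Function.Injective ![P, Q₀, r] := by
        intro r h1 h2 i j hij
        fin_cases i <;> fin_cases j <;> first
          | rfl
          | exact absurd hij hQ₀.symm
          | exact absurd hij hQ₀
          | exact absurd hij h1
          | exact absurd hij.symm h1
          | exact absurd hij h2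
          | exact absurd hij.symm h2
      obtain ⟨g, hg⟩ := MulAction.isMultiplyPretransitive_iff.1 h3
        ⟨_, inj c hc.1 hc.2⟩ ⟨_, inj d.1 d.2.1 d.2.2⟩
      have h0 : g • P = P := DFunLike.congr_fun hg 0
      have h1 : g • Q₀ = Q₀ := DFunLike.congr_fun hg 1
      have h2 : g • c = d.1 := DFunLike.congr_fun hg 2
      exact ⟨⟨g, mem_fixedBy_sylow.1 (MulAction.mem_fixedBy.2 h0),
        mem_fixedBy_sylow.1 (MulAction.mem_fixedBy.2 h1)⟩, h2⟩
    choose f hf using hsurj
    have hle := Nat.card_le_card_of_injective f (fun a b h => Subtype.ext (by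
      rw [← hf a, ← hf b, h]))
    rw [hE, Nat.card_eq_fintype_card, Fintype.card_subtype,
      show (Finset.univ.filter fun R : Sylow p G => R ≠ P ∧ R ≠ Q₀) =
        (Finset.univ.erase P).erase Q₀ by ext R; simp [and_comm],
      Finset.card_erase_of_mem (Finset.mem_erase.2 ⟨hQ₀, Finset.mem_univ _⟩),
      Finset.card_erase_of_mem (Finset.mem_univ _), Finset.card_univ, ← Nat.card_eq_fintype_card,
      hΩ] at hle
    omega
  · letI := iK
    letI := iKf
    refine ⟨K, iK, iKf, ?_, hp3, ⟨φ⟩⟩
    have hodd : Odd (Fintype.card K) := Nat.odd_iff.2 (FiniteField.odd_card_of_char_ne_two hchar)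
    have h1 := Linear.card_PSL_two_odd (F := K) hodd
    rw [← Nat.card_congr φ.toEquiv, S.card_group, hn, one_mul,
      show 2 * (p * (eIdx P * (1 + p))) = p * ((eIdx P * 2) * (1 + p)) by ring,
      show eIdx P * 2 = p - 1 by omega] at h1
    set q := Fintype.card K
    have hq2 : 1 ≤ q := Fintype.card_pos
    have h2 : p * (p ^ 2 - 1) = q * (q ^ 2 - 1) := by
      rw [← h1, show p ^ 2 - 1 = (p - 1) * (1 + p) by
        rw [show p ^ 2 - 1 = p ^ 2 - 1 ^ 2 by simp, Nat.sq_sub_sq, mul_comm, add_comm 1 p]]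
    rcases lt_trichotomy q p with h | h | h
    · exfalso
      have : q * (q ^ 2 - 1) < p * (p ^ 2 - 1) :=
        Nat.mul_lt_mul_of_lt_of_le h (Nat.sub_le_sub_right (Nat.pow_le_pow_left h.le 2) 1)
          (by have : 2 ^ 2 ≤ p ^ 2 := Nat.pow_le_pow_left hp.two_le 2; omega)
      omega
    · exact h
    · exfalso
      have : p * (p ^ 2 - 1) < q * (q ^ 2 - 1) :=
        Nat.mul_lt_mul_of_lt_of_le h (Nat.sub_le_sub_right (Nat.pow_le_pow_left h.le 2) 1)
          (by have : 2 ^ 2 ≤ q ^ 2 := Nat.pow_le_pow_left (by omega) 2; omega)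
      omega

/-- With `e = 2` and `a = 0` the group is `PSL₂(p - 1)`. -/
theorem nonempty_equiv_of_zero {θ : IrrCharacter G} {E : Subgroup G} (H : Minus D θ E)
    (ha : D.aNum = 0) :
    ∃ (m : ℕ) (F : Type) (_ : Field F) (_ : Fintype F), Fintype.card F = 2 ^ m ∧ p = 2 ^ m + 1 ∧
      3 < p ∧ Nonempty (G ≃* Matrix.ProjectiveSpecialLinearGroup (Fin 2) F) := by
  classical
  haveI : Fact (Nat.Prime 2) := ⟨Nat.prime_two⟩
  obtain ⟨t, ht2, hC, hx⟩ := H.centralizer_of_zero ha
  have hp := (Fact.out : p.Prime)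
  have hk := D.two_le_kIdx S
  have he : eIdx P = 2 := by rw [H.e_eq, ha, zero_mul]
  have hpk : p = 2 * kIdx P + 1 := by have := S.eq_mul_add; rwa [he] at this
  set C := Subgroup.centralizer ({t} : Set G)
  have hCp : IsPGroup 2 C := fun x => ⟨1, Subtype.ext (by
    rw [pow_one, SubmonoidClass.coe_pow, sq, OneMemClass.coe_one]
    by_cases h1 : (x : G) = 1
    · rw [h1, one_mul]
    · exact (hx x x.2 h1).1)⟩
  obtain ⟨m, hm⟩ := hCp.exists_card_eq
  rw [hC] at hm
  have hG : Nat.card G = 2 * kIdx P * (p * (2 * kIdx P - 1)) := by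
    rw [S.card_group, he]
    have hn : nIdx p G = kIdx P - 1 := by have := H.n_eq; omega
    obtain ⟨j, hj⟩ : ∃ j, kIdx P = j + 1 := ⟨kIdx P - 1, by omega⟩
    rw [hn, hj, show j + 1 - 1 = j by omega, show 2 * (j + 1) - 1 = 2 * j + 1 by omega, hpk, hj]
    ring
  have hidx : C.index = p * (2 * kIdx P - 1) := by
    have h := C.index_mul_card
    rw [hC, hG, mul_comm (2 * kIdx P)] at h
    exact Nat.eq_of_mul_eq_mul_right (by omega) h
  have hnd : ¬ 2 ∣ C.index := by
    rw [hidx]
    intro h
    rcases Nat.prime_two.dvd_mul.1 h with h | h <;> omega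
  let T : Sylow 2 G := hCp.toSylow hnd
  have hT : (T : Subgroup G) = C := rfl
  -- every involution is conjugate to `t`
  have hall : ∀ u : G, orderOf u = 2 → IsConj t u := by
    intro u hu
    have hup : IsPGroup 2 (Subgroup.zpowers u) :=
      IsPGroup.of_card (n := 1) (by rw [Nat.card_zpowers, hu, pow_one])
    obtain ⟨T', hT'⟩ := hup.exists_le_sylow
    obtain ⟨g, hg⟩ := MulAction.exists_smul_eq G T' T
    have h1 : g * u * g⁻¹ ∈ C := by
      rw [← hT, ← hg]
      exact Subgroup.smul_mem_pointwise_smul u (MulAut.conj g) _ (hT' (Subgroup.mem_zpowers u))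
    have h2 : g * u * g⁻¹ ≠ 1 := fun h => by
      rw [conj_eq_one_iff.1 h, orderOf_one] at hu
      norm_num at hu
    exact (hx _ h1 h2).2.trans (isConj_iff.2 ⟨g, rfl⟩).symm
  have hcentr : ∀ u : G, orderOf u = 2 →
      IsMulCommutative (Subgroup.centralizer ({u} : Set G)) ∧
        ∀ c ∈ Subgroup.centralizer ({u} : Set G), c ^ 2 = 1 := by
    intro u hu
    obtain ⟨g, hg⟩ := isConj_iff.1 (hall u hu)
    have hsq : ∀ c ∈ Subgroup.centralizer ({u} : Set G), c * c = 1 := by
      intro c hc
      have hc' : g⁻¹ * c * g ∈ C := by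
        rw [Subgroup.mem_centralizer_singleton_iff]
        have h := Subgroup.mem_centralizer_singleton_iff.1 hc
        rw [← hg] at h
        calc g⁻¹ * c * g * t = g⁻¹ * (c * (g * t * g⁻¹)) * g := by group
          _ = g⁻¹ * (g * t * g⁻¹ * c) * g := by rw [h]
          _ = t * (g⁻¹ * c * g) := by group
      by_cases h1 : g⁻¹ * c * g = 1
      · rw [show c = g * (g⁻¹ * c * g) * g⁻¹ by group, h1]; group
      · rw [show c * c = g * ((g⁻¹ * c * g) * (g⁻¹ * c * g)) * g⁻¹ by group, (hx _ hc' h1).1]
        group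
    refine ⟨⟨⟨fun a b => Subtype.ext ?_⟩⟩, fun c hc => by rw [sq]; exact hsq c hc⟩
    have hi : ∀ c ∈ Subgroup.centralizer ({u} : Set G), c⁻¹ = c :=
      fun c hc => inv_eq_of_mul_eq_one_right (hsq c hc)
    have h := hi _ (mul_mem a.2 b.2)
    rw [mul_inv_rev, hi _ a.2, hi _ b.2] at h
    exact h.symm
  have hnc : ¬ IsCyclic (T : Subgroup G) := by
    intro hcyc
    rw [hT] at hcyc
    haveI := hcyc
    letI := Fintype.ofFinite C
    have h := IsCyclic.card_pow_eq_one_le (α := C) (n := 2) two_pos
    rw [Finset.filter_true_of_mem (fun x _ => by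
      obtain ⟨i, hi⟩ := hCp x
      exact Subtype.ext (by
        rw [SubmonoidClass.coe_pow, sq, OneMemClass.coe_one]
        by_cases h1 : (x : G) = 1
        · rw [h1, one_mul]
        · exact (hx x x.2 h1).1)), Finset.card_univ, ← Nat.card_eq_fintype_card, hC] at h
    omega
  have hnn : ¬ (T : Subgroup G).Normal := by
    intro hn
    rw [hT] at hn
    have hsub : (Finset.univ.filter fun u : G => IsConj t u) ⊆
        Finset.univ.filter fun u : G => u ∈ C := by
      intro u hu
      obtain ⟨g, rfl⟩ := isConj_iff.1 (Finset.mem_filter.1 hu).2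
      exact Finset.mem_filter.2 ⟨Finset.mem_univ _,
        hn.conj_mem t (Subgroup.mem_centralizer_singleton_iff.2 rfl) g⟩
    have h1 := Finset.card_le_card hsub
    have h2 : Fintype.card G = (Finset.univ.filter fun u : G => IsConj t u).card * Nat.card C := by
      rw [← Finset.card_univ, Finset.card_eq_sum_card_fiberwise (f := fun a : G => a * t * a⁻¹)
        (t := Finset.univ.filter fun u : G => IsConj t u)
        (fun a _ => Finset.mem_filter.2 ⟨Finset.mem_univ _, isConj_iff.2 ⟨a, rfl⟩⟩),
        Finset.sum_congr rfl (g := fun _ => Nat.card C) (fun i hi => by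
          rw [← card_transporter (Finset.mem_filter.1 hi).2, Nat.card_eq_fintype_card,
            Fintype.card_subtype]),
        Finset.sum_const, smul_eq_mul]
    rw [← Nat.card_eq_fintype_card, ← C.index_mul_card] at h2
    rw [← Nat.eq_of_mul_eq_mul_right Nat.card_pos h2, hidx, ← Fintype.card_subtype,
      ← Nat.card_eq_fintype_card] at h1
    change p * (2 * kIdx P - 1) ≤ Nat.card C at h1
    rw [hC] at h1
    have : p * 2 ≤ p * (2 * kIdx P - 1) := Nat.mul_le_mul_left p (by omega)
    omega
  obtain ⟨F, iF, iFt, hF, hiso⟩ := Cfsg.Agent.S1230.result T hnc hnn hcentr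
  refine ⟨m, F, iF, iFt, ?_, by omega, by omega, hiso⟩
  rw [hF]
  show Nat.card C = 2 ^ m
  rw [hC, hm]

end BlockData

/-- Brauer's theorem in the setting of `Setup`. -/
theorem Setup.classification (S : Setup P) :
    (∃ (F : Type) (_ : Field F) (_ : Fintype F), Fintype.card F = p ∧ 3 < p ∧
      Nonempty (G ≃* Matrix.ProjectiveSpecialLinearGroup (Fin 2) F)) ∨
    (∃ (m : ℕ) (F : Type) (_ : Field F) (_ : Fintype F), Fintype.card F = 2 ^ m ∧ p = 2 ^ m + 1 ∧
      3 < p ∧ Nonempty (G ≃* Matrix.ProjectiveSpecialLinearGroup (Fin 2) F)) := by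
  obtain ⟨D⟩ := S.exists_blockData
  obtain ⟨θ, hθ⟩ := D.exists_mem_Y S
  rcases D.shape S hθ with ⟨hε, -, hnk, -⟩ | ⟨hε, hq, hnk, hea⟩
  · have hk := D.kIdx_eq_two_of_plus S hθ hε
    exact Or.inl (D.nonempty_equiv_of_two S hk (by omega))
  · obtain ⟨E, L⟩ := D.exists_line S
    have H : Minus D θ E := ⟨S, L, hθ, hε, hq, hnk, hea⟩
    rcases Nat.eq_zero_or_pos D.aNum with ha | ha
    · exact Or.inr (D.nonempty_equiv_of_zero S H ha)
    · have hk := H.kIdx_eq_two ha
      exact Or.inl (D.nonempty_equiv_of_two S hk (by omega))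

/-- Brauer's theorem. -/
theorem brauer_few_sylow {G : Type u} [Group G] [Finite G] (hperf : commutator G = ⊤) (p : ℕ)
    [Fact p.Prime] (z : G) (hz : orderOf z = p)
    (hC : Subgroup.centralizer ({z} : Set G) = Subgroup.zpowers z)
    (hn : 2 * Nat.card (Sylow p G) < (p + 1) * (p + 2)) :
    (∃ (F : Type) (_ : Field F) (_ : Fintype F), Fintype.card F = p ∧ 3 < p ∧
      Nonempty (G ≃* Matrix.ProjectiveSpecialLinearGroup (Fin 2) F)) ∨
    (∃ (m : ℕ) (F : Type) (_ : Field F) (_ : Fintype F), Fintype.card F = 2 ^ m ∧ p = 2 ^ m + 1 ∧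
      3 < p ∧ Nonempty (G ≃* Matrix.ProjectiveSpecialLinearGroup (Fin 2) F)) := by
  haveI := Fintype.ofFinite G
  have h : SelfCentralizing.Hyp G p z := ⟨Fact.out, hz, hC⟩
  obtain ⟨P, hP⟩ := h.exists_sylow
  have hcard : Nat.card (P : Subgroup G) = p := by rw [hP, Nat.card_zpowers, hz]
  refine Setup.classification (P := P) ⟨⟨hperf, hcard, ?_⟩, hn⟩
  refine le_antisymm ?_ fun a ha => Subgroup.mem_centralizer_iff.2 fun b hb => ?_
  · rw [hP]
    exact (Subgroup.centralizer_le (Set.singleton_subset_iff.2 (Subgroup.mem_zpowers z))).trans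
      hC.le
  · haveI := isCyclic_of_prime_card hcard
    letI := IsCyclic.commGroup (α := (P : Subgroup G))
    exact congrArg Subtype.val (mul_comm (⟨b, hb⟩ : (P : Subgroup G)) ⟨a, ha⟩)

end CfsgLib.LargePrime
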