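import Cfsg.Agent.LargePrime.SmallDegree
import Cfsg.Agent.LargePrime.Main

/-!
# Simple groups of order `p q ^ b g₀` with `g₀ < p - 1`: the theorem

When the exceptional degree is `e` one has `p = 2 e + 1` and the non-exceptional degrees are `p ± 1`.
The number of `m`-tuples of conjugates of a central involution with a given product, read modulo
the order of a Sylow `2`-subgroup, then bounds that order by `e ^ 2 - 1`.
-/

set_option autoImplicit false
set_option linter.style.haveILetI false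
set_option linter.unusedSectionVars false

namespace CfsgLib.LargePrime

open Cfsg CfsgLib.BlocksFrobenius CfsgLib.PrincipalBlock CfsgLib.Blocks
open scoped ComplexConjugate

universe u

variable {G : Type u} [Group G] [Fintype G] {p : ℕ} [Fact p.Prime] {P : Sylow p G}

theorem two_pow_dvd_pow_of_even {w : ℤ} (h : 2 ∣ w) (b : ℕ) :
    (2 : ℤ) ^ b ∣ w ^ (2 ^ b) :=
  (pow_dvd_pow 2 Nat.lt_two_pow_self.le).trans (pow_dvd_pow_of_dvd h _)

theorem two_pow_dvd_pow_sub_one {w : ℤ} (h : ¬ 2 ∣ w) (b : ℕ) :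
    (2 : ℤ) ^ b ∣ w ^ (2 ^ b) - 1 := by
  induction b with
  | zero => simp
  | succ b ih =>
    rw [pow_succ, pow_succ, show (w : ℤ) ^ (2 ^ b * 2) - 1 = (w ^ 2 ^ b - 1) * (w ^ 2 ^ b + 1) by
      rw [pow_mul]; ring]
    refine mul_dvd_mul ih ?_
    have hodd : Odd (w ^ 2 ^ b) := (Int.odd_iff.2 (by omega)).pow
    obtain ⟨r, hr⟩ := hodd
    exact ⟨r + 1, by rw [hr]; ring⟩

open Classical in
/-- The number of `m`-tuples of conjugates of `z` with product `y`, through the characters. -/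
theorem exists_count (z y : G) (W : IrrCharacter G → ℤ)
    (hW : ∀ χ : IrrCharacter G, (W χ : ℂ) * (χ : G → ℂ) 1 =
      ((Subgroup.centralizer ({z} : Set G)).index : ℂ) * (χ : G → ℂ) z) (m : ℕ) :
    ∃ N : ℕ, ∑ χ : IrrCharacter G, conj ((χ : G → ℂ) y) * ((χ : G → ℂ) 1 * (W χ : ℂ) ^ m) =
      (Nat.card G : ℂ) * N := by
  set K := Finset.univ.filter (IsConj · z) with hK
  have hclass : ∀ (χ : IrrCharacter G) (w : G),
      ∑ c ∈ K, (χ : G → ℂ) (c * w) = (W χ : ℂ) * (χ : G → ℂ) w := by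
    intro χ w
    have h := ClassPairs.sum_conj_mul χ z w
    set C := Subgroup.centralizer ({z} : Set G)
    have h2 : ∑ a : G, (χ : G → ℂ) (a * z * a⁻¹ * w) =
        (Nat.card C : ℂ) * ∑ c ∈ K, (χ : G → ℂ) (c * w) := by
      rw [Finset.mul_sum, ← Finset.sum_fiberwise_of_maps_to (t := K) (g := fun a => a * z * a⁻¹)
        (fun a _ => Finset.mem_filter.2 ⟨Finset.mem_univ _, (isConj_iff.2 ⟨a, rfl⟩).symm⟩)]
      refine Finset.sum_congr rfl fun c hc => ?_
      rw [Finset.sum_congr rfl (g := fun _ => (χ : G → ℂ) (c * w)) (fun a ha => by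
        rw [(Finset.mem_filter.1 ha).2]), Finset.sum_const, nsmul_eq_mul]
      obtain ⟨g, rfl⟩ := isConj_iff.1 (Finset.mem_filter.1 hc).2.symm
      congr 2
      rw [← Fintype.card_subtype, ← Nat.card_eq_fintype_card]
      refine Nat.card_congr
        { toFun := fun a => ⟨g⁻¹ * a.1, ?_⟩
          invFun := fun a => ⟨g * a.1, ?_⟩
          left_inv := fun a => Subtype.ext (by simp)
          right_inv := fun a => Subtype.ext (by simp) }
      · rw [Subgroup.mem_centralizer_singleton_iff]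
        calc g⁻¹ * a.1 * z = g⁻¹ * (a.1 * z * a.1⁻¹) * a.1 := by group
          _ = g⁻¹ * (g * z * g⁻¹) * a.1 := by rw [a.2]
          _ = z * (g⁻¹ * a.1) := by group
      · show g * a.1 * z * (g * a.1)⁻¹ = g * z * g⁻¹
        calc g * a.1 * z * (g * a.1)⁻¹ = g * (a.1 * z) * a.1⁻¹ * g⁻¹ := by group
          _ = g * (z * a.1) * a.1⁻¹ * g⁻¹ := by
            rw [Subgroup.mem_centralizer_singleton_iff.1 a.2]
          _ = g * z * g⁻¹ := by group
    rw [h2] at h
    have hC : (Nat.card C : ℂ) ≠ 0 := Nat.cast_ne_zero.2 Nat.card_pos.ne'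
    have hχ1 := Characters.irr_one_ne_zero χ.2
    have hGC : (C.index : ℂ) * (Nat.card C : ℂ) = (Nat.card G : ℂ) := by
      exact_mod_cast C.index_mul_card
    refine mul_left_cancel₀ hC (mul_right_cancel₀ hχ1 ?_)
    rw [h, div_mul_cancel₀ _ hχ1, ← hGC]
    linear_combination (-((χ : G → ℂ) w * (Nat.card C : ℂ))) * hW χ
  obtain ⟨f, hfc, hf⟩ : ∃ f : G → ℕ, (∀ g a : G, f (a * g * a⁻¹) = f g) ∧
      ∀ χ : IrrCharacter G, ∑ g : G, (f g : ℂ) * (χ : G → ℂ) g =
        (χ : G → ℂ) 1 * (W χ : ℂ) ^ m := by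
    induction m with
    | zero =>
      refine ⟨fun g => if g = 1 then 1 else 0, fun g a => ?_, fun χ => ?_⟩
      · simp only [conj_eq_one_iff]
      · simp
    | succ m ih =>
      obtain ⟨f, hfc, hf⟩ := ih
      refine ⟨fun g => ∑ c ∈ K, f (c⁻¹ * g), fun g a => ?_, fun χ => ?_⟩
      · refine Finset.sum_bij' (fun c _ => a⁻¹ * c * a) (fun c _ => a * c * a⁻¹) ?_ ?_
          (fun c _ => by group) (fun c _ => by group) (fun c _ => ?_)
        · intro c hc
          simp only [hK, Finset.mem_filter, Finset.mem_univ, true_and] at hc ⊢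
          exact (isConj_iff.2 ⟨a⁻¹, by group⟩).symm.trans hc
        · intro c hc
          simp only [hK, Finset.mem_filter, Finset.mem_univ, true_and] at hc ⊢
          exact (isConj_iff.2 ⟨a, rfl⟩).symm.trans hc
        · conv_lhs => rw [← hfc _ a⁻¹]
          congr 1
          group
      · push_cast
        simp only [Finset.sum_mul]
        rw [Finset.sum_comm, Finset.sum_congr rfl (g := fun c => ∑ g : G, (f g : ℂ) * (χ : G → ℂ) (c * g))
          (fun c _ => (Fintype.sum_equiv (Equiv.mulLeft c) _ _ fun g => by simp).symm),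
          Finset.sum_comm]
        simp only [← Finset.mul_sum, hclass]
        rw [Finset.sum_congr rfl (g := fun g => (W χ : ℂ) * ((f g : ℂ) * (χ : G → ℂ) g))
          fun g _ => by ring, ← Finset.mul_sum, hf]
        ring
  refine ⟨f y, ?_⟩
  have h1 : ∑ χ : IrrCharacter G, conj ((χ : G → ℂ) y) * ((χ : G → ℂ) 1 * (W χ : ℂ) ^ m) =
      ∑ g : G, (f g : ℂ) * ∑ χ : IrrCharacter G, (χ : G → ℂ) g * conj ((χ : G → ℂ) y) := by
    simp only [← hf, Finset.mul_sum]
    rw [Finset.sum_comm]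
    exact Finset.sum_congr rfl fun g _ => Finset.sum_congr rfl fun χ _ => by ring
  rw [h1]
  simp only [Characters.sum_irr_mul_conj, Nat.card_eq_fintype_card, Fintype.card_subtype,
    ← Finset.sum_boole, Finset.mul_sum]
  rw [Finset.sum_comm, Finset.sum_congr rfl (g := fun _ : G => (f y : ℂ)) fun a _ => ?_,
    Finset.sum_const, Finset.card_univ, nsmul_eq_mul]
  rw [Finset.sum_eq_single (a⁻¹ * y * a)]
  · rw [if_pos (by group), mul_one]
    congr 1
    have := hfc y a⁻¹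
    rwa [inv_inv] at this
  · intro g _ hg
    rw [if_neg fun hh => hg (by rw [← hh]; group), mul_zero]
  · intro hh; exact absurd (Finset.mem_univ _) hh

/-- An involution central in a Sylow `2`-subgroup. -/
theorem exists_central_involution (h2G : 2 ∣ Nat.card G) {b : ℕ} (hb : 2 ^ b ∣ Nat.card G) :
    ∃ z : G, orderOf z = 2 ∧ 2 ^ b ∣ Nat.card (Subgroup.centralizer ({z} : Set G)) := by
  haveI : Fact (Nat.Prime 2) := ⟨Nat.prime_two⟩
  obtain ⟨T⟩ : Nonempty (Sylow 2 G) := inferInstance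
  haveI : Nontrivial (T : Subgroup G) :=
    (Subgroup.nontrivial_iff_ne_bot _).2 (T.ne_bot_of_dvd_card h2G)
  obtain ⟨zT, hzT⟩ : ∃ zT : Subgroup.center (T : Subgroup G), orderOf zT = 2 := by
    haveI := T.2.center_nontrivial
    refine exists_prime_orderOf_dvd_card' 2 ?_
    obtain ⟨i, hi⟩ := (T.2.to_subgroup (Subgroup.center (T : Subgroup G))).exists_card_eq
    have : 1 < Nat.card (Subgroup.center (T : Subgroup G)) := Finite.one_lt_card
    rw [hi] at this ⊢
    exact dvd_pow_self 2 (by rintro rfl; simp at this)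
  refine ⟨((zT : (T : Subgroup G)) : G), by rw [Subgroup.orderOf_coe, Subgroup.orderOf_coe, hzT],
    dvd_trans ?_ (Subgroup.card_dvd_of_le (H := (T : Subgroup G)) fun t ht =>
      Subgroup.mem_centralizer_singleton_iff.2
        (congrArg Subtype.val (Subgroup.mem_center_iff.1 zT.2 ⟨t, ht⟩)))⟩
  rw [T.card_eq_multiplicity]
  exact pow_dvd_pow 2 ((Nat.prime_two.pow_dvd_iff_le_factorization Nat.card_pos.ne').1 hb)

open Classical in
/-- Degree `e`: few Sylow subgroups. -/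
theorem Core.plus_case [IsSimpleGroup G] (S : Core P) (hna : ¬ IsMulCommutative G)
    (D : BlockData P) {θ θ' : IrrCharacter G} (hθ : θ ∈ D.Y) (hθ' : θ' ∈ D.Y) (hne : θ ≠ θ')
    (hε : D.ε = 1) {q b g₀ : ℕ} (hq : q.Prime) (hG : Nat.card G = p * q ^ b * g₀)
    (hg : g₀ < p - 1) (hd : Cfsg.charDegree (θ : G → ℂ) = eIdx P) (heg : eIdx P ∣ g₀)
    (hqe : ¬ q ∣ eIdx P) (hk2 : 2 ≤ kIdx P)
    (hqX : ∀ χ ∈ D.X, χ ≠ trivChar G → q ∣ Cfsg.charDegree (χ : G → ℂ)) :
    ∃ m, p = 2 ^ m - 1 ∧ 2 * Nat.card (Sylow p G) < (p + 1) * (p + 2) := by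
  have hp := (Fact.out : p.Prime)
  have hp2 := S.odd
  set e := eIdx P with he
  have he2 : 2 ≤ e := S.two_le_eIdx
  have hk := S.eq_mul_add
  rw [← he] at hk
  set X' := D.X.erase (trivChar G) with hX'
  have hXm : ∀ {χ}, χ ∈ X' → χ ∈ D.X ∧ χ ≠ trivChar G := fun h =>
    ⟨Finset.mem_of_mem_erase h, Finset.ne_of_mem_erase h⟩
  have hcard : X'.card + 1 = e := by rw [hX', Finset.card_erase_add_one D.triv_mem, D.cardX]
  set A := X'.filter (fun χ => D.δ χ = 1) with hA
  set B := X'.filter (fun χ => D.δ χ = -1) with hB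
  have hAB : A.card + B.card = X'.card := by
    rw [← Finset.card_filter_add_card_filter_not (s := X') (fun χ => D.δ χ = 1)]
    congr 2
    exact Finset.filter_congr fun χ hχ => by
      rcases D.δ_sign χ (hXm hχ).1 with e | e <;> rw [e] <;> norm_num
  have hsplit : ∀ f : IrrCharacter G → ℤ,
      ∑ χ ∈ X', D.δ χ * f χ = ∑ χ ∈ A, f χ - ∑ χ ∈ B, f χ := fun f => by
    rw [hA, hB, Finset.sum_filter, Finset.sum_filter, ← Finset.sum_sub_distrib]
    refine Finset.sum_congr rfl fun χ hχ => ?_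
    rcases D.δ_sign χ (hXm hχ).1 with e | e <;> rw [e] <;> simp
  have hnA : ∀ χ ∈ A, p + 1 ≤ Cfsg.charDegree (χ : G → ℂ) := fun χ hχ => by
    obtain ⟨hχ', hδ⟩ := Finset.mem_filter.1 hχ
    obtain ⟨hmem, hne'⟩ := hXm hχ'
    have h1 := D.degX χ hmem
    rw [hδ, mul_one] at h1
    have hn1 : Cfsg.charDegree (χ : G → ℂ) ≠ 1 := fun h' =>
      hne' (SylowPrimeOrder.eq_trivChar_of_degree_one hna h')
    rcases Nat.lt_or_ge (qdim P χ) 2 with hq' | hq'
    · exfalso
      have := hp.two_le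
      interval_cases hq'' : qdim P χ <;> push_cast at h1 <;> omega
    · have : (p : ℤ) * 2 ≤ (p : ℤ) * qdim P χ :=
        mul_le_mul_of_nonneg_left (by exact_mod_cast hq') (Int.natCast_nonneg p)
      omega
  have hnB : ∀ χ ∈ B, p - 1 ≤ Cfsg.charDegree (χ : G → ℂ) := fun χ hχ => by
    obtain ⟨hχ', hδ⟩ := Finset.mem_filter.1 hχ
    have h1 := D.degX χ (hXm hχ').1
    rw [hδ] at h1
    have : (0 : ℤ) ≤ (p : ℤ) * qdim P χ := by positivity
    omega
  have hsA : A.card * (p + 1) ≤ ∑ χ ∈ A, Cfsg.charDegree (χ : G → ℂ) := by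
    simpa using Finset.card_nsmul_le_sum A _ (p + 1) hnA
  have hsB : B.card * (p - 1) ≤ ∑ χ ∈ B, Cfsg.charDegree (χ : G → ℂ) := by
    simpa using Finset.card_nsmul_le_sum B _ (p - 1) hnB
  obtain ⟨hle1, hle2⟩ := D.sum_degree_le S hθ hθ' hne
  rw [hd] at hle1 hle2
  have hA2 : 1 + ∑ χ ∈ A, Cfsg.charDegree (χ : G → ℂ) ≤ e ^ 2 := by
    refine le_trans ?_ hle1
    rw [← Finset.add_sum_erase _ _ (Finset.mem_filter.2 ⟨D.triv_mem, D.δ_triv⟩), charDegree_trivChar]
    refine Nat.add_le_add_left (Finset.sum_le_sum_of_subset fun χ hχ => ?_) 1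
    obtain ⟨h1, h2⟩ := Finset.mem_filter.1 hχ
    exact Finset.mem_erase.2 ⟨(hXm h1).2, Finset.mem_filter.2 ⟨(hXm h1).1, h2⟩⟩
  have hB2 : ∑ χ ∈ B, Cfsg.charDegree (χ : G → ℂ) ≤ e ^ 2 := by
    refine le_trans (Finset.sum_le_sum_of_subset fun χ hχ => ?_) hle2
    obtain ⟨h1, h2⟩ := Finset.mem_filter.1 hχ
    exact Finset.mem_filter.2 ⟨(hXm h1).1, h2⟩
  have hrel : (e : ℤ) = 1 + (∑ χ ∈ A, (Cfsg.charDegree (χ : G → ℂ) : ℤ) -
      ∑ χ ∈ B, (Cfsg.charDegree (χ : G → ℂ) : ℤ)) := by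
    have h := D.rel_one S hθ
    rw [hε, hd, ← Finset.add_sum_erase _ _ D.triv_mem, ← hX', D.δ_triv, charDegree_trivChar,
      Nat.cast_one, one_mul, one_mul, hsplit] at h
    exact h
  have he3 : 3 ≤ e := by
    by_contra h
    have hA0 : A.card = 0 := by
      by_contra h0
      have : 1 * (p + 1) ≤ A.card * (p + 1) := Nat.mul_le_mul_right _ (by omega)
      have : e ^ 2 ≤ 4 := by rw [show e = 2 by omega]; norm_num
      have := hp.two_le
      omega
    have hA' : A = ∅ := Finset.card_eq_zero.1 hA0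
    rw [hA', Finset.sum_empty] at hrel
    have : (0 : ℤ) ≤ ∑ χ ∈ B, (Cfsg.charDegree (χ : G → ℂ) : ℤ) :=
      Finset.sum_nonneg fun χ _ => Int.natCast_nonneg _
    omega
  have hk2' : kIdx P = 2 := by
    by_contra h
    have h3 : e * 3 ≤ e * kIdx P := Nat.mul_le_mul_left e (by omega)
    have hA3 : A.card * (e * 3) ≤ A.card * (p + 1) := Nat.mul_le_mul_left _ (by omega)
    have hB3 : B.card * (e * 3) ≤ B.card * (p - 1) := Nat.mul_le_mul_left _ (by omega)
    have h4 : (A.card * 3) * e < e * e := by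
      rw [mul_assoc, mul_comm 3 e]
      rw [sq] at hA2
      omega
    have h5 : (B.card * 3) * e ≤ e * e := by
      rw [mul_assoc, mul_comm 3 e]
      rw [sq] at hB2
      omega
    have := Nat.lt_of_mul_lt_mul_right h4
    have := Nat.le_of_mul_le_mul_right h5 (by omega)
    omega
  have hpe : p = 2 * e + 1 := by rw [hk, hk2']; ring
  have hp1 : p + 1 = 2 * (e + 1) := by omega
  have hp1' : p - 1 = 2 * e := by omega
  have ha : 2 * A.card < e := by
    refine Nat.lt_of_mul_lt_mul_right (a := e) ?_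
    have : A.card * (2 * e) ≤ A.card * (p + 1) := Nat.mul_le_mul_left _ (by omega)
    rw [sq] at hA2
    rw [mul_comm 2, mul_assoc]
    omega
  have hb' : 2 * B.card ≤ e := by
    refine Nat.le_of_mul_le_mul_right (c := e) ?_ (by omega)
    rw [sq] at hB2
    rw [hp1'] at hsB
    rw [mul_comm 2, mul_assoc]
    omega
  have heodd : 2 * A.card + 1 = e ∧ 2 * B.card + 1 = e := by
    rcases Nat.lt_or_ge (2 * B.card) e with h | h
    · omega
    · exfalso
      have h1 : 2 * B.card = e := by omega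
      have h2 : B.card * (p - 1) = e ^ 2 := by rw [hp1', ← h1]; ring
      have h3 : ((∑ χ ∈ B, Cfsg.charDegree (χ : G → ℂ) : ℕ) : ℤ) = ((e ^ 2 : ℕ) : ℤ) := by
        exact_mod_cast le_antisymm hB2 (by omega)
      have h4 : (1 : ℤ) + ((∑ χ ∈ A, Cfsg.charDegree (χ : G → ℂ) : ℕ) : ℤ) ≤ ((e ^ 2 : ℕ) : ℤ) := by
        exact_mod_cast hA2
      push_cast at h3 h4
      omega
  have hsumA : ∑ χ ∈ A, Cfsg.charDegree (χ : G → ℂ) = A.card * (p + 1) := by
    refine le_antisymm ?_ hsA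
    have : A.card * (p + 1) + 1 = e ^ 2 := by
      rw [hp1]; nth_rewrite 2 [← heodd.1]; rw [← heodd.1]; ring
    omega
  have hexA : ∀ χ ∈ A, p + 1 = Cfsg.charDegree (χ : G → ℂ) :=
    (Finset.sum_eq_sum_iff_of_le hnA).1 (by rw [hsumA, Finset.sum_const, smul_eq_mul])
  have hsumB : ∑ χ ∈ B, Cfsg.charDegree (χ : G → ℂ) = B.card * (p - 1) := by
    have h1 : ((∑ χ ∈ A, Cfsg.charDegree (χ : G → ℂ) : ℕ) : ℤ) = ((A.card * (p + 1) : ℕ) : ℤ) := by
      rw [hsumA]
    rw [hp1]at h1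
    zify
    push_cast [hp1'] at h1 ⊢
    have h2 : (2 : ℤ) * A.card + 1 = e := by exact_mod_cast heodd.1
    have h3 : (2 : ℤ) * B.card + 1 = e := by exact_mod_cast heodd.2
    have h4 : (B.card : ℤ) = A.card := by linarith
    linear_combination h1 + hrel + h2 - (2 * (e : ℤ)) * h4
  have hexB : ∀ χ ∈ B, p - 1 = Cfsg.charDegree (χ : G → ℂ) :=
    (Finset.sum_eq_sum_iff_of_le hnB).1 (by rw [hsumB, Finset.sum_const, smul_eq_mul])
  obtain ⟨χA, hχA⟩ := Finset.card_pos.1 (show 0 < A.card by omega)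
  obtain ⟨χB, hχB⟩ := Finset.card_pos.1 (show 0 < B.card by omega)
  have hq2 : q = 2 := by
    have h1 : q ∣ p + 1 := hexA χA hχA ▸ hqX χA (hXm (Finset.mem_filter.1 hχA).1).1
      (hXm (Finset.mem_filter.1 hχA).1).2
    have h2 : q ∣ p - 1 := hexB χB hχB ▸ hqX χB (hXm (Finset.mem_filter.1 hχB).1).1
      (hXm (Finset.mem_filter.1 hχB).1).2
    have h3 : q ∣ 2 := by
      have := Nat.dvd_sub h1 h2
      rwa [show p + 1 - (p - 1) = 2 by omega] at this
    exact (Nat.prime_dvd_prime_iff_eq hq Nat.prime_two).1 h3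
  subst hq2
  have hg0 : g₀ = e := by
    obtain ⟨c, hc⟩ := heg
    rcases c with _ | _ | c
    · exfalso; rw [hc, mul_zero, mul_zero] at hG; exact Nat.card_pos.ne' hG
    · simpa using hc
    · exfalso
      have : e * 2 ≤ e * (c + 1 + 1) := Nat.mul_le_mul_left e (by omega)
      omega
  subst hg0
  obtain ⟨i, -, hi⟩ : ∃ i ≤ b, p + 1 = 2 ^ i := by
    refine (Nat.dvd_prime_pow Nat.prime_two).1 ?_
    have hχ := hexA χA hχA
    have h1 : p + 1 ∣ p * (2 ^ b * e) := by
      rw [← mul_assoc, ← hG, hχ]; exact charDegree_dvd_card χA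
    have h2 : Nat.Coprime (p + 1) e := by
      refine Nat.Coprime.symm ?_
      rw [hp1]
      refine Nat.Coprime.mul_right ?_ (by simp)
      exact (Nat.prime_two.coprime_iff_not_dvd.2 hqe).symm
    exact h2.dvd_of_dvd_mul_right ((show Nat.Coprime (p + 1) p by simp).dvd_of_dvd_mul_left h1)
  have hG' : Nat.card G = p * (2 ^ b * e) := by rw [hG, mul_assoc]
  have hsyl : Nat.card (Sylow p G) = 2 ^ b := by
    have := S.card_group
    rw [hG', ← card_sylow_eq_add p, ← he, mul_comm (2 ^ b)] at this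
    exact (Nat.eq_of_mul_eq_mul_left (by omega) (Nat.eq_of_mul_eq_mul_left hp.pos this)).symm
  have h2G : 2 ∣ Nat.card G := by
    have h1 : p + 1 ∣ Nat.card G := hexA χA hχA ▸ charDegree_dvd_card χA
    exact dvd_trans (hp1 ▸ dvd_mul_right 2 (e + 1)) h1
  obtain ⟨z, hz, d1, hd1⟩ := exists_central_involution (b := b) h2G
    (by rw [hG']; exact (dvd_mul_right _ _).mul_left _)
  have hpodd : ¬ 2 ∣ p := fun h => hp2 ((Nat.prime_dvd_prime_iff_eq Nat.prime_two hp).1 h).symm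
  have hzp : ¬ p ∣ orderOf z := fun h => by
    rw [hz] at h
    exact hp2 ((Nat.prime_dvd_prime_iff_eq hp Nat.prime_two).1 h)
  set C := Subgroup.centralizer ({z} : Set G) with hC
  have hidx : ¬ 2 ∣ C.index := fun h => by
    have h1 : C.index * d1 = p * e := by
      refine Nat.eq_of_mul_eq_mul_left (pow_pos two_pos b) ?_
      have := C.index_mul_card
      rw [hd1, hG'] at this
      linear_combination this
    rcases Nat.prime_two.dvd_mul.1 (h1 ▸ h.mul_right d1) with h' | h'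
    exacts [hpodd h', hqe h']
  choose V hV hVpar hVlt using fun χ : IrrCharacter G => exists_value hna χ hz
  have hW' : ∀ χ : IrrCharacter G, ∃ w : ℤ, (C.index : ℤ) * V χ =
      (Cfsg.charDegree (χ : G → ℂ) : ℤ) * w := fun χ => dvd_index_mul χ (hV χ)
  choose W hW using hW'
  have hWc : ∀ χ : IrrCharacter G, (W χ : ℂ) * (χ : G → ℂ) 1 = (C.index : ℂ) * (χ : G → ℂ) z :=
    fun χ => by
      rw [hV, ← charDegree_cast, mul_comm (W χ : ℂ)]
      exact_mod_cast (hW χ).symm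
  have hθθ' : ∀ θ'' ∈ D.Y, W θ'' = W θ := fun θ'' hθ'' => by
    have h0 : (θ : G → ℂ) 1 ≠ 0 := Characters.irr_one_ne_zero θ.2
    have h1 := hWc θ''
    rw [D.eqY θ'' hθ'' θ hθ z hzp, D.apply_Y S hθ hθ'', ← hWc θ] at h1
    exact_mod_cast mul_right_cancel₀ h0 h1
  obtain ⟨y, hy, hy1⟩ := (P : Subgroup G).bot_or_exists_ne_one.resolve_left S.card_ne_bot
  obtain ⟨N, hN⟩ := exists_count z y W hWc (2 ^ b)
  set m := 2 ^ b with hm
  have hZ : ∑ χ ∈ D.X, D.δ χ * ((Cfsg.charDegree (χ : G → ℂ) : ℤ) * W χ ^ m) -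
      (e : ℤ) * W θ ^ m = (Nat.card G : ℤ) * N := by
    apply Int.cast_injective (α := ℂ)
    push_cast
    rw [← hN, D.sum_split,
      Finset.sum_eq_zero (s := D.out) (fun χ hχ => by
        rw [D.out_val χ (D.mem_out.1 hχ).1 (D.mem_out.1 hχ).2 y hy hy1, map_zero, zero_mul]),
      Finset.sum_congr rfl (s₁ := D.X)
        (f := fun χ => conj ((χ : G → ℂ) y) * ((χ : G → ℂ) 1 * (W χ : ℂ) ^ m))
        (g := fun χ => (D.δ χ : ℂ) * ((Cfsg.charDegree (χ : G → ℂ) : ℂ) * (W χ : ℂ) ^ m))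
        (fun χ hχ => by rw [D.valX χ hχ y hy hy1, map_intCast, charDegree_cast]),
      Finset.sum_congr rfl (s₁ := D.Y)
        (g := fun θ'' => conj ((θ'' : G → ℂ) y) * ((e : ℂ) * (W θ : ℂ) ^ m))
        (fun θ'' hθ'' => by rw [hθθ' θ'' hθ'', D.apply_Y S hθ hθ'', ← hd, charDegree_cast]),
      ← Finset.sum_mul, ← map_sum, D.sum_Y_apply S hy hy1 hθ, map_neg, map_intCast, hε, add_zero]
    push_cast
    ring
  rw [← Finset.add_sum_erase _ _ D.triv_mem, ← hX', hsplit, D.δ_triv, charDegree_trivChar] at hZ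
  push_cast at hZ
  simp only [one_mul] at hZ
  have hW1 : ¬ 2 ∣ W (trivChar G) := by
    have h1 := hW (trivChar G)
    have h2 : V (trivChar G) = 1 := by
      have := hV (trivChar G); simp [trivChar] at this; exact_mod_cast this.symm
    rw [h2, charDegree_trivChar, mul_one, Nat.cast_one, one_mul] at h1
    rw [← h1]
    exact fun h => hidx (Int.natCast_dvd_natCast.1 h)
  have hWθ : ¬ 2 ∣ W θ := fun h => by
    have h1 : (2 : ℤ) ∣ (C.index : ℤ) * V θ := hW θ ▸ h.mul_left _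
    rcases Int.prime_two.dvd_or_dvd h1 with h2 | h2
    · exact hidx (Int.natCast_dvd_natCast.1 h2)
    · have h3 := hVpar θ
      rw [hd] at h3
      exact hqe (Int.natCast_dvd_natCast.1 (by simpa using dvd_add h3 h2))
  have hWA : ∀ χ ∈ A, W χ = 0 := fun χ hχ => by
    have hn : Cfsg.charDegree (χ : G → ℂ) = 2 ^ i := by rw [← hexA χ hχ, hi]
    have h1 : (2 : ℤ) ^ i ∣ V χ := by
      refine IsCoprime.dvd_of_dvd_mul_left ?_ (dvd_trans ?_ (dvd_index_mul χ (hV χ)))
      · exact Int.isCoprime_iff_nat_coprime.2 (by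
          simpa [Int.natAbs_pow] using (Nat.prime_two.coprime_iff_not_dvd.2 hidx).pow_left i)
      · exact_mod_cast Int.natCast_dvd_natCast.2 hn.symm.dvd
    have hv : V χ = 0 := by
      refine Int.eq_zero_of_dvd_of_natAbs_lt_natAbs h1 ?_
      have := hVlt χ (hXm (Finset.mem_filter.1 hχ).1).2
      rw [hn] at this
      simpa [Int.natAbs_pow] using this
    have h2 := hW χ
    rw [hv, mul_zero, hn] at h2
    refine (mul_eq_zero.1 h2.symm).resolve_left ?_
    positivity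
  set c := (B.filter fun χ => ¬ 2 ∣ W χ).card with hc
  have hdvd : (2 : ℤ) ^ b ∣ (1 : ℤ) - e - 2 * e * c := by
    have h0 : (2 : ℤ) ^ b ∣ (Nat.card G : ℤ) * N := by
      rw [hG']; push_cast
      exact ((dvd_mul_right _ _).mul_left _).mul_right _
    have h1 := two_pow_dvd_pow_sub_one hW1 b
    have h2 := (two_pow_dvd_pow_sub_one hWθ b).mul_left (e : ℤ)
    have h3 : (2 : ℤ) ^ b ∣ ∑ χ ∈ B, ((Cfsg.charDegree (χ : G → ℂ) : ℤ) * W χ ^ m) -
        2 * e * c := by
      have h4 : (2 * e * c : ℤ) = ∑ χ ∈ B, (if ¬ 2 ∣ W χ then 2 * (e : ℤ) else 0) := by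
        rw [← Finset.sum_filter, Finset.sum_const, hc]; simp; ring
      rw [h4, ← Finset.sum_sub_distrib]
      refine Finset.dvd_sum fun χ hχ => ?_
      rw [← hexB χ hχ, hp1']
      push_cast
      split_ifs with hw
      · rw [sub_zero]
        exact (two_pow_dvd_pow_of_even hw b).mul_left _
      · rw [show (2 : ℤ) * e * W χ ^ m - 2 * e = 2 * e * (W χ ^ m - 1) by ring]
        exact (two_pow_dvd_pow_sub_one hw b).mul_left _
    have h5 : ∑ χ ∈ A, ((Cfsg.charDegree (χ : G → ℂ) : ℤ) * W χ ^ m) = 0 :=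
      Finset.sum_eq_zero fun χ hχ => by
        rw [hWA χ hχ, zero_pow (by positivity), mul_zero]
    rw [h5, zero_sub] at hZ
    have h6 : (1 : ℤ) - e - 2 * e * c = (Nat.card G : ℤ) * N - (W (trivChar G) ^ m - 1) +
        (e * (W θ ^ m - 1)) +
        (∑ χ ∈ B, ((Cfsg.charDegree (χ : G → ℂ) : ℤ) * W χ ^ m) - 2 * e * c) := by
      linear_combination hZ
    rw [h6]
    exact dvd_add (dvd_add (dvd_sub h0 h1) h2) h3
  have hle : 2 ^ b ≤ e - 1 + 2 * e * c := by
    refine Nat.le_of_dvd (by omega) (Int.natCast_dvd_natCast.1 ?_)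
    push_cast [Nat.cast_sub (by omega : 1 ≤ e)]
    rw [show (e : ℤ) - 1 + 2 * e * c = -((1 : ℤ) - e - 2 * e * c) by ring]
    exact dvd_neg.2 hdvd
  have hce : 2 * e * c ≤ e * e := by
    have : c ≤ B.card := Finset.card_filter_le _ _
    rw [mul_comm 2 e, mul_assoc]
    exact Nat.mul_le_mul_left e (by omega)
  refine ⟨i, by omega, ?_⟩
  rw [hsyl]
  have h8 : (p + 1) * (p + 2) = 4 * (e * e) + 10 * e + 6 := by rw [hpe]; ring
  omega

/-- The degrees in the principal block. -/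
theorem degree_theta [IsSimpleGroup G] (S : Core P) (hna : ¬ IsMulCommutative G) (D : BlockData P)
    {θ : IrrCharacter G} (hθ : θ ∈ D.Y) {q b g₀ : ℕ} (hq : q.Prime) (hpq : p ≠ q)
    (hG : Nat.card G = p * q ^ b * g₀) (hg : g₀ < p - 1) :
    (∀ χ ∈ D.X, χ ≠ trivChar G → q ∣ Cfsg.charDegree (χ : G → ℂ)) ∧
    ¬ q ∣ Cfsg.charDegree (θ : G → ℂ) ∧ Cfsg.charDegree (θ : G → ℂ) ∣ g₀ ∧
    1 < Cfsg.charDegree (θ : G → ℂ) ∧ Cfsg.charDegree (θ : G → ℂ) < p - 1 ∧
    ((D.ε = 1 ∧ Cfsg.charDegree (θ : G → ℂ) = eIdx P) ∨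
      (D.ε = -1 ∧ Cfsg.charDegree (θ : G → ℂ) + eIdx P = p)) := by
  have hp := (Fact.out : p.Prime)
  have hg0 : 0 < g₀ := Nat.pos_of_ne_zero fun h => by
    rw [h, mul_zero] at hG; exact Nat.card_pos.ne' hG
  have hdvd : ∀ χ : IrrCharacter G, ¬ p ∣ Cfsg.charDegree (χ : G → ℂ) →
      ¬ q ∣ Cfsg.charDegree (χ : G → ℂ) → Cfsg.charDegree (χ : G → ℂ) ∣ g₀ := fun χ h1 h2 =>
    (Nat.Coprime.mul_right (hp.coprime_iff_not_dvd.2 h1).symm
      ((hq.coprime_iff_not_dvd.2 h2).symm.pow_right b)).dvd_of_dvd_mul_left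
      (hG ▸ charDegree_dvd_card χ)
  have hep : eIdx P < p := by
    have := S.eq_mul_add
    have : eIdx P * 1 ≤ eIdx P * kIdx P := Nat.mul_le_mul_left _ S.kIdx_pos
    omega
  have hX : ∀ χ ∈ D.X, χ ≠ trivChar G → q ∣ Cfsg.charDegree (χ : G → ℂ) := by
    intro χ hχ hne
    by_contra h
    have h1 := D.degX χ hχ
    have hpn : ¬ p ∣ Cfsg.charDegree (χ : G → ℂ) := by
      have h2 : (Cfsg.charDegree (χ : G → ℂ) : ℤ) ≡ D.δ χ [ZMOD (p : ℤ)] :=
        Int.modEq_iff_dvd.2 ⟨D.δ χ - qdim P χ, by rw [h1]; ring⟩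
      rcases D.δ_sign χ hχ with e | e <;> rw [e] at h2
      · exact not_dvd_of_modEq one_pos hp.one_lt (Or.inl rfl) h2
      · exact not_dvd_of_modEq one_pos hp.one_lt (Or.inr rfl) h2
    have h3 := Nat.le_of_dvd hg0 (hdvd χ hpn h)
    have h4 : Cfsg.charDegree (χ : G → ℂ) ≠ 1 := fun h' =>
      hne (SylowPrimeOrder.eq_trivChar_of_degree_one hna h')
    rcases D.δ_sign χ hχ with e | e <;> rw [e] at h1
    · rcases Nat.lt_or_ge (qdim P χ) 2 with hq' | hq'
      · interval_cases hq'' : qdim P χ <;> push_cast at h1 <;> omega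
      · have : (p : ℤ) * 2 ≤ (p : ℤ) * qdim P χ :=
          mul_le_mul_of_nonneg_left (by exact_mod_cast hq') (Int.natCast_nonneg p)
        omega
    · have : (0 : ℤ) ≤ (p : ℤ) * qdim P χ := by positivity
      omega
  have h1 := D.degY θ hθ
  have hpn : ¬ p ∣ Cfsg.charDegree (θ : G → ℂ) := by
    have h2 : (Cfsg.charDegree (θ : G → ℂ) : ℤ) ≡ D.ε * eIdx P [ZMOD (p : ℤ)] :=
      Int.modEq_iff_dvd.2 ⟨-(qdim P θ : ℤ), by rw [h1]; ring⟩
    rcases D.ε_sign with e | e <;> rw [e] at h2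
    · exact not_dvd_of_modEq S.eIdx_pos hep (Or.inl (one_mul _)) h2
    · exact not_dvd_of_modEq S.eIdx_pos hep (Or.inr (neg_one_mul _)) h2
  have hqn : ¬ q ∣ Cfsg.charDegree (θ : G → ℂ) := fun h => by
    classical
    have hr := D.rel_one S hθ
    rw [← Finset.add_sum_erase _ _ D.triv_mem, D.δ_triv, charDegree_trivChar, Nat.cast_one,
      one_mul] at hr
    have h2 : (q : ℤ) ∣ (1 : ℤ) := by
      refine (dvd_add_left (Finset.dvd_sum fun χ hχ => ?_)).1
        (hr ▸ (Int.natCast_dvd_natCast.2 h).mul_left D.ε)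
      obtain ⟨hne, hmem⟩ := Finset.mem_erase.1 hχ
      exact (Int.natCast_dvd_natCast.2 (hX χ hmem hne)).mul_left _
    exact hq.ne_one (Nat.dvd_one.1 (Int.natCast_dvd_natCast.1 (by exact_mod_cast h2)))
  have hdg := hdvd θ hpn hqn
  have hle := Nat.le_of_dvd hg0 hdg
  have hd1 : Cfsg.charDegree (θ : G → ℂ) ≠ 1 := fun h =>
    Finset.disjoint_left.1 D.disj D.triv_mem
      (SylowPrimeOrder.eq_trivChar_of_degree_one hna h ▸ hθ)
  have hd0 : Cfsg.charDegree (θ : G → ℂ) ≠ 0 := fun h => hpn (h ▸ dvd_zero p)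
  refine ⟨hX, hqn, hdg, by omega, by omega, ?_⟩
  rcases D.ε_sign with e | e <;> rw [e] at h1
  · left
    refine ⟨e, ?_⟩
    rcases Nat.eq_zero_or_pos (qdim P θ) with hz | hz
    · rw [hz] at h1; push_cast at h1; omega
    · have : (p : ℤ) * 1 ≤ (p : ℤ) * qdim P θ :=
        mul_le_mul_of_nonneg_left (by exact_mod_cast hz) (Int.natCast_nonneg p)
      omega
  · right
    refine ⟨e, ?_⟩
    rcases Nat.lt_or_ge (qdim P θ) 2 with hz | hz
    · interval_cases hz' : qdim P θ <;> push_cast at h1 <;> omega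
    · have : (p : ℤ) * 2 ≤ (p : ℤ) * qdim P θ :=
        mul_le_mul_of_nonneg_left (by exact_mod_cast hz) (Int.natCast_nonneg p)
      omega

/-- **Brauer–Tuan.** -/
theorem brauer_tuan {G : Type u} [Group G] [Finite G] [IsSimpleGroup G] (hG : ¬ IsCyclic G)
    (p q b g₀ : ℕ) (hp : p.Prime) (hq : q.Prime) (hpq : p ≠ q)
    (hG' : Nat.card G = p * q ^ b * g₀) (hg : g₀ < p - 1) :
    (∃ (m : ℕ) (F : Type) (_ : Field F) (_ : Fintype F), Fintype.card F = p ∧
      (p = 2 ^ m + 1 ∨ p = 2 ^ m - 1) ∧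
      Nonempty (G ≃* Matrix.ProjectiveSpecialLinearGroup (Fin 2) F)) ∨
    (∃ (m : ℕ) (F : Type) (_ : Field F) (_ : Fintype F), Fintype.card F = 2 ^ m ∧ p = 2 ^ m + 1 ∧
      3 < p ∧ Nonempty (G ≃* Matrix.ProjectiveSpecialLinearGroup (Fin 2) F)) := by
  classical
  haveI := Fintype.ofFinite G
  haveI := Fact.mk hp
  have hna : ¬ IsMulCommutative G := fun hc => hG (by
    letI : CommGroup G := { (inferInstance : Group G) with mul_comm := hc.1.comm }
    infer_instance)
  have hg0 : 0 < g₀ := Nat.pos_of_ne_zero fun h => by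
    rw [h, mul_zero] at hG'; exact Nat.card_pos.ne' hG'
  have hodd : p ≠ 2 := by omega
  obtain ⟨P⟩ : Nonempty (Sylow p G) := inferInstance
  have hP : Nat.card (P : Subgroup G) = p := by
    rw [P.card_eq_multiplicity]
    have hnd : ¬ p ∣ q ^ b * g₀ := fun h => by
      rcases hp.dvd_mul.1 h with h' | h'
      · exact hpq ((Nat.prime_dvd_prime_iff_eq hp hq).1 (hp.dvd_of_dvd_pow h'))
      · have := Nat.le_of_dvd hg0 h'; omega
    have hne : q ^ b * g₀ ≠ 0 := mul_ne_zero (pow_ne_zero _ hq.ne_zero) hg0.ne'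
    rw [hG', mul_assoc, Nat.factorization_mul hp.ne_zero hne, Finsupp.add_apply,
      Nat.factorization_eq_zero_of_not_dvd hnd, hp.factorization_self, add_zero, pow_one]
  obtain ⟨M₀, hM⟩ := exists_isPModular p hp
  haveI : M₀.IsPrime := hM.2.1.isPrime
  obtain ⟨χ, hχ, hχne, hχd⟩ := exists_degree_lt_pred hna hM hodd hP (P := P) hq hpq hG' hg
  have hperf : commutator G = ⊤ := by
    rcases (inferInstance : (commutator G).Normal).eq_bot_or_eq_top with h | h
    · exact absurd ⟨⟨fun a b => by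
        have := (Subgroup.commutator_eq_bot_iff_le_centralizer.1
          (show ⁅(⊤ : Subgroup G), (⊤ : Subgroup G)⁆ = ⊥ by rw [← commutator_def]; exact h))
          (Subgroup.mem_top a)
        exact (Subgroup.mem_centralizer_iff.1 this b (Subgroup.mem_top b)).symm⟩⟩ hna
    · exact h
  have S : Core P := ⟨hperf, hP, self_of_degree_lt hM hP hχ hχne hχd⟩
  obtain ⟨D⟩ := S.exists_blockData
  obtain ⟨θ, hθ⟩ : ∃ θ, θ ∈ D.Y := Finset.card_pos.1 (by rw [D.cardY]; exact S.kIdx_pos)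
  obtain ⟨hqX, hqd, hdg, hd1, hdlt, hcase⟩ := degree_theta S hna D hθ hq hpq hG' hg
  have hk := S.eq_mul_add
  have hk2 : 2 ≤ kIdx P := by
    by_contra h
    have h1 : kIdx P = 1 := by have := S.kIdx_pos; omega
    rw [h1, mul_one] at hk
    omega
  obtain ⟨θ', hθ', hne⟩ := Finset.exists_mem_ne (show 1 < D.Y.card by rw [D.cardY]; omega) θ
  have hcg := S.card_group
  rw [hG', mul_assoc] at hcg
  have hcg' := Nat.eq_of_mul_eq_mul_left hp.pos hcg
  have h2e : eIdx P * 2 ≤ eIdx P * kIdx P := Nat.mul_le_mul_left _ hk2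
  have hen : ¬ q ∣ eIdx P → eIdx P ∣ g₀ := fun h =>
    (((hq.coprime_iff_not_dvd.2 h).symm).pow_right b).dvd_of_dvd_mul_left
      (hcg' ▸ dvd_mul_right _ _)
  obtain ⟨m, hm, hbound⟩ : ∃ m, (p = 2 ^ m + 1 ∨ p = 2 ^ m - 1) ∧
      2 * Nat.card (Sylow p G) < (p + 1) * (p + 2) := by
    rcases hcase with ⟨hε, hd⟩ | ⟨hε, hde⟩
    · rw [hd] at hqd hdg
      obtain ⟨m, hm, hb⟩ := S.plus_case hna D hθ hθ' hne.symm hε hq hG' hg hd hdg hqd hk2 hqX
      exact ⟨m, Or.inr hm, hb⟩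
    · set d := Cfsg.charDegree (θ : G → ℂ) with hd
      have hqe : q ∣ eIdx P := by
        by_contra h
        have hcop : Nat.Coprime d (eIdx P) := by
          rw [← Nat.coprime_add_self_left, hde]
          refine hp.coprime_iff_not_dvd.2 fun h' => ?_
          have := Nat.le_of_dvd S.eIdx_pos h'
          omega
        have h1 := Nat.le_of_dvd hg0 (hcop.mul_dvd_of_dvd_of_dvd hdg (hen h))
        have h2 := Nat.mul_le_mul (show 1 ≤ d - 1 by omega) (show 1 ≤ eIdx P - 1 by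
          have := S.two_le_eIdx; omega)
        rw [Nat.sub_mul, Nat.mul_sub, one_mul, mul_one] at h2
        omega
      have hq2 : q = 2 := by
        have h1 : (q : ℤ) ∣ (d : ℤ) + 1 := by
          have hr := D.rel_one S hθ
          rw [hε, ← Finset.add_sum_erase _ _ D.triv_mem, D.δ_triv, charDegree_trivChar,
            Nat.cast_one, one_mul, neg_one_mul, ← hd] at hr
          rw [show (d : ℤ) + 1 = -∑ χ ∈ D.X.erase (trivChar G),
            D.δ χ * (Cfsg.charDegree (χ : G → ℂ) : ℤ) by linarith]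
          refine dvd_neg.2 (Finset.dvd_sum fun χ hχ => ?_)
          obtain ⟨hne', hmem⟩ := Finset.mem_erase.1 hχ
          exact (Int.natCast_dvd_natCast.2 (hqX χ hmem hne')).mul_left _
        have h3 : (q : ℤ) ∣ (eIdx P : ℤ) * ((kIdx P : ℤ) - 1) :=
          (Int.natCast_dvd_natCast.2 hqe).mul_right _
        have h4 : ((d : ℤ) + eIdx P) = eIdx P * kIdx P + 1 := by exact_mod_cast hde.trans hk
        have h5 : (q : ℤ) ∣ ((2 : ℕ) : ℤ) := by
          have := dvd_sub h1 h3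
          rwa [show (d : ℤ) + 1 - (eIdx P : ℤ) * ((kIdx P : ℤ) - 1) = ((2 : ℕ) : ℤ) by
            push_cast; linear_combination h4] at this
        exact (Nat.prime_dvd_prime_iff_eq hq Nat.prime_two).1 (Int.natCast_dvd_natCast.1 h5)
      subst hq2
      have hgd : g₀ = d := by
        obtain ⟨c, hc⟩ := hdg
        rcases c with _ | _ | c
        · omega
        · simpa using hc
        · exfalso
          have : d * 2 ≤ d * (c + 1 + 1) := Nat.mul_le_mul_left d (by omega)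
          omega
      subst hgd
      obtain ⟨s, -, hs⟩ := (Nat.dvd_prime_pow Nat.prime_two).1 (show eIdx P ∣ 2 ^ b by
        refine Nat.Coprime.dvd_of_dvd_mul_right ?_ (⟨_, hcg'⟩ : eIdx P ∣ 2 ^ b * d)
        rw [← Nat.coprime_add_self_right, hde]
        refine (hp.coprime_iff_not_dvd.2 fun h' => ?_).symm
        have := Nat.le_of_dvd S.eIdx_pos h'
        omega)
      have hs0 : 0 < s := Nat.pos_of_ne_zero fun h => by
        have := S.two_le_eIdx
        rw [hs, h] at this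
        simp at this
      obtain ⟨m, hm, hb⟩ := S.minus_case hna D hθ hθ' hne.symm hε hd.symm hde hs hs0
        (by rw [hG', mul_assoc]) hqd hqX
      exact ⟨m, Or.inl hm, hb⟩
  rcases Setup.classification (P := P) ⟨S, hbound⟩ with
    ⟨F, i1, i2, hF, -, e⟩ | h
  · exact Or.inl ⟨m, F, i1, i2, hF, hm, e⟩
  · exact Or.inr h

end CfsgLib.LargePrime
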