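import Cfsg.Agent.LargePrime.Multiplicity
import Cfsg.Agent.Blocks.LocalRing

/-!
# The principal block of a self-centralizing Sylow subgroup of order `p`

`X` consists of `e` characters with value `δ = ±1` on `P ∖ 1`, `Y` of `k` characters agreeing on
`p`-regular elements; all other characters vanish on `P ∖ 1`.
-/

set_option autoImplicit false
set_option linter.style.haveILetI false
set_option linter.unusedSectionVars false

namespace CfsgLib.LargePrime

open Cfsg CfsgLib.BlocksFrobenius CfsgLib.PrincipalBlock CfsgLib.Blocks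
open scoped ComplexConjugate

universe u

variable {G : Type u} [Group G] [Fintype G] {p : ℕ} [Fact p.Prime]

/-- The principal block. -/
structure BlockData (P : Sylow p G) where
  X : Finset (IrrCharacter G)
  Y : Finset (IrrCharacter G)
  δ : IrrCharacter G → ℤ
  ε : ℤ
  disj : Disjoint X Y
  triv_mem : trivChar G ∈ X
  δ_triv : δ (trivChar G) = 1
  cardX : X.card = eIdx P
  cardY : Y.card = kIdx P
  δ_sign : ∀ χ ∈ X, δ χ = 1 ∨ δ χ = -1
  ε_sign : ε = 1 ∨ ε = -1
  valX : ∀ χ ∈ X, ∀ y : G, y ∈ (P : Subgroup G) → y ≠ 1 → (χ : G → ℂ) y = (δ χ : ℂ)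
  degX : ∀ χ ∈ X, (Cfsg.charDegree (χ : G → ℂ) : ℤ) =
    (p : ℤ) * qdim P χ - ((p : ℤ) - 1) * δ χ
  degY : ∀ θ ∈ Y, (Cfsg.charDegree (θ : G → ℂ) : ℤ) = (p : ℤ) * qdim P θ + ε * eIdx P
  eqY : ∀ θ ∈ Y, ∀ θ' ∈ Y, ∀ g : G, ¬ p ∣ orderOf g → (θ : G → ℂ) g = (θ' : G → ℂ) g
  rel : ∀ θ ∈ Y, ∀ g : G, ¬ p ∣ orderOf g →
    (ε : ℂ) * (θ : G → ℂ) g = ∑ χ ∈ X, (δ χ : ℂ) * (χ : G → ℂ) g
  out_val : ∀ χ : IrrCharacter G, χ ∉ X → χ ∉ Y →
    ∀ y : G, y ∈ (P : Subgroup G) → y ≠ 1 → (χ : G → ℂ) y = 0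

/-- A frame with the principal character outside the family. -/
theorem exists_frame_triv {P : Sylow p G} {M₀ : Ideal AlgInt} [M₀.IsPrime]
    (hM : Cfsg.IsPModular p M₀) (hP : Nat.card (P : Subgroup G) = p) (he : 2 ≤ Nat.card (aut P))
    [Fintype (Orb P)] [DecidableEq (Orb P)] [Nonempty (Orb P)] :
    ∃ F : Frame M₀ P, F.d = 0 ∧ F.rest.card = Nat.card (aut P) ∧
      (∀ χ ∈ F.rest, F.aval χ = 1 ∨ F.aval χ = -1) ∧ trivChar G ∈ F.rest := by
  classical
  obtain ⟨F, hd, hc, hs⟩ := exists_frame_prime hM hP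
  by_cases htr : trivChar G ∈ F.rest
  · exact ⟨F, hd, hc, hs, htr⟩
  have hsub : Subsingleton (Orb P) := by
    rcases subsingleton_or_nontrivial (Orb P) with h | h
    · exact h
    · exact absurd F.trivChar_mem_rest htr
  obtain ⟨χ₀, hχ₀⟩ := Finset.card_pos.1 (show 0 < F.rest.card by omega)
  have hne : χ₀ ≠ trivChar G := fun h => htr (h ▸ hχ₀)
  let F' : Frame M₀ P :=
    { η := fun _ => χ₀
      inj := fun a b _ => Subsingleton.elim a b
      mem := fun _ => (F.mem_rest.1 hχ₀).1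
      d := 0
      δ := -F.aval χ₀
      sign := by rcases hs χ₀ hχ₀ with e | e <;> simp [e]
      oc_eta := fun o u => by
        rw [F.oc_eq_aval hχ₀, if_pos (Subsingleton.elim _ _)]; ring
      oc_rest := fun χ _ _ o o' => by rw [Subsingleton.elim o o'] }
  refine ⟨F', rfl, ?_, fun χ hχ => ?_, F'.mem_rest.2 ⟨trivChar_mem, fun ⟨u, hu⟩ => hne hu⟩⟩
  · have h1 := F'.sum_block (fun _ => (1 : ℕ))
    have h2 := F.sum_block (fun _ => (1 : ℕ))
    simp only [Finset.sum_const, smul_eq_mul, mul_one, Finset.card_univ] at h1 h2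
    omega
  · show F.aval χ = 1 ∨ F.aval χ = -1
    by_cases hχF : χ ∈ F.rest
    · exact hs χ hχF
    · left
      have hmem := (F'.mem_rest.1 hχ).1
      obtain ⟨u, rfl⟩ : χ ∈ Set.range F.η := by
        by_contra h; exact hχF (F.mem_rest.2 ⟨hmem, h⟩)
      obtain ⟨v, hv⟩ : trivChar G ∈ Set.range F.η := by
        by_contra h; exact htr (F.mem_rest.2 ⟨trivChar_mem, h⟩)
      rw [show F.η u = trivChar G by rw [Subsingleton.elim u v, hv]]
      exact F.aval_trivChar

theorem sum_conj_eq_zero_imp {ι : Type*} {s : Finset ι} {f : ι → ℂ}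
    (h : ∑ i ∈ s, f i * conj (f i) = 0) : ∀ i ∈ s, f i = 0 := by
  intro i hi
  have h' : ∑ i ∈ s, Complex.normSq (f i) = 0 := by
    apply Complex.ofReal_injective
    rw [Complex.ofReal_sum, Complex.ofReal_zero, ← h]
    exact Finset.sum_congr rfl fun j _ => (Complex.mul_conj (f j)).symm
  exact Complex.normSq_eq_zero.1
    ((Finset.sum_eq_zero_iff_of_nonneg fun j _ => Complex.normSq_nonneg (f j)).1 h' i hi)

open Classical in
theorem Core.exists_blockData {P : Sylow p G} (S : Core P) : Nonempty (BlockData P) := by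
  obtain ⟨M₀, hM⟩ := exists_isPModular p (Fact.out : p.Prime)
  haveI : M₀.IsPrime := hM.2.1.isPrime
  have h := S.semireg
  haveI := finite_orb h
  haveI := Fintype.ofFinite (Orb P)
  haveI : Nonempty (Orb P) := Fintype.card_pos_iff.1 (by
    rw [← Nat.card_eq_fintype_card, ← S.kIdx_eq]; exact S.kIdx_pos)
  obtain ⟨F, hd, hc, hs, htr⟩ := exists_frame_triv hM S.card (P := P)
    (by rw [S.card_aut]; exact S.two_le_eIdx)
  have hk : (p : ℤ) - 1 = (eIdx P : ℤ) * (Fintype.card (Orb P) : ℤ) := by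
    have : (p : ℤ) = eIdx P * kIdx P + 1 := by exact_mod_cast S.eq_mul_add
    rw [← Nat.card_eq_fintype_card, ← S.kIdx_eq]; linarith
  refine ⟨{
    X := F.rest
    Y := Finset.univ.image F.η
    δ := F.aval
    ε := F.δ
    disj := Finset.disjoint_left.2 fun χ hχ hχ' => (F.mem_rest.1 hχ).2 (by
      obtain ⟨u, -, rfl⟩ := Finset.mem_image.1 hχ'; exact ⟨u, rfl⟩)
    triv_mem := htr
    δ_triv := F.aval_trivChar
    cardX := by rw [hc, S.card_aut]
    cardY := by
      rw [Finset.card_image_of_injective _ F.inj, Finset.card_univ, ← Nat.card_eq_fintype_card,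
        ← S.kIdx_eq]
    δ_sign := hs
    ε_sign := F.sign
    valX := fun χ hχ y hy hy1 => F.rest_apply h hM hχ (z := y) ?_ hy hy1
    degX := fun χ hχ => ?_
    degY := fun θ hθ => ?_
    eqY := fun θ hθ θ' hθ' g hg => ?_
    rel := fun θ hθ g hg => ?_
    out_val := fun χ hχ hχ' y hy hy1 => ?_ }⟩
  · have := isPPart_of_mul (p := p) (Commute.one_right y) (isPow_of_mem hy)
      (by rw [orderOf_one]; exact (Fact.out : p.Prime).not_dvd_one)
    rwa [mul_one] at this
  · rw [charDegree_eq h, Finset.sum_congr rfl fun o _ => F.oc_eq_aval hχ o, Finset.sum_const,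
      Finset.card_univ, nsmul_eq_mul, S.card, S.card_aut, hk, qdim]
    ring
  · obtain ⟨u, -, rfl⟩ := Finset.mem_image.1 hθ
    rw [charDegree_eq h, Finset.sum_congr rfl (g := fun o => -(if o = u then F.δ else 0))
      fun o _ => by rw [F.oc_eta, hd]; split_ifs <;> ring, S.card, S.card_aut, qdim]
    simp only [Finset.sum_neg_distrib, Finset.sum_ite_eq', Finset.mem_univ, if_true]
    ring
  · obtain ⟨u, -, rfl⟩ := Finset.mem_image.1 hθ
    obtain ⟨v, -, rfl⟩ := Finset.mem_image.1 hθ'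
    exact F.eta_eq hM u v hg
  · obtain ⟨u, -, rfl⟩ := Finset.mem_image.1 hθ
    have := F.regular_identity hM u hg
    rw [hd] at this
    push_cast at this
    linear_combination -this
  · have hcol := h.sum_column hM hy hy1 hy
    rw [if_pos (IsConj.refl y)] at hcol
    have hall := Characters.sum_irr_mul_conj_of_isConj (IsConj.refl y)
    rw [S.centralizer_eq hy hy1] at hall
    have hz : ∑ φ : IrrCharacter G,
        (if φ ∈ Cfsg.principalBlock M₀ G then 0 else (φ : G → ℂ) y) *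
          conj (if φ ∈ Cfsg.principalBlock M₀ G then 0 else (φ : G → ℂ) y) = 0 := by
      refine Eq.trans ?_ (sub_eq_zero.2 (hall.trans hcol.symm))
      rw [← Finset.sum_sub_distrib]
      refine Finset.sum_congr rfl fun φ _ => ?_
      split_ifs <;> simp
    have hnotB : χ ∉ Cfsg.principalBlock M₀ G := by
      rw [F.eq_union]
      rintro (h1 | ⟨u, hu⟩)
      · exact hχ h1
      · exact hχ' (Finset.mem_image.2 ⟨u, Finset.mem_univ u, hu⟩)
    have := sum_conj_eq_zero_imp hz χ (Finset.mem_univ χ)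
    rwa [if_neg hnotB] at this

namespace BlockData

variable {P : Sylow p G} (D : BlockData P)

/-- The characters outside the block. -/
noncomputable def out : Finset (IrrCharacter G) :=
  haveI := Classical.decEq (IrrCharacter G)
  Finset.univ \ (D.X ∪ D.Y)

theorem mem_out {χ : IrrCharacter G} : χ ∈ D.out ↔ χ ∉ D.X ∧ χ ∉ D.Y := by
  classical
  simp [out]

theorem sum_split {R : Type*} [AddCommMonoid R] (f : IrrCharacter G → R) :
    ∑ χ, f χ = ∑ χ ∈ D.X, f χ + ∑ χ ∈ D.Y, f χ + ∑ χ ∈ D.out, f χ := by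
  classical
  rw [← Finset.sum_union D.disj, ← Finset.sum_union]
  · refine Finset.sum_congr ?_ fun _ _ => rfl
    ext χ
    simp only [out, Finset.mem_union, Finset.mem_sdiff, Finset.mem_univ, true_and, true_iff]
    tauto
  · refine Finset.disjoint_left.2 fun χ hχ hχ' => ?_
    rcases Finset.mem_union.1 hχ with h | h
    exacts [(D.mem_out.1 hχ').1 h, (D.mem_out.1 hχ').2 h]

include D

theorem sum_P (S : Setup P) [Fintype ↥(P : Subgroup G)] (χ : IrrCharacter G) :
    ∑ y : ↥(P : Subgroup G), (χ : G → ℂ) y = (p : ℂ) * qdim P χ := by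
  have h := sum_mult_eq χ (1 : ↥(P : Subgroup G) →* ℂˣ)
  simp only [MonoidHom.one_apply, Units.val_one, map_one, mul_one, S.card] at h
  exact h

theorem deg_out (S : Setup P) {χ : IrrCharacter G} (hχ : χ ∈ D.out) :
    Cfsg.charDegree (χ : G → ℂ) = p * qdim P χ := by
  classical
  letI := Fintype.ofFinite ↥(P : Subgroup G)
  obtain ⟨h1, h2⟩ := D.mem_out.1 hχ
  apply Nat.cast_injective (R := ℂ)
  rw [charDegree_cast, Nat.cast_mul, ← D.sum_P S χ, Finset.sum_eq_single 1]
  · rfl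
  · intro y _ hy
    exact D.out_val χ h1 h2 y y.2 fun h => hy (Subtype.ext h)
  · intro h; exact absurd (Finset.mem_univ _) h

theorem sum_Y_norm (S : Setup P) {y : G} (hy : y ∈ (P : Subgroup G)) (hy1 : y ≠ 1) :
    ∑ θ ∈ D.Y, (θ : G → ℂ) y * conj ((θ : G → ℂ) y) = (p : ℂ) - eIdx P := by
  have hall := Characters.sum_irr_mul_conj_of_isConj (IsConj.refl y)
  rw [S.centralizer_eq hy hy1, S.card, D.sum_split] at hall
  rw [Finset.sum_congr rfl (g := fun _ => (1 : ℂ)) (fun χ hχ => by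
      rw [D.valX χ hχ y hy hy1, map_intCast, ← Int.cast_mul]
      rcases D.δ_sign χ hχ with e | e <;> rw [e] <;> norm_num),
    Finset.sum_eq_zero (s := D.out) (fun χ hχ => by
      rw [D.out_val χ (D.mem_out.1 hχ).1 (D.mem_out.1 hχ).2 y hy hy1, zero_mul]),
    Finset.sum_const, nsmul_eq_mul, mul_one, D.cardX, add_zero] at hall
  linear_combination hall

theorem sum_δ_qdim (S : Setup P) {θ : IrrCharacter G} (hθ : θ ∈ D.Y) :
    ∑ χ ∈ D.X, D.δ χ * (qdim P χ : ℤ) = D.ε * qdim P θ + eIdx P := by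
  have h := D.rel θ hθ 1 (by rw [orderOf_one]; exact (Fact.out : p.Prime).not_dvd_one)
  simp only [← charDegree_cast] at h
  have h' : D.ε * (Cfsg.charDegree (θ : G → ℂ) : ℤ) =
      ∑ χ ∈ D.X, D.δ χ * (Cfsg.charDegree (χ : G → ℂ) : ℤ) := by exact_mod_cast h
  have hsq : ∀ {a : ℤ}, (a = 1 ∨ a = -1) → a * a = 1 := by
    rintro a (rfl | rfl) <;> norm_num
  rw [D.degY θ hθ, Finset.sum_congr rfl (g := fun χ => (p : ℤ) * (D.δ χ * qdim P χ) - ((p : ℤ) - 1))
    fun χ hχ => by
      rw [D.degX χ hχ]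
      linear_combination (-((p : ℤ) - 1)) * hsq (D.δ_sign χ hχ),
    Finset.sum_sub_distrib, ← Finset.mul_sum, Finset.sum_const, nsmul_eq_mul, D.cardX] at h'
  have hp : (p : ℤ) ≠ 0 := by exact_mod_cast (Fact.out : p.Prime).ne_zero
  refine mul_left_cancel₀ hp ?_
  linear_combination (eIdx P : ℤ) * hsq D.ε_sign - h'

/-- The relation on `N / P`: the combination is the regular character. -/
theorem sum_δ_bar (S : Setup P) {θ : IrrCharacter G} (hθ : θ ∈ D.Y) (q : Quot' P)
    [Decidable (q = 1)] :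
    ∑ χ ∈ D.X, (D.δ χ : ℂ) * bar P χ q - (D.ε : ℂ) * bar P θ q =
      if q = 1 then (eIdx P : ℂ) else 0 := by
  split_ifs with hq
  · subst hq
    simp only [S.bar_one]
    have h := congrArg (Int.cast (R := ℂ)) (D.sum_δ_qdim S hθ)
    push_cast at h
    linear_combination h
  · obtain ⟨g, hg, hgP, rfl⟩ := S.exists_rep hq
    simp only [S.bar_mk _ hg hgP]
    rw [D.rel θ hθ g (S.not_dvd_orderOf hg hgP), sub_self]

/-- Every linear character of `N / P` occurs once in the combination. -/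
theorem sum_δ_M (S : Setup P) {θ : IrrCharacter G} (hθ : θ ∈ D.Y) (μ : Quot' P →* ℂˣ) :
    ∑ χ ∈ D.X, D.δ χ * (M P χ μ : ℤ) - D.ε * M P θ μ = 1 := by
  classical
  letI := Fintype.ofFinite (Quot' P)
  have he : (eIdx P : ℂ) ≠ 0 := Nat.cast_ne_zero.2 S.eIdx_pos.ne'
  apply Int.cast_injective (α := ℂ)
  refine mul_left_cancel₀ he ?_
  push_cast
  rw [mul_sub, Finset.mul_sum, Finset.sum_congr rfl (g := fun χ => ∑ q : Quot' P,
      (D.δ χ : ℂ) * bar P χ q * conj (μ q : ℂ)) fun χ _ => by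
    rw [← mul_assoc, mul_comm (eIdx P : ℂ), mul_assoc, ← S.sum_bar_mul, Finset.mul_sum]
    exact Finset.sum_congr rfl fun q _ => (mul_assoc _ _ _).symm,
    ← mul_assoc, mul_comm (eIdx P : ℂ) (D.ε : ℂ), mul_assoc, ← S.sum_bar_mul, Finset.sum_comm,
    Finset.mul_sum, ← Finset.sum_sub_distrib, mul_one,
    Finset.sum_congr rfl (g := fun q => if q = 1 then (eIdx P : ℂ) * conj (μ q : ℂ) else 0)
      fun q _ => by
        rw [← Finset.sum_mul, ← mul_assoc, ← sub_mul, D.sum_δ_bar S hθ q]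
        split_ifs <;> simp]
  rw [Finset.sum_ite_eq' Finset.univ (1 : Quot' P), if_pos (Finset.mem_univ _), map_one,
    Units.val_one, map_one, mul_one]

theorem exists_mem_Y (S : Setup P) : ∃ θ, θ ∈ D.Y :=
  Finset.card_pos.1 (by rw [D.cardY]; exact S.kIdx_pos)

end BlockData

end CfsgLib.LargePrime
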