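import Cfsg.Agent.LargePrime.Arith
import Cfsg.Agent.LargePrime.Block
import Cfsg.Agent.Characters.Linear

/-!
# Degrees and multiplicities

The degrees in the principal block, and the decomposition of the permutation character on the
Sylow subgroups: every element of `N ∖ P` normalizes exactly `n + 1` Sylow subgroups.
-/

set_option autoImplicit false
set_option linter.style.haveILetI false
set_option linter.unusedSectionVars false

namespace CfsgLib.LargePrime

open Cfsg CfsgLib.BlocksFrobenius CfsgLib.PrincipalBlock CfsgLib.Blocks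
open scoped ComplexConjugate

universe u

variable {G : Type u} [Group G] [Fintype G] {p : ℕ} [Fact p.Prime] {P : Sylow p G}

/-- A perfect group has one linear character. -/
theorem eq_trivChar_of_perfect (hG : commutator G = ⊤) {χ : IrrCharacter G}
    (h : Cfsg.charDegree (χ : G → ℂ) = 1) : χ = trivChar G := by
  obtain ⟨f, hf⟩ := Characters.exists_hom_of_degree_one
    (Characters.isCharacter_of_isIrr χ.2) (show (χ : G → ℂ) 1 = 1 by rw [← charDegree_cast, h, Nat.cast_one])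
  have hle : commutator G ≤ f.ker := Abelianization.commutator_subset_ker f
  rw [hG, top_le_iff] at hle
  refine Subtype.ext (funext fun g => ?_)
  have hg : f g = 1 := MonoidHom.mem_ker.1 (hle ▸ Subgroup.mem_top g)
  rw [hf, trivChar_apply]
  simp [hg]

theorem charDegree_trivChar : Cfsg.charDegree ((trivChar G : IrrCharacter G) : G → ℂ) = 1 := by
  simp [Cfsg.charDegree]

theorem sum_charDegree_sq :
    ∑ χ : IrrCharacter G, Cfsg.charDegree (χ : G → ℂ) ^ 2 = Nat.card G := by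
  apply Nat.cast_injective (R := ℂ)
  rw [Nat.cast_sum, ← Characters.sum_degree_sq]
  exact Finset.sum_congr rfl fun χ _ => by rw [Nat.cast_pow, charDegree_cast]

namespace Setup

variable (S : Setup P)
include S

theorem exists_cofactor {χ : IrrCharacter G} (h : ¬ p ∣ Cfsg.charDegree (χ : G → ℂ)) :
    ∃ c, Cfsg.charDegree (χ : G → ℂ) * c = eIdx P * (1 + nIdx p G * p) := by
  have h1 := charDegree_dvd_card χ
  rw [S.card_group] at h1
  obtain ⟨c, hc⟩ := ((Fact.out : p.Prime).coprime_iff_not_dvd.2 h).symm.dvd_of_dvd_mul_left h1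
  exact ⟨c, hc.symm⟩

theorem M_trivChar : M P (trivChar G) 1 = 1 := by
  classical
  letI := Fintype.ofFinite (Quot' P)
  letI := Fintype.ofFinite ↥(P : Subgroup G)
  have hp : (p : ℂ) ≠ 0 := Nat.cast_ne_zero.2 (Fact.out : p.Prime).ne_zero
  have h := S.sum_bar_mul (trivChar G) 1
  rw [Finset.sum_congr rfl (g := fun _ => (1 : ℂ)) fun q _ => by
      rw [MonoidHom.one_apply, Units.val_one, map_one, mul_one, bar, finsum_eq_sum_of_fintype]
      simp only [trivChar_apply, Finset.sum_const, Finset.card_univ, nsmul_one]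
      rw [← Nat.card_eq_fintype_card, S.card, inv_mul_cancel₀ hp],
    Finset.sum_const, nsmul_one, Finset.card_univ, ← Nat.card_eq_fintype_card, S.card_quot] at h
  have he : (eIdx P : ℂ) ≠ 0 := Nat.cast_ne_zero.2 S.eIdx_pos.ne'
  exact_mod_cast (mul_eq_left₀ he).1 h.symm

theorem qdim_trivChar : qdim P (trivChar G) = 1 := by
  classical
  letI := Fintype.ofFinite ↥(P : Subgroup G)
  have h := sum_mult_eq (trivChar G) (1 : ↥(P : Subgroup G) →* ℂˣ)
  simp only [trivChar_apply, MonoidHom.one_apply, Units.val_one, map_one, mul_one,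
    Finset.sum_const, Finset.card_univ, nsmul_one, ← Nat.card_eq_fintype_card, S.card] at h
  have hp : (p : ℂ) ≠ 0 := Nat.cast_ne_zero.2 (Fact.out : p.Prime).ne_zero
  exact_mod_cast (mul_eq_left₀ hp).1 h.symm

end Setup

theorem fixCount_one (p : ℕ) : fixCount p (1 : G) = Nat.card (Sylow p G) := by
  rw [fixCount]
  exact Nat.card_congr (Equiv.subtypeUnivEquiv fun Q => by simp)

namespace BlockData

variable (D : BlockData P) (S : Setup P)

/-- Characters of degree `1 + n p` in the block. -/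
noncomputable def aNum : ℕ :=
  open scoped Classical in
  ((D.X.erase (trivChar G)).filter fun χ => D.δ χ = 1).card

/-- Characters of degree `p - 1` among the `e`. -/
noncomputable def bNum : ℕ :=
  open scoped Classical in
  ((D.X.erase (trivChar G)).filter fun χ => ¬ D.δ χ = 1).card

include D S

theorem X_cases {χ : IrrCharacter G} (hχ : χ ∈ D.X) (hne : χ ≠ trivChar G) :
    (D.δ χ = 1 ∧ Cfsg.charDegree (χ : G → ℂ) = 1 + nIdx p G * p ∧ qdim P χ = nIdx p G + 1) ∨
      (D.δ χ = -1 ∧ Cfsg.charDegree (χ : G → ℂ) + 1 = p ∧ qdim P χ = 0 ∧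
        kIdx P ∣ nIdx p G + 1) := by
  classical
  have hp := (Fact.out : p.Prime)
  have hdX := D.degX χ hχ
  set d := Cfsg.charDegree (χ : G → ℂ) with hd
  have hd0 : 0 < d := Nat.pos_of_ne_zero (charDegree_ne_zero χ)
  have hmod : (d : ℤ) ≡ D.δ χ [ZMOD (p : ℤ)] :=
    Int.modEq_iff_dvd.2 ⟨D.δ χ - qdim P χ, by rw [hdX]; ring⟩
  have hnd : ¬ p ∣ d := fun h => by
    have h1 := dvd_add (Int.modEq_iff_dvd.1 hmod) (Int.natCast_dvd_natCast.2 h)
    rw [sub_add_cancel] at h1
    rcases D.δ_sign χ hχ with e | e <;> rw [e] at h1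
    · exact hp.one_lt.ne' (Nat.dvd_one.1 (Int.natCast_dvd_natCast.1 (by exact_mod_cast h1)))
    · exact hp.one_lt.ne' (Nat.dvd_one.1 (Int.natCast_dvd_natCast.1 (by exact_mod_cast (dvd_neg.1 h1))))
  obtain ⟨c, hc⟩ := S.exists_cofactor hnd
  rcases D.δ_sign χ hχ with e | e <;> rw [e] at hmod hdX
  · left
    rcases degree_one S.eq_mul_add S.two_mul_nIdx_le S.kIdx_pos S.eIdx_pos hc hmod with h | h
    · exact absurd (eq_trivChar_of_perfect S.perfect (hd ▸ h)) hne
    · refine ⟨e, h, ?_⟩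
      replace h : d = 1 + nIdx p G * p := h
      rw [h] at hdX
      push_cast at hdX
      have h2 : (p : ℤ) * (qdim P χ : ℤ) = (p : ℤ) * (nIdx p G + 1) := by linear_combination -hdX
      exact_mod_cast mul_left_cancel₀ (by exact_mod_cast hp.ne_zero) h2
  · right
    have hlt : d < p * c := by
      refine Nat.lt_of_mul_lt_mul_left (a := d) ?_
      rw [show d * (p * c) = p * (d * c) by ring, hc, ← S.card_group, ← sum_charDegree_sq]
      have h1 : d ^ 2 + 1 ≤ ∑ ψ : IrrCharacter G, Cfsg.charDegree (ψ : G → ℂ) ^ 2 := by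
        refine le_trans ?_ (Finset.sum_le_sum_of_subset (Finset.subset_univ {χ, trivChar G}))
        rw [Finset.sum_pair hne, charDegree_trivChar, one_pow]
      rw [sq] at h1
      omega
    obtain ⟨h, hk⟩ := degree_neg_one S.eq_mul_add S.two_mul_nIdx_le S.kIdx_pos S.eIdx_pos hd0 hlt
      hc hmod
    refine ⟨e, h, ?_, hk⟩
    have h' : (d : ℤ) + 1 = p := by exact_mod_cast h
    have h2 : (p : ℤ) * (qdim P χ : ℤ) = 0 := by linear_combination h' - hdX
    exact_mod_cast (mul_eq_zero.1 h2).resolve_left (by exact_mod_cast hp.ne_zero)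

theorem deg_Y_eq {θ θ' : IrrCharacter G} (hθ : θ ∈ D.Y) (hθ' : θ' ∈ D.Y) :
    Cfsg.charDegree (θ : G → ℂ) = Cfsg.charDegree (θ' : G → ℂ) := by
  apply Nat.cast_injective (R := ℂ)
  rw [charDegree_cast, charDegree_cast]
  exact D.eqY θ hθ θ' hθ' 1 (by rw [orderOf_one]; exact (Fact.out : p.Prime).not_dvd_one)

theorem ne_trivChar_of_mem_Y {θ : IrrCharacter G} (hθ : θ ∈ D.Y) : θ ≠ trivChar G := fun h =>
  Finset.disjoint_left.1 D.disj D.triv_mem (h ▸ hθ)

theorem Y_cases {θ : IrrCharacter G} (hθ : θ ∈ D.Y) :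
    (D.ε = 1 ∧ Cfsg.charDegree (θ : G → ℂ) = eIdx P ∧ qdim P θ = 0) ∨
      (D.ε = -1 ∧ 0 < qdim P θ ∧ Cfsg.charDegree (θ : G → ℂ) + eIdx P = qdim P θ * p ∧
        nIdx p G + 1 = kIdx P * qdim P θ) := by
  classical
  have hp := (Fact.out : p.Prime)
  have hdY := D.degY θ hθ
  have hpe := S.eq_mul_add
  set d := Cfsg.charDegree (θ : G → ℂ) with hd
  have hd0 : 0 < d := Nat.pos_of_ne_zero (charDegree_ne_zero θ)
  have hmod : (d : ℤ) ≡ D.ε * eIdx P [ZMOD (p : ℤ)] :=
    Int.modEq_iff_dvd.2 ⟨-(qdim P θ : ℤ), by rw [hdY]; ring⟩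
  have hep : eIdx P < p := by
    have : eIdx P * 1 ≤ eIdx P * kIdx P := Nat.mul_le_mul_left _ S.kIdx_pos
    omega
  have hnd : ¬ p ∣ d := fun h => by
    have h1 := dvd_add (Int.modEq_iff_dvd.1 hmod) (Int.natCast_dvd_natCast.2 h)
    rw [sub_add_cancel] at h1
    have h2 : (p : ℤ) ∣ (eIdx P : ℤ) := by
      rcases D.ε_sign with e | e <;> rw [e] at h1
      · simpa using h1
      · simpa using h1
    have := Nat.le_of_dvd S.eIdx_pos (Int.natCast_dvd_natCast.1 h2)
    omega
  obtain ⟨c, hc⟩ := S.exists_cofactor hnd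
  rcases D.ε_sign with e | e <;> rw [e] at hmod hdY
  · left
    have hsmall : d < eIdx P * (1 + nIdx p G * p) := by
      have hle : d ≤ eIdx P * (1 + nIdx p G * p) :=
        Nat.le_of_dvd (Nat.mul_pos S.eIdx_pos (by omega)) ⟨c, hc.symm⟩
      refine lt_of_le_of_ne hle fun he => ?_
      have h1 : kIdx P * d ^ 2 ≤ Nat.card G := by
        rw [← sum_charDegree_sq]
        refine le_trans (le_of_eq ?_) (Finset.sum_le_sum_of_subset (Finset.subset_univ D.Y))
        rw [Finset.sum_congr rfl (g := fun _ => d ^ 2) fun ψ hψ => by rw [D.deg_Y_eq S hψ hθ],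
          Finset.sum_const, smul_eq_mul, D.cardY]
      rw [S.card_group, ← he, sq, ← mul_assoc] at h1
      have h2 : kIdx P * d ≤ p := Nat.le_of_mul_le_mul_right h1 hd0
      have h3 : kIdx P * eIdx P * (1 + nIdx p G * p) ≤ p := by rw [mul_assoc, ← he]; exact h2
      have h5 : 1 * (1 + 1 * p) ≤ kIdx P * eIdx P * (1 + nIdx p G * p) :=
        Nat.mul_le_mul (Nat.one_le_iff_ne_zero.2
          (Nat.mul_ne_zero S.kIdx_pos.ne' S.eIdx_pos.ne'))
          (by have := Nat.mul_le_mul_right p (show 1 ≤ nIdx p G from S.nIdx_pos); omega)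
      omega
    have h := degree_e hp hpe S.two_mul_nIdx_le S.kIdx_pos S.eIdx_pos hsmall hc
      (by simpa using hmod)
    refine ⟨e, h, ?_⟩
    rw [h] at hdY
    have h2 : (p : ℤ) * (qdim P θ : ℤ) = 0 := by linear_combination -hdY
    exact_mod_cast (mul_eq_zero.1 h2).resolve_left (by exact_mod_cast hp.ne_zero)
  · right
    have hd1 : 1 < d := by
      have : d ≠ 1 := fun h => D.ne_trivChar_of_mem_Y S hθ (eq_trivChar_of_perfect S.perfect h)
      omega
    have hc0 : 0 < c := Nat.pos_of_ne_zero fun h => by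
      rw [h, mul_zero] at hc
      exact (Nat.mul_pos S.eIdx_pos (show 0 < 1 + nIdx p G * p by omega)).ne hc
    obtain ⟨q, hq0, hq, hnq⟩ := degree_neg_e hp hpe S.two_mul_nIdx_le S.kIdx_pos S.eIdx_pos hd1
      hc0 hc (by simpa using hmod)
    have hqq : qdim P θ = q := by
      have h' : (d : ℤ) + eIdx P = q * p := by exact_mod_cast hq
      have h2 : (p : ℤ) * (qdim P θ : ℤ) = (p : ℤ) * q := by linear_combination h' - hdY
      exact_mod_cast mul_left_cancel₀ (by exact_mod_cast hp.ne_zero) h2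
    exact ⟨e, by rw [hqq]; exact hq0, by rw [hqq]; exact hq, by rw [hqq]; exact hnq⟩

/-- Summation over the `e` characters. -/
theorem sum_X {R : Type*} [AddCommMonoid R] {f : IrrCharacter G → R} {A B : R}
    (hA : ∀ χ ∈ D.X, χ ≠ trivChar G → D.δ χ = 1 → f χ = A)
    (hB : ∀ χ ∈ D.X, χ ≠ trivChar G → D.δ χ = -1 → f χ = B) :
    ∑ χ ∈ D.X, f χ = f (trivChar G) + D.aNum • A + D.bNum • B := by
  classical
  rw [← Finset.add_sum_erase _ _ D.triv_mem,
    ← Finset.sum_filter_add_sum_filter_not (D.X.erase (trivChar G)) (fun χ => D.δ χ = 1),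
    ← add_assoc, aNum, bNum]
  congr 1
  · congr 1
    refine (Finset.sum_congr rfl fun χ hχ => ?_).trans (Finset.sum_const A)
    obtain ⟨h1, h2⟩ := Finset.mem_filter.1 hχ
    obtain ⟨h3, h4⟩ := Finset.mem_erase.1 h1
    exact hA χ h4 h3 h2
  · refine (Finset.sum_congr rfl fun χ hχ => ?_).trans (Finset.sum_const B)
    obtain ⟨h1, h2⟩ := Finset.mem_filter.1 hχ
    obtain ⟨h3, h4⟩ := Finset.mem_erase.1 h1
    exact hB χ h4 h3 ((D.δ_sign χ h4).resolve_left h2)

theorem aNum_add_bNum : 1 + D.aNum + D.bNum = eIdx P := by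
  have h := D.sum_X S (f := fun _ => (1 : ℕ)) (A := 1) (B := 1) (fun _ _ _ _ => rfl)
    (fun _ _ _ _ => rfl)
  simp only [Finset.sum_const, smul_eq_mul, mul_one, D.cardX] at h
  omega

theorem dvd_of_bNum_pos (h : 0 < D.bNum) : kIdx P ∣ nIdx p G + 1 := by
  classical
  obtain ⟨χ, hχ⟩ := Finset.card_pos.1 h
  obtain ⟨h1, h2⟩ := Finset.mem_filter.1 hχ
  obtain ⟨h3, h4⟩ := Finset.mem_erase.1 h1
  rcases D.X_cases S h4 h3 with h' | h'
  · exact absurd h'.1 h2
  · exact h'.2.2.2

/-- The relations between the parameters. -/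
theorem params {θ : IrrCharacter G} (hθ : θ ∈ D.Y) :
    (D.ε = 1 ∧ qdim P θ = 0 ∧ D.bNum = D.aNum * nIdx p G) ∨
      (D.ε = -1 ∧ 0 < qdim P θ ∧ nIdx p G + 1 = kIdx P * qdim P θ ∧
        D.bNum = D.aNum * nIdx p G + qdim P θ) := by
  have h := D.sum_δ_qdim S hθ
  have hs := D.sum_X S (f := fun χ => D.δ χ * (qdim P χ : ℤ)) (A := (nIdx p G : ℤ) + 1) (B := 0)
    (fun χ hχ hne h1 => by
      rcases D.X_cases S hχ hne with h' | h'
      · rw [h1, h'.2.2]; push_cast; ring
      · rw [h'.1] at h1; norm_num at h1)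
    (fun χ hχ hne h1 => by
      rcases D.X_cases S hχ hne with h' | h'
      · rw [h'.1] at h1; norm_num at h1
      · rw [h'.2.2.1]; simp)
  rw [hs, D.δ_triv, S.qdim_trivChar, nsmul_eq_mul, nsmul_eq_mul] at h
  have hab := D.aNum_add_bNum S
  rcases D.Y_cases S hθ with ⟨e, -, hq⟩ | ⟨e, hq, -, hnq⟩ <;> rw [e] at h
  · left
    refine ⟨e, hq, ?_⟩
    rw [hq] at h
    push_cast at h
    zify at hab ⊢
    linear_combination hab - h
  · right
    refine ⟨e, hq, hnq, ?_⟩
    push_cast at h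
    zify at hab ⊢
    linear_combination hab - h

theorem sum_M_deg :
    ∑ χ : IrrCharacter G, M P χ 1 * Cfsg.charDegree (χ : G → ℂ) = 1 + nIdx p G * p := by
  apply Nat.cast_injective (R := ℂ)
  rw [← card_sylow_eq_add, ← fixCount_one p, S.fixCount_eq_sum, Nat.cast_sum]
  exact Finset.sum_congr rfl fun χ _ => by rw [Nat.cast_mul, charDegree_cast]

/-- Non-principal members of the block have no fixed points under `N`. -/
theorem M_one_eq_zero {χ : IrrCharacter G} (hχ : χ ∈ D.X ∨ χ ∈ D.Y) (hne : χ ≠ trivChar G) :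
    M P χ 1 = 0 := by
  classical
  rcases hχ with hχ | hχ
  · rcases D.X_cases S hχ hne with h | h
    · have h1 : ∑ ψ ∈ ({trivChar G, χ} : Finset (IrrCharacter G)),
          M P ψ 1 * Cfsg.charDegree (ψ : G → ℂ) ≤ 1 + nIdx p G * p := by
        rw [← D.sum_M_deg S]
        exact Finset.sum_le_sum_of_subset (Finset.subset_univ _)
      rw [Finset.sum_pair hne.symm, S.M_trivChar, charDegree_trivChar, h.2.1, one_mul] at h1
      by_contra hm
      have : 1 * (1 + nIdx p G * p) ≤ M P χ 1 * (1 + nIdx p G * p) :=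
        Nat.mul_le_mul_right _ (Nat.one_le_iff_ne_zero.2 hm)
      omega
    · have := S.M_le_qdim χ 1
      omega
  · rcases D.Y_cases S hχ with h | h
    · have := S.M_le_qdim χ 1
      omega
    · letI := Fintype.ofFinite ↥(P : Subgroup G)
      have hX : ∀ ψ ∈ D.X, ψ ≠ trivChar G → M P ψ 1 = 0 := by
        intro ψ hψ hψ1
        rcases D.X_cases S hψ hψ1 with h' | h'
        · have h1 : ∑ φ ∈ ({trivChar G, ψ} : Finset (IrrCharacter G)),
              M P φ 1 * Cfsg.charDegree (φ : G → ℂ) ≤ 1 + nIdx p G * p := by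
            rw [← D.sum_M_deg S]
            exact Finset.sum_le_sum_of_subset (Finset.subset_univ _)
          rw [Finset.sum_pair hψ1.symm, S.M_trivChar, charDegree_trivChar, h'.2.1, one_mul] at h1
          by_contra hm
          have : 1 * (1 + nIdx p G * p) ≤ M P ψ 1 * (1 + nIdx p G * p) :=
            Nat.mul_le_mul_right _ (Nat.one_le_iff_ne_zero.2 hm)
          omega
        · have := S.M_le_qdim ψ 1
          omega
      -- at `y ∈ P ∖ 1`
      have hy : ∀ y : ↥(P : Subgroup G), y ≠ 1 →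
          ∑ θ ∈ D.Y, (M P θ 1 : ℂ) * (θ : G → ℂ) y = 0 := by
        intro y hy1
        have hy1' : (y : G) ≠ 1 := fun h => hy1 (Subtype.ext h)
        have h1 := S.fixCount_eq_sum (y : G)
        rw [S.fixCount_of_mem y.2 hy1', D.sum_split, Nat.cast_one] at h1
        rw [Finset.sum_eq_single_of_mem (trivChar G) D.triv_mem (fun ψ hψ hψ1 => by
            rw [hX ψ hψ hψ1, Nat.cast_zero, zero_mul]),
          S.M_trivChar, trivChar_apply, Nat.cast_one, one_mul,
          Finset.sum_eq_zero (s := D.out) (fun ψ hψ => by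
            rw [D.out_val ψ (D.mem_out.1 hψ).1 (D.mem_out.1 hψ).2 y y.2 hy1', mul_zero]),
          add_zero] at h1
        linear_combination -h1
      have hsum : ∑ θ ∈ D.Y, (M P θ 1 : ℂ) * ((θ : G → ℂ) 1) =
          ∑ θ ∈ D.Y, (M P θ 1 : ℂ) * ((p : ℂ) * qdim P θ) := by
        simp only [← D.sum_P S, Finset.mul_sum]
        rw [Finset.sum_comm (t := Finset.univ), Finset.sum_eq_single (1 : ↥(P : Subgroup G))
          (fun y _ hy1 => hy y hy1) (fun hh => absurd (Finset.mem_univ _) hh)]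
        rfl
      have hsum' : ∑ θ ∈ D.Y, (M P θ 1 : ℤ) * (Cfsg.charDegree (θ : G → ℂ) : ℤ) =
          ∑ θ ∈ D.Y, (M P θ 1 : ℤ) * ((p : ℤ) * qdim P θ) := by
        apply Int.cast_injective (α := ℂ)
        push_cast
        simp only [charDegree_cast]
        exact hsum
      rw [← sub_eq_zero, ← Finset.sum_sub_distrib,
        Finset.sum_congr rfl (g := fun θ => -((eIdx P * M P θ 1 : ℕ) : ℤ)) (fun θ hθ => by
          rw [D.degY θ hθ, h.1]; push_cast; ring),
        Finset.sum_neg_distrib, neg_eq_zero, ← Nat.cast_sum, Nat.cast_eq_zero] at hsum'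
      exact (Nat.mul_eq_zero.1 (Finset.sum_eq_zero_iff.1 hsum' χ hχ)).resolve_left S.eIdx_pos.ne'

theorem sum_out_M_mul_qdim : ∑ χ ∈ D.out, M P χ 1 * qdim P χ = nIdx p G := by
  classical
  have h := D.sum_M_deg S
  rw [D.sum_split, Finset.sum_eq_single_of_mem (trivChar G) D.triv_mem (fun ψ hψ hψ1 => by
      rw [D.M_one_eq_zero S (Or.inl hψ) hψ1, zero_mul]),
    Finset.sum_eq_zero (s := D.Y) (fun ψ hψ => by
      rw [D.M_one_eq_zero S (Or.inr hψ) (D.ne_trivChar_of_mem_Y S hψ), zero_mul]),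
    S.M_trivChar, charDegree_trivChar, one_mul, add_zero,
    Finset.sum_congr (s₁ := D.out) rfl (g := fun χ => p * (M P χ 1 * qdim P χ)) (fun χ hχ => by
      rw [D.deg_out S hχ]; ring), ← Finset.mul_sum, mul_comm (nIdx p G) p] at h
  exact Nat.eq_of_mul_eq_mul_left (Fact.out : p.Prime).pos (by omega)

theorem sum_out_sq : ∑ χ ∈ D.out, (qdim P χ : ℤ) ^ 2 = nIdx p G := by
  classical
  obtain ⟨θ, hθ⟩ := D.exists_mem_Y S
  have h : ((∑ χ : IrrCharacter G, Cfsg.charDegree (χ : G → ℂ) ^ 2 : ℕ) : ℤ) = (Nat.card G : ℤ) := by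
    rw [sum_charDegree_sq]
  push_cast at h
  have hsX := D.sum_X S (f := fun χ => (Cfsg.charDegree (χ : G → ℂ) : ℤ) ^ 2)
    (A := (1 + (nIdx p G : ℤ) * p) ^ 2) (B := ((p : ℤ) - 1) ^ 2)
    (fun χ hχ hne h1 => by
      rcases D.X_cases S hχ hne with h' | h'
      · rw [h'.2.1]; push_cast; ring
      · rw [h'.1] at h1; norm_num at h1)
    (fun χ hχ hne h1 => by
      rcases D.X_cases S hχ hne with h' | h'
      · rw [h'.1] at h1; norm_num at h1
      · rw [show (Cfsg.charDegree (χ : G → ℂ) : ℤ) = (p : ℤ) - 1 by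
          have : (Cfsg.charDegree (χ : G → ℂ) : ℤ) + 1 = p := by exact_mod_cast h'.2.1
          linarith])
  rw [D.sum_split, hsX, Finset.sum_congr (s₁ := D.Y) rfl (g := fun _ => (Cfsg.charDegree (θ : G → ℂ) : ℤ) ^ 2)
      (fun ψ hψ => by rw [D.deg_Y_eq S hψ hθ]),
    Finset.sum_congr (s₁ := D.out) rfl (g := fun χ => (p : ℤ) ^ 2 * (qdim P χ : ℤ) ^ 2) (fun χ hχ => by
      rw [D.deg_out S hχ]; push_cast; ring),
    ← Finset.mul_sum, Finset.sum_const, D.cardY, charDegree_trivChar, S.card_group,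
    D.degY θ hθ, nsmul_eq_mul, nsmul_eq_mul, nsmul_eq_mul] at h
  set R := ∑ χ ∈ D.out, (qdim P χ : ℤ) ^ 2
  have hp : (p : ℤ) ^ 2 ≠ 0 := pow_ne_zero 2 (by exact_mod_cast (Fact.out : p.Prime).ne_zero)
  have hpe : (p : ℤ) = eIdx P * kIdx P + 1 := by exact_mod_cast S.eq_mul_add
  have hab : (1 : ℤ) + D.aNum + D.bNum = eIdx P := by exact_mod_cast D.aNum_add_bNum S
  push_cast at h
  refine mul_left_cancel₀ hp ?_
  rcases D.params S hθ with ⟨e, hq, hb⟩ | ⟨e, -, hnq, hb⟩ <;> rw [e] at h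
  · have hb' : (D.bNum : ℤ) = D.aNum * nIdx p G := by exact_mod_cast hb
    rw [hq, hb'] at h
    rw [hb'] at hab
    rw [← hab] at h hpe
    push_cast at h
    set a : ℤ := (D.aNum : ℤ)
    set n : ℤ := (nIdx p G : ℤ)
    linear_combination h + (1 + a + a * n) * hpe
  · have hb' : (D.bNum : ℤ) = D.aNum * nIdx p G + qdim P θ := by exact_mod_cast hb
    have hnq' : (nIdx p G : ℤ) + 1 = kIdx P * qdim P θ := by exact_mod_cast hnq
    rw [hb'] at h hab
    rw [← hab] at h hpe
    set a : ℤ := (D.aNum : ℤ)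
    set n : ℤ := (nIdx p G : ℤ)
    set q : ℤ := (qdim P θ : ℤ)
    linear_combination h + (1 + a + (a * n + q) - 2 * (p : ℤ) * q) * hpe +
      (p : ℤ) ^ 2 * q * hnq'

theorem M_one_eq_qdim {χ : IrrCharacter G} (hχ : χ ∈ D.out) : M P χ 1 = qdim P χ := by
  have h2 : ∑ ψ ∈ D.out, M P ψ 1 * qdim P ψ = ∑ ψ ∈ D.out, qdim P ψ * qdim P ψ := by
    rw [D.sum_out_M_mul_qdim S]
    have h := D.sum_out_sq S
    have h' : ((∑ ψ ∈ D.out, qdim P ψ * qdim P ψ : ℕ) : ℤ) = (nIdx p G : ℤ) := by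
      push_cast; simp only [← sq]; exact h
    exact_mod_cast h'.symm
  have h3 := (Finset.sum_eq_sum_iff_of_le
    fun ψ _ => Nat.mul_le_mul_right _ (S.M_le_qdim ψ 1)).1 h2 χ hχ
  have hq : 0 < qdim P χ := Nat.pos_of_ne_zero fun h0 => by
    have := D.deg_out S hχ
    rw [h0, mul_zero] at this
    exact charDegree_ne_zero χ this
  exact Nat.eq_of_mul_eq_mul_right hq h3

theorem apply_out {χ : IrrCharacter G} (hχ : χ ∈ D.out) {g : G}
    (hg : g ∈ Subgroup.normalizer ((P : Subgroup G) : Set G)) (hgP : g ∉ (P : Subgroup G)) :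
    (χ : G → ℂ) g = (qdim P χ : ℂ) := by
  rw [← S.bar_mk χ hg hgP, S.bar_eq_of_M_one_eq (D.M_one_eq_qdim S hχ)]

/-- Elements of `N ∖ P` normalize `n + 1` Sylow subgroups. -/
theorem fixCount_eq {g : G} (hg : g ∈ Subgroup.normalizer ((P : Subgroup G) : Set G))
    (hgP : g ∉ (P : Subgroup G)) : fixCount p g = nIdx p G + 1 := by
  classical
  apply Nat.cast_injective (R := ℂ)
  rw [S.fixCount_eq_sum, D.sum_split, Finset.sum_eq_single_of_mem (trivChar G) D.triv_mem
      (fun ψ hψ hψ1 => by rw [D.M_one_eq_zero S (Or.inl hψ) hψ1, Nat.cast_zero, zero_mul]),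
    Finset.sum_eq_zero (s := D.Y) (fun ψ hψ => by
      rw [D.M_one_eq_zero S (Or.inr hψ) (D.ne_trivChar_of_mem_Y S hψ), Nat.cast_zero, zero_mul]),
    Finset.sum_congr (s₁ := D.out) rfl (g := fun χ => ((qdim P χ : ℤ) ^ 2 : ℂ)) (fun χ hχ => by
      rw [D.M_one_eq_qdim S hχ, D.apply_out S hχ hg hgP]; push_cast; ring),
    S.M_trivChar, trivChar_apply]
  have h := congrArg (Int.cast (R := ℂ)) (D.sum_out_sq S)
  push_cast at h ⊢
  rw [h]; ring

end BlockData

end CfsgLib.LargePrime
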