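import Mathlib.Tactic
import Mathlib.Data.Nat.Prime.Basic
import Mathlib.Data.Int.ModEq

/-!
# Arithmetic of degrees when `2 n ≤ p + 1`

`p = e k + 1` and the degrees divide `e (1 + n p)`.
-/

set_option autoImplicit false

namespace CfsgLib.LargePrime

/-- No solution with both positive. -/
theorem plus_key {p e k n u w : ℕ} (hp : p = e * k + 1) (hn : 2 * n ≤ p + 1) (hk : 0 < k)
    (h : u * w * p + u * e + w = e * n) : u = 0 ∨ w = 0 := by
  by_contra hc
  push Not at hc
  have hu : 1 ≤ u := Nat.one_le_iff_ne_zero.2 hc.1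
  have hw : 1 ≤ w := Nat.one_le_iff_ne_zero.2 hc.2
  have he : (e : ℤ) ≠ 0 := by
    intro he
    have he' : e = 0 := by exact_mod_cast he
    rw [he', zero_mul] at h
    omega
  set H : ℤ := (n : ℤ) - u - u * w * k with hH
  have hH' : (w : ℤ) * (u + 1) = H * e := by
    have h' : (u : ℤ) * w * p + u * e + w = e * n := by exact_mod_cast h
    subst hp
    push_cast at h'
    rw [hH]
    linear_combination h'
  have he0 : (0 : ℤ) < e := lt_of_le_of_ne (by positivity) (Ne.symm he)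
  have hwu : (0 : ℤ) < (w : ℤ) * (u + 1) := by positivity
  have hH1 : 1 ≤ H := by
    by_contra h1
    have : H * e ≤ 0 := mul_nonpos_of_nonpos_of_nonneg (by omega) he0.le
    omega
  have h2 : (e : ℤ) ≤ 2 * u * w := by
    have h3 : (e : ℤ) ≤ H * e := le_mul_of_one_le_left he0.le hH1
    have h4 : (w : ℤ) * 1 ≤ w * u := by exact_mod_cast Nat.mul_le_mul_left w hu
    linarith
  have h5 : (e : ℤ) * k ≤ 2 * u * w * k := mul_le_mul_of_nonneg_right h2 (by positivity)
  have h6 : 2 * (n : ℤ) ≤ e * k + 2 := by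
    have : (2 * n : ℤ) ≤ (p : ℤ) + 1 := by exact_mod_cast hn
    subst hp
    push_cast at this
    linarith
  have h7 : (n : ℤ) = H + u + u * w * k := by rw [hH]; ring
  nlinarith [h5, h6, h7, hH1, hu]

/-- The only solutions have `u = 1`, unless `k = w = 1`. -/
theorem minus_key {p e k n u w : ℕ} (hp : p = e * k + 1) (hn : 2 * n ≤ p + 1) (hk : 0 < k)
    (hu : 0 < u) (hw : 0 < w) (h : u * w * p = e * n + u * e + w) :
    u = 1 ∨ (k = 1 ∧ w = 1) := by
  by_contra hc
  push Not at hc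
  obtain ⟨hu1, hkw⟩ := hc
  have hu2 : 2 ≤ u := by omega
  set H : ℤ := (n : ℤ) + u - u * w * k with hH
  have hH' : (w : ℤ) * (u - 1) = H * e := by
    have h' : (u : ℤ) * w * p = e * n + u * e + w := by exact_mod_cast h
    subst hp
    push_cast at h'
    rw [hH]
    linear_combination h'
  have hwu : (0 : ℤ) < (w : ℤ) * (u - 1) := by
    have : (0 : ℤ) < (u : ℤ) - 1 := by omega
    positivity
  have he0 : (0 : ℤ) ≤ e := by positivity
  have hH1 : 1 ≤ H := by
    by_contra h1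
    have : H * e ≤ 0 := mul_nonpos_of_nonpos_of_nonneg (by omega) he0
    omega
  have hHe : (e : ℤ) ≤ H * e := le_mul_of_one_le_left he0 hH1
  have h6 : 2 * (n : ℤ) ≤ e * k + 2 := by
    have : (2 * n : ℤ) ≤ (p : ℤ) + 1 := by exact_mod_cast hn
    subst hp
    push_cast at this
    linarith
  have h7 : (n : ℤ) = H - u + (H * e + w) * k := by
    rw [← hH', hH]; ring
  by_cases hw1 : w = 1
  · subst hw1
    have hk2 : (2 : ℤ) ≤ k := by
      have : k ≠ 1 := fun e' => hkw e' rfl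
      omega
    have h8 : (u : ℤ) = H * e + 1 := by push_cast at hH'; linarith
    rw [h8] at h7
    push_cast at h7
    nlinarith [mul_nonneg (sub_nonneg.2 hHe) (by linarith : (0:ℤ) ≤ k - 1),
      mul_nonneg he0 (by linarith : (0:ℤ) ≤ (k:ℤ) - 2), h6, h7, hH1, hk2]
  · have hw2 : (2 : ℤ) ≤ w := by omega
    have h8 : 2 * (u : ℤ) ≤ H * e + 2 := by
      nlinarith [mul_nonneg (sub_nonneg.2 hw2) (by omega : (0:ℤ) ≤ (u:ℤ) - 1)]
    have hk1 : (1 : ℤ) ≤ k := by exact_mod_cast hk
    nlinarith [mul_nonneg (sub_nonneg.2 hHe) (by linarith : (0:ℤ) ≤ 2 * (k:ℤ) - 1),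
      mul_nonneg he0 (sub_nonneg.2 hk1), mul_le_mul hw2 hk1 zero_le_one (by positivity),
      h6, h7, h8, hH1]

/-- A cofactor congruent to `e` modulo `p` with `0 < e < p` is `e + w p`. -/
theorem exists_add_mul {p c e : ℕ} (hep : e < p) (h : (p : ℤ) ∣ (c : ℤ) - e) :
    ∃ w : ℕ, c = e + w * p := by
  obtain ⟨a, ha⟩ := h
  have h1 : 0 ≤ a := by
    by_contra h2
    have h3 : (p : ℤ) * a ≤ (p : ℤ) * (-1) := mul_le_mul_of_nonneg_left (by omega) (by positivity)
    omega
  refine ⟨a.toNat, ?_⟩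
  have : (c : ℤ) = e + (a.toNat : ℤ) * p := by rw [Int.toNat_of_nonneg h1]; linarith
  exact_mod_cast this

/-- A positive number congruent to `-e` modulo `p` is `w p - e`. -/
theorem exists_mul_eq_add {p c e : ℕ} (hc : 0 < c) (h : (p : ℤ) ∣ (c : ℤ) + e) :
    ∃ w : ℕ, 0 < w ∧ c + e = w * p := by
  obtain ⟨a, ha⟩ := h
  have h1 : 0 < a := by
    by_contra h2
    have h3 : (p : ℤ) * a ≤ 0 := mul_nonpos_of_nonneg_of_nonpos (by positivity) (by omega)
    omega
  refine ⟨a.toNat, by omega, ?_⟩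
  have : (c : ℤ) + e = (a.toNat : ℤ) * p := by rw [Int.toNat_of_nonneg h1.le]; linarith
  exact_mod_cast this

/-- Degrees congruent to `1`. -/
theorem degree_one {p e k n d c : ℕ} (hp : p = e * k + 1) (hn : 2 * n ≤ p + 1) (hk : 0 < k)
    (he : 0 < e) (hdc : d * c = e * (1 + n * p)) (hd : (d : ℤ) ≡ 1 [ZMOD (p : ℤ)]) :
    d = 1 ∨ d = 1 + n * p := by
  have hep : e < p := by
    have : e * 1 ≤ e * k := Nat.mul_le_mul_left e hk
    omega
  have hd' : (p : ℤ) ∣ (d : ℤ) - 1 := Int.modEq_iff_dvd.1 hd.symm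
  have hdc' : (d : ℤ) * c = e * (1 + n * p) := by exact_mod_cast hdc
  obtain ⟨w, rfl⟩ := exists_add_mul hep (show (p : ℤ) ∣ (c : ℤ) - e by
    have h1 := dvd_sub (dvd_mul_left (p : ℤ) ((e : ℤ) * n)) (hd'.mul_right (c : ℤ))
    rwa [show (e : ℤ) * n * p - ((d : ℤ) - 1) * c = c - e by linear_combination -hdc'] at h1)
  obtain ⟨u, rfl⟩ := exists_add_mul (show 1 < p by omega) (by exact_mod_cast hd')
  have key : u * w * p + u * e + w = e * n := by
    refine Nat.eq_of_mul_eq_mul_left (show 0 < p by omega) ?_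
    zify at hdc ⊢
    linear_combination hdc
  rcases plus_key hp hn hk key with h | h
  · left; rw [h, zero_mul, add_zero]
  · right
    rw [h] at key
    have h2 : u * e = n * e := by rw [mul_comm n]; simpa using key
    rw [Nat.eq_of_mul_eq_mul_right he h2]

/-- Degrees congruent to `-1`. -/
theorem degree_neg_one {p e k n d c : ℕ} (hp : p = e * k + 1) (hn : 2 * n ≤ p + 1) (hk : 0 < k)
    (he : 0 < e) (hd0 : 0 < d) (hlt : d < p * c) (hdc : d * c = e * (1 + n * p))
    (hd : (d : ℤ) ≡ -1 [ZMOD (p : ℤ)]) :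
    d + 1 = p ∧ k ∣ n + 1 := by
  have hd' : (p : ℤ) ∣ (d : ℤ) + 1 := by simpa using Int.modEq_iff_dvd.1 hd.symm
  have hdc' : (d : ℤ) * c = e * (1 + n * p) := by exact_mod_cast hdc
  have hc0 : 0 < c := Nat.pos_of_ne_zero fun h0 => by simp [h0] at hlt
  obtain ⟨w, hw0, hw⟩ := exists_mul_eq_add hc0 (show (p : ℤ) ∣ (c : ℤ) + e by
    have h1 := dvd_sub (hd'.mul_right (c : ℤ)) (dvd_mul_left (p : ℤ) ((e : ℤ) * n))
    rwa [show ((d : ℤ) + 1) * c - (e : ℤ) * n * p = c + e by linear_combination hdc'] at h1)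
  obtain ⟨u, hu0, hu⟩ := exists_mul_eq_add hd0 (show (p : ℤ) ∣ (d : ℤ) + (1 : ℕ) by simpa using hd')
  have key : u * w * p = e * n + u * e + w := by
    refine Nat.eq_of_mul_eq_mul_left (show 0 < p by omega) ?_
    zify at hdc hw hu ⊢
    have hd2 : (d : ℤ) = u * p - 1 := by linarith
    have hc2 : (c : ℤ) = w * p - e := by linarith
    rw [hd2, hc2] at hdc
    linear_combination hdc
  have hu1 : u = 1 := by
    rcases minus_key hp hn hk hu0 hw0 key with h | ⟨hk1, hw1⟩
    · exact h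
    · -- the cofactor is then `1`
      subst hk1 hw1
      rw [one_mul] at hw
      have hc1 : c = 1 := by omega
      rw [hc1, mul_one] at hlt
      rcases Nat.lt_or_ge u 2 with h | h
      · omega
      · have : 2 * p ≤ u * p := Nat.mul_le_mul_right p h
        omega
  subst hu1
  refine ⟨by omega, w, ?_⟩
  have h2 : (w : ℤ) * p = e * n + e + w := by exact_mod_cast (by simpa using key)
  subst hp
  push_cast at h2
  have h3 : (e : ℤ) * ((w : ℤ) * k) = (e : ℤ) * (n + 1) := by linear_combination h2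
  have h4 := mul_left_cancel₀ (by exact_mod_cast he.ne') h3
  have : w * k = n + 1 := by exact_mod_cast h4
  rw [← this, mul_comm]

/-- Degrees congruent to `e`. -/
theorem degree_e {p e k n d c : ℕ} (hpr : p.Prime) (hp : p = e * k + 1) (hn : 2 * n ≤ p + 1)
    (hk : 0 < k) (he : 0 < e) (hsmall : d < e * (1 + n * p)) (hdc : d * c = e * (1 + n * p))
    (hd : (d : ℤ) ≡ e [ZMOD (p : ℤ)]) : d = e := by
  have hep : e < p := by
    have : e * 1 ≤ e * k := Nat.mul_le_mul_left e hk
    omega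
  have hd' : (p : ℤ) ∣ (d : ℤ) - e := Int.modEq_iff_dvd.1 hd.symm
  have hdc' : (d : ℤ) * c = e * (1 + n * p) := by exact_mod_cast hdc
  obtain ⟨w, rfl⟩ := exists_add_mul (show 1 < p by omega) (show (p : ℤ) ∣ (c : ℤ) - (1 : ℕ) by
    have h1 := dvd_sub (dvd_mul_left (p : ℤ) ((e : ℤ) * n)) (hd'.mul_right (c : ℤ))
    rw [show (e : ℤ) * n * p - ((d : ℤ) - e) * c = e * (c - 1) by linear_combination -hdc'] at h1
    rcases (Nat.prime_iff_prime_int.1 hpr).dvd_or_dvd h1 with h | h
    · exact absurd (Nat.le_of_dvd he (Int.natCast_dvd_natCast.1 h)) (by omega)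
    · simpa using h)
  obtain ⟨u, rfl⟩ := exists_add_mul hep hd'
  have key : w * u * p + w * e + u = e * n := by
    refine Nat.eq_of_mul_eq_mul_left (show 0 < p by omega) ?_
    zify at hdc ⊢
    linear_combination hdc
  rcases plus_key hp hn hk key with h | h
  · rw [h] at key
    have hu : u = e * n := by simpa using key
    subst hu
    exfalso
    have : e * (1 + n * p) = e + e * n * p := by ring
    omega
  · rw [h, zero_mul, add_zero]

/-- Degrees congruent to `-e`. -/
theorem degree_neg_e {p e k n d c : ℕ} (hpr : p.Prime) (hp : p = e * k + 1) (hn : 2 * n ≤ p + 1)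
    (hk : 0 < k) (he : 0 < e) (hd1 : 1 < d) (hc0 : 0 < c) (hdc : d * c = e * (1 + n * p))
    (hd : (d : ℤ) ≡ -(e : ℤ) [ZMOD (p : ℤ)]) :
    ∃ q : ℕ, 0 < q ∧ d + e = q * p ∧ n + 1 = k * q := by
  have hep : e < p := by
    have : e * 1 ≤ e * k := Nat.mul_le_mul_left e hk
    omega
  have hd' : (p : ℤ) ∣ (d : ℤ) + e := by simpa using Int.modEq_iff_dvd.1 hd.symm
  have hdc' : (d : ℤ) * c = e * (1 + n * p) := by exact_mod_cast hdc
  obtain ⟨w, hw0, hw⟩ := exists_mul_eq_add hc0 (show (p : ℤ) ∣ (c : ℤ) + (1 : ℕ) by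
    have h1 := dvd_sub (hd'.mul_right (c : ℤ)) (dvd_mul_left (p : ℤ) ((e : ℤ) * n))
    rw [show ((d : ℤ) + e) * c - (e : ℤ) * n * p = e * (c + 1) by linear_combination hdc'] at h1
    rcases (Nat.prime_iff_prime_int.1 hpr).dvd_or_dvd h1 with h | h
    · exact absurd (Nat.le_of_dvd he (Int.natCast_dvd_natCast.1 h)) (by omega)
    · simpa using h)
  obtain ⟨u, hu0, hu⟩ := exists_mul_eq_add (show 0 < d by omega) hd'
  have key : w * u * p = e * n + w * e + u := by
    refine Nat.eq_of_mul_eq_mul_left (show 0 < p by omega) ?_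
    zify at hdc hw hu ⊢
    have hd2 : (d : ℤ) = u * p - e := by linarith
    have hc2 : (c : ℤ) = w * p - 1 := by linarith
    rw [hd2, hc2] at hdc
    linear_combination hdc
  have hw1 : w = 1 := by
    rcases minus_key hp hn hk hw0 hu0 key with h | ⟨hk1, hu1⟩
    · exact h
    · subst hk1 hu1; omega
  subst hw1
  refine ⟨u, hu0, hu, ?_⟩
  have h2 : (u : ℤ) * p = e * n + e + u := by exact_mod_cast (by simpa using key)
  subst hp
  push_cast at h2
  have h3 : (e : ℤ) * ((u : ℤ) * k) = (e : ℤ) * (n + 1) := by linear_combination h2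
  have h4 := mul_left_cancel₀ (by exact_mod_cast he.ne') h3
  have : u * k = n + 1 := by exact_mod_cast h4
  rw [← this, mul_comm]

end CfsgLib.LargePrime
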