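import Cfsg.Agent.LargePrime.Shape
import Cfsg.Agent.ClassPairs.Basic
import Cfsg.Agent.Characters.FixedPoints

/-!
# The shape with `Y` of degree `p - e`

`n + 1 = k` and `e = a k + 2`. The subgroup `E` has one involution `t`, with centralizer `N(E)`,
and `t` is the product of exactly `n e` ordered pairs of its conjugates. If `a > 0` this forces
`k ≤ 2`; if `a = 0` the centralizer of `t` is elementary abelian of order `2 k`.
-/

set_option autoImplicit false
set_option linter.style.haveILetI false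
set_option linter.unusedSectionVars false

namespace CfsgLib.LargePrime

open Cfsg CfsgLib.PrincipalBlock CfsgLib.Blocks
open scoped ComplexConjugate

universe u

variable {G : Type u} [Group G] [Fintype G] {p : ℕ} [Fact p.Prime] {P : Sylow p G}

theorem card_transporter {g h : G} (hgh : IsConj g h) :
    Nat.card {x : G // x * g * x⁻¹ = h} = Nat.card (Subgroup.centralizer ({g} : Set G)) := by
  apply Nat.cast_injective (R := ℂ)
  rw [← Characters.sum_irr_mul_conj, Characters.sum_irr_mul_conj_of_isConj hgh]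

theorem inv_eq_self_of_orderOf_eq_two {t : G} (ht : orderOf t = 2) : t⁻¹ = t :=
  inv_eq_of_mul_eq_one_right (by rw [← sq, ← ht, pow_orderOf_eq_one])

/-- The data of the shape. -/
structure Minus (D : BlockData P) (θ : IrrCharacter G) (E : Subgroup G) : Prop where
  setup : Setup P
  line : Line P E
  memY : θ ∈ D.Y
  eps : D.ε = -1
  qdim_eq : qdim P θ = 1
  n_eq : nIdx p G + 1 = kIdx P
  e_eq : eIdx P = D.aNum * kIdx P + 2

namespace Minus

variable {D : BlockData P} {θ : IrrCharacter G} {E : Subgroup G} (H : Minus D θ E)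
include H

theorem deg_Y {ψ : IrrCharacter G} (hψ : ψ ∈ D.Y) :
    Cfsg.charDegree (ψ : G → ℂ) + eIdx P = p := by
  have h := D.deg_Y_eq H.setup hψ H.memY
  rcases D.Y_cases H.setup H.memY with h' | h'
  · have h'' := H.eps
    rw [h'.1] at h''
    norm_num at h''
  · rw [h, h'.2.2.1, H.qdim_eq, one_mul]

open Classical in
/-- The members of `X` other than the principal one with `δ = 1`. -/
theorem sum_X_bar (f : ℂ → ℂ) (hf : f 0 = 0) (q : Quot' P) :
    ∑ χ ∈ D.X, f (bar P χ q) = f (bar P (trivChar G) q) +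
      ∑ χ ∈ (D.X.erase (trivChar G)).filter (fun χ => D.δ χ = 1), f (bar P χ q) := by
  rw [← Finset.add_sum_erase _ _ D.triv_mem,
    ← Finset.sum_filter_add_sum_filter_not (D.X.erase (trivChar G)) (fun χ => D.δ χ = 1),
    Finset.sum_eq_zero (s := (D.X.erase (trivChar G)).filter fun χ => ¬ D.δ χ = 1) (fun χ hχ => by
      obtain ⟨h1, h2⟩ := Finset.mem_filter.1 hχ
      obtain ⟨h3, h4⟩ := Finset.mem_erase.1 h1
      rcases D.X_cases H.setup h4 h3 with h | h
      · exact absurd h.1 h2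
      · rw [H.setup.bar_eq_of_qdim_eq_zero h.2.2.1, hf]), add_zero]

open Classical in
theorem plus_spec {χ : IrrCharacter G}
    (hχ : χ ∈ (D.X.erase (trivChar G)).filter (fun χ => D.δ χ = 1)) :
    χ ∈ D.X ∧ χ ≠ trivChar G ∧ qdim P χ = kIdx P ∧
      Cfsg.charDegree (χ : G → ℂ) = 1 + nIdx p G * p := by
  obtain ⟨h1, h2⟩ := Finset.mem_filter.1 hχ
  obtain ⟨h3, h4⟩ := Finset.mem_erase.1 h1
  rcases D.X_cases H.setup h4 h3 with h | h
  · exact ⟨h4, h3, by rw [h.2.2]; exact H.n_eq, h.2.1⟩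
  · rw [h.1] at h2; norm_num at h2

open Classical in
theorem card_plus :
    ((D.X.erase (trivChar G)).filter (fun χ => D.δ χ = 1)).card = D.aNum := by
  rw [BlockData.aNum]

theorem bar_trivChar (q : Quot' P) : bar P (trivChar G) q = 1 := by
  rw [H.setup.bar_eq_of_M_one_eq (by rw [H.setup.M_trivChar, H.setup.qdim_trivChar]),
    H.setup.qdim_trivChar, Nat.cast_one]

open Classical in
/-- Each non-principal linear character of `N / P` occurs once among the fixed points of the
characters of degree `1 + n p` and of `θ`. -/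
theorem regular (μ : Quot' P →* ℂˣ) :
    M P (trivChar G) μ +
      ∑ χ ∈ (D.X.erase (trivChar G)).filter (fun χ => D.δ χ = 1), M P χ μ + M P θ μ = 1 := by
  have h := D.sum_δ_M H.setup H.memY μ
  rw [H.eps, ← Finset.add_sum_erase _ _ D.triv_mem,
    ← Finset.sum_filter_add_sum_filter_not (D.X.erase (trivChar G)) (fun χ => D.δ χ = 1),
    D.δ_triv, Finset.sum_congr (s₁ := (D.X.erase (trivChar G)).filter (fun χ => D.δ χ = 1)) rfl
      (g := fun χ => (M P χ μ : ℤ)) (fun χ hχ => by rw [(Finset.mem_filter.1 hχ).2, one_mul]),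
    Finset.sum_eq_zero (s := (D.X.erase (trivChar G)).filter fun χ => ¬ D.δ χ = 1) (fun χ hχ => by
      obtain ⟨h1, h2⟩ := Finset.mem_filter.1 hχ
      obtain ⟨h3, h4⟩ := Finset.mem_erase.1 h1
      rcases D.X_cases H.setup h4 h3 with h | h
      · exact absurd h.1 h2
      · have := H.setup.M_le_qdim χ μ
        rw [show M P χ μ = 0 by omega, Nat.cast_zero, mul_zero])] at h
  zify
  linear_combination h

/-- `θ` restricted to `N ∖ P` is a non-principal linear character. -/
theorem exists_lam : ∃ lam : Quot' P →* ℂˣ, lam ≠ 1 ∧ ∀ q, bar P θ q = (lam q : ℂ) := by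
  classical
  haveI := H.setup.finite_dual_quot
  letI := Fintype.ofFinite (Quot' P →* ℂˣ)
  have h1 := H.setup.sum_M θ
  rw [H.qdim_eq] at h1
  obtain ⟨lam, -, hl⟩ : ∃ μ ∈ (Finset.univ : Finset (Quot' P →* ℂˣ)), M P θ μ ≠ 0 :=
    Finset.exists_ne_zero_of_sum_ne_zero (by rw [h1]; exact one_ne_zero)
  rw [← Finset.add_sum_erase _ _ (Finset.mem_univ lam)] at h1
  refine ⟨lam, fun h => hl ?_, fun q => ?_⟩
  · rw [h]
    exact D.M_one_eq_zero H.setup (Or.inr H.memY) (D.ne_trivChar_of_mem_Y H.setup H.memY)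
  · rw [H.setup.bar_eq_sum, Finset.sum_eq_single lam (fun μ _ hμ => ?_)
      (fun hh => absurd (Finset.mem_univ _) hh), show M P θ lam = 1 by omega, Nat.cast_one, one_mul]
    have : M P θ μ ≤ ∑ ν ∈ Finset.univ.erase lam, M P θ ν :=
      Finset.single_le_sum (fun _ _ => Nat.zero_le _) (Finset.mem_erase.2 ⟨hμ, Finset.mem_univ μ⟩)
    rw [show M P θ μ = 0 by omega, Nat.cast_zero, zero_mul]

/-- `θ` is real on `p`-regular elements. -/
theorem conj_apply_of_regular {g : G} (hg : ¬ p ∣ orderOf g) :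
    conj ((θ : G → ℂ) g) = (θ : G → ℂ) g := by
  let ψ : IrrCharacter G := ⟨fun g => conj ((θ : G → ℂ) g), Characters.isIrr_conj θ.2⟩
  have hd : Cfsg.charDegree (ψ : G → ℂ) = Cfsg.charDegree (θ : G → ℂ) := by
    show Cfsg.charDegree (fun g => conj ((θ : G → ℂ) g)) = _
    simp only [Cfsg.charDegree, Complex.conj_re]
  have hdθ := H.deg_Y H.memY
  have hp := (Fact.out : p.Prime)
  have he := H.setup.two_le_eIdx
  have hek := H.setup.eq_mul_add
  have hk := D.two_le_kIdx H.setup
  have h2e : eIdx P * 2 ≤ eIdx P * kIdx P := Nat.mul_le_mul_left _ hk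
  have hψ : ψ ∈ D.Y := by
    by_contra hY
    by_cases hX : ψ ∈ D.X
    · by_cases ht : ψ = trivChar G
      · rw [ht, charDegree_trivChar] at hd
        omega
      rcases D.X_cases H.setup hX ht with h | h
      · rw [h.2.1] at hd
        have := Nat.mul_le_mul_right p H.setup.nIdx_pos
        omega
      · omega
    · have h := D.deg_out H.setup (D.mem_out.2 ⟨hX, hY⟩)
      rw [hd] at h
      rcases Nat.eq_zero_or_pos (qdim P ψ) with h0 | h0
      · rw [h0, mul_zero] at h; omega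
      · have := Nat.le_mul_of_pos_right p h0
        omega
  exact D.eqY ψ hψ θ H.memY g hg

theorem two_dvd_eIdx : 2 ∣ eIdx P := by
  obtain ⟨lam, hlam, hbar⟩ := H.exists_lam
  obtain ⟨q, hq⟩ : ∃ q, lam q ≠ 1 := by
    by_contra h
    push Not at h
    exact hlam (MonoidHom.ext h)
  have hq1 : q ≠ 1 := fun h => hq (by rw [h, map_one])
  obtain ⟨g, hg, hgP, hgq⟩ := H.setup.exists_rep hq1
  have hval : (lam q : ℂ) = (θ : G → ℂ) g := by rw [← hbar, ← hgq, H.setup.bar_mk θ hg hgP]
  have hreal : conj (lam q : ℂ) = (lam q : ℂ) := by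
    rw [hval]; exact H.conj_apply_of_regular (H.setup.not_dvd_orderOf hg hgP)
  have h2 : lam (q * q) = 1 := by
    rw [BlocksFrobenius.conj_apply, Units.val_inj, MonoidHom.inv_apply, inv_eq_iff_mul_eq_one]
      at hreal
    rw [map_mul]; exact hreal
  have ho : orderOf (lam q) = 2 := by
    haveI := Fact.mk Nat.prime_two
    exact orderOf_eq_prime (by rw [sq, ← map_mul]; exact h2) hq
  rw [← H.setup.card_quot, ← ho]
  exact (orderOf_map_dvd lam q).trans (orderOf_dvd_natCard q)

omit H in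
theorem line_bijective (L : Line P E) (S : Setup P) :
    Function.Bijective (fun g : E => (QuotientGroup.mk (⟨g, L.le g.2⟩ :
      Subgroup.normalizer ((P : Subgroup G) : Set G)) : Quot' P)) := by
  refine (Nat.bijective_iff_injective_and_card _).2 ⟨fun g h e => ?_, by rw [L.card, S.card_quot]⟩
  have h1 : (g : G)⁻¹ * (h : G) ∈ (P : Subgroup G) :=
    Subgroup.mem_subgroupOf.1 (QuotientGroup.eq.1 e)
  exact Subtype.ext (inv_mul_eq_one.1 (L.inter _ (mul_mem (inv_mem g.2) h.2) h1))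

theorem isCyclic : IsCyclic E := by
  haveI := H.setup.isCyclic_quot
  exact isCyclic_of_injective ((QuotientGroup.mk' ((P : Subgroup G).subgroupOf
    (Subgroup.normalizer ((P : Subgroup G) : Set G)))).comp (Subgroup.inclusion H.line.le))
    (line_bijective H.line H.setup).1

theorem exists_invol : ∃ t ∈ E, orderOf t = 2 ∧
    ∀ s ∈ E, s * s = 1 → s = 1 ∨ s = t := by
  classical
  haveI := Fact.mk Nat.prime_two
  haveI := H.isCyclic
  obtain ⟨t, ht⟩ := exists_prime_orderOf_dvd_card' (G := E) 2 (by rw [H.line.card]; exact H.two_dvd_eIdx)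
  refine ⟨t, t.2, by rw [Subgroup.orderOf_coe]; exact ht, fun s hs hss => ?_⟩
  by_contra hc
  push Not at hc
  letI := Fintype.ofFinite E
  have h := IsCyclic.card_pow_eq_one_le (α := E) (n := 2) two_pos
  have h3 : ({1, t, ⟨s, hs⟩} : Finset E) ⊆ Finset.univ.filter (fun x : E => x ^ 2 = 1) := by
    intro x hx
    simp only [Finset.mem_insert, Finset.mem_singleton] at hx
    refine Finset.mem_filter.2 ⟨Finset.mem_univ _, ?_⟩
    rcases hx with rfl | rfl | rfl
    · exact one_pow 2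
    · rw [← ht]; exact pow_orderOf_eq_one _
    · exact Subtype.ext (by simp only [sq, Subgroup.coe_mul, Subgroup.coe_one]; exact hss)
  have ht1 : (1 : E) ≠ t := fun e => by rw [← e, orderOf_one] at ht; norm_num at ht
  have hc3 : ({1, t, ⟨s, hs⟩} : Finset E).card = 3 := Finset.card_eq_three.2
    ⟨1, t, ⟨s, hs⟩, ht1, fun e => hc.1 (congrArg Subtype.val e).symm,
      fun e => hc.2 (congrArg Subtype.val e).symm, rfl⟩
  have := (Finset.card_le_card h3).trans h
  omega

variable {t : G}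

theorem ne_one_of_order (ht2 : orderOf t = 2) : t ≠ 1 := fun h => by
  rw [h, orderOf_one] at ht2; norm_num at ht2

theorem centralizer_eq (ht : t ∈ E) (ht2 : orderOf t = 2)
    (huniq : ∀ s ∈ E, s * s = 1 → s = 1 ∨ s = t) :
    Subgroup.centralizer ({t} : Set G) = Subgroup.normalizer (E : Set G) := by
  refine le_antisymm (H.line.cent_le t ht (H.ne_one_of_order ht2)) fun x hx => ?_
  rw [Subgroup.mem_centralizer_singleton_iff]
  have h1 : x * t * x⁻¹ ∈ E := (Subgroup.mem_normalizer_iff.1 hx t).1 ht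
  rcases huniq _ h1 (by
    rw [show x * t * x⁻¹ * (x * t * x⁻¹) = x * (t * t) * x⁻¹ by group, ← sq, ← ht2,
      pow_orderOf_eq_one, mul_one, mul_inv_cancel]) with h | h
  · exact absurd (conj_eq_one_iff.1 h) (H.ne_one_of_order ht2)
  · exact mul_inv_eq_iff_eq_mul.1 h

theorem card_centralizer (ht : t ∈ E) (ht2 : orderOf t = 2)
    (huniq : ∀ s ∈ E, s * s = 1 → s = 1 ∨ s = t) :
    Nat.card (Subgroup.centralizer ({t} : Set G)) = eIdx P * kIdx P := by
  rw [H.centralizer_eq ht ht2 huniq, H.line.cardNormalizer, H.n_eq]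

open Classical in
/-- The order of the centralizer of an element of `E`. -/
theorem norm_eq {g : G} (hg : g ∈ E) (hg1 : g ≠ 1) :
    (Nat.card (Subgroup.centralizer ({g} : Set G)) : ℂ) = 2 * (kIdx P : ℂ) +
      ∑ χ ∈ (D.X.erase (trivChar G)).filter (fun χ => D.δ χ = 1),
        (χ : G → ℂ) g * conj ((χ : G → ℂ) g) := by
  have hgN := H.line.le hg
  have hgP : g ∉ (P : Subgroup G) := fun h => hg1 (H.line.inter g hg h)
  set q : Quot' P := QuotientGroup.mk (⟨g, hgN⟩ : Subgroup.normalizer ((P : Subgroup G) : Set G))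
  obtain ⟨lam, -, hbar⟩ := H.exists_lam
  have hY : ∀ ψ ∈ D.Y, (ψ : G → ℂ) g * conj ((ψ : G → ℂ) g) = 1 := by
    intro ψ hψ
    rw [D.eqY ψ hψ θ H.memY g (H.setup.not_dvd_orderOf hgN hgP), ← H.setup.bar_mk θ hgN hgP, hbar,
      BlocksFrobenius.conj_apply, ← Units.val_mul, MonoidHom.inv_apply, mul_inv_cancel,
      Units.val_one]
  have hX : ∀ χ : IrrCharacter G, (χ : G → ℂ) g * conj ((χ : G → ℂ) g) =
      bar P χ q * conj (bar P χ q) := fun χ => by rw [H.setup.bar_mk χ hgN hgP]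
  rw [← Characters.sum_irr_mul_conj_of_isConj (IsConj.refl g), D.sum_split, Finset.sum_congr rfl
      (s₁ := D.Y) hY, Finset.sum_const, D.cardY, nsmul_one,
    Finset.sum_congr rfl (s₁ := D.X) (fun χ _ => hX χ),
    H.sum_X_bar (fun z => z * conj z) (zero_mul _) q, H.bar_trivChar, map_one, mul_one,
    Finset.sum_congr rfl (s₁ := D.out) (g := fun χ => ((qdim P χ : ℤ) ^ 2 : ℂ)) (fun χ hχ => by
      rw [D.apply_out H.setup hχ hgN hgP, Complex.conj_natCast]; push_cast; ring)]
  have h := congrArg (Int.cast (R := ℂ)) (D.sum_out_sq H.setup)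
  push_cast at h ⊢
  have hn : (nIdx p G : ℂ) + 1 = kIdx P := by exact_mod_cast H.n_eq
  rw [h, Finset.sum_congr rfl (s₁ := (D.X.erase (trivChar G)).filter (fun χ => D.δ χ = 1))
    (fun χ _ => (hX χ).symm)]
  linear_combination hn

open Classical in
/-- The values at the involution. -/
theorem values (ht : t ∈ E) (ht2 : orderOf t = 2)
    (huniq : ∀ s ∈ E, s * s = 1 → s = 1 ∨ s = t) :
    ∃ σ : IrrCharacter G → ℤ, ∃ l : ℤ, (l = 1 ∨ l = -1) ∧ (θ : G → ℂ) t = l ∧
      (∀ χ ∈ (D.X.erase (trivChar G)).filter (fun χ => D.δ χ = 1),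
        (χ : G → ℂ) t = σ χ ∧ σ χ ^ 2 = (kIdx P : ℤ) ^ 2) ∧
      1 + ∑ χ ∈ (D.X.erase (trivChar G)).filter (fun χ => D.δ χ = 1), σ χ + l = 0 := by
  haveI := H.setup.finite_dual_quot
  letI := Fintype.ofFinite (Quot' P →* ℂˣ)
  have htN := H.line.le ht
  have ht1 := H.ne_one_of_order ht2
  have htP : t ∉ (P : Subgroup G) := fun h => ht1 (H.line.inter t ht h)
  set q : Quot' P := QuotientGroup.mk (⟨t, htN⟩ : Subgroup.normalizer ((P : Subgroup G) : Set G))
    with hqdef
  have hqq : q * q = 1 := by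
    rw [hqdef, ← QuotientGroup.mk_mul, QuotientGroup.eq_one_iff, Subgroup.mem_subgroupOf]
    show t * t ∈ (P : Subgroup G)
    rw [← sq, ← ht2, pow_orderOf_eq_one]
    exact one_mem _
  have hsign : ∀ μ : Quot' P →* ℂˣ, ∃ s : ℤ, (s = 1 ∨ s = -1) ∧ (μ q : ℂ) = s := by
    intro μ
    have h : (μ q : ℂ) ^ 2 = 1 := by rw [sq, ← Units.val_mul, ← map_mul, hqq, map_one, Units.val_one]
    rcases sq_eq_one_iff.1 h with h | h
    · exact ⟨1, Or.inl rfl, by rw [h, Int.cast_one]⟩
    · exact ⟨-1, Or.inr rfl, by rw [h]; norm_num⟩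
  choose s hs hsv using hsign
  obtain ⟨lam, -, hbar⟩ := H.exists_lam
  set σ : IrrCharacter G → ℤ := fun χ => ∑ μ : Quot' P →* ℂˣ, (M P χ μ : ℤ) * s μ with hσ
  have hval : ∀ χ : IrrCharacter G, (χ : G → ℂ) t = σ χ := by
    intro χ
    rw [← H.setup.bar_mk χ htN htP, H.setup.bar_eq_sum, hσ]
    push_cast
    exact Finset.sum_congr rfl fun μ _ => by rw [← hsv]
  have hlt : (θ : G → ℂ) t = s lam := by rw [← H.setup.bar_mk θ htN htP, hbar, hsv]
  set A := (D.X.erase (trivChar G)).filter (fun χ => D.δ χ = 1) with hA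
  have hbound : ∀ χ ∈ A, σ χ ^ 2 ≤ (kIdx P : ℤ) ^ 2 := by
    intro χ hχ
    refine sq_le_sq' ?_ ?_
    · rw [← (H.plus_spec hχ).2.2.1, ← H.setup.sum_M, Nat.cast_sum, ← Finset.sum_neg_distrib, hσ]
      refine Finset.sum_le_sum fun μ _ => ?_
      rcases hs μ with e | e <;> rw [e] <;> linarith [Int.natCast_nonneg (M P χ μ)]
    · rw [← (H.plus_spec hχ).2.2.1, ← H.setup.sum_M, Nat.cast_sum, hσ]
      refine Finset.sum_le_sum fun μ _ => ?_
      rcases hs μ with e | e <;> rw [e] <;> linarith [Int.natCast_nonneg (M P χ μ)]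
  have hnorm := H.norm_eq ht ht1
  rw [H.card_centralizer ht ht2 huniq, Finset.sum_congr rfl (g := fun χ => ((σ χ ^ 2 : ℤ) : ℂ))
    (fun χ _ => by rw [hval, map_intCast, Int.cast_pow, sq])] at hnorm
  have hnorm' : ((eIdx P * kIdx P : ℕ) : ℤ) = 2 * (kIdx P : ℤ) + ∑ χ ∈ A, σ χ ^ 2 := by
    apply Int.cast_injective (α := ℂ)
    push_cast at hnorm ⊢
    exact hnorm
  have hsq : ∀ χ ∈ A, σ χ ^ 2 = (kIdx P : ℤ) ^ 2 := by
    refine (Finset.sum_eq_sum_iff_of_le hbound).1 ?_
    rw [Finset.sum_const, hA, H.card_plus, nsmul_eq_mul]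
    have he : (eIdx P : ℤ) = D.aNum * kIdx P + 2 := by exact_mod_cast H.e_eq
    push_cast at hnorm'
    rw [he] at hnorm'
    linear_combination -hnorm'
  refine ⟨σ, s lam, hs lam, hlt, fun χ hχ => ⟨hval χ, hsq χ hχ⟩, ?_⟩
  have hrel := D.rel θ H.memY t (H.setup.not_dvd_orderOf htN htP)
  have hX := H.sum_X_bar (fun z => z) rfl q
  rw [H.eps, ← Finset.add_sum_erase _ _ D.triv_mem,
    ← Finset.sum_filter_add_sum_filter_not (D.X.erase (trivChar G)) (fun χ => D.δ χ = 1),
    Finset.sum_congr (s₁ := A) rfl (g := fun χ => ((σ χ : ℤ) : ℂ)) (fun χ hχ => by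
      rw [(Finset.mem_filter.1 hχ).2, Int.cast_one, one_mul, hval]),
    Finset.sum_eq_zero (s := (D.X.erase (trivChar G)).filter fun χ => ¬ D.δ χ = 1) (fun χ hχ => by
      obtain ⟨h1, h2⟩ := Finset.mem_filter.1 hχ
      obtain ⟨h3, h4⟩ := Finset.mem_erase.1 h1
      rcases D.X_cases H.setup h4 h3 with h | h
      · exact absurd h.1 h2
      · rw [← H.setup.bar_mk χ htN htP, H.setup.bar_eq_of_qdim_eq_zero h.2.2.1, mul_zero]),
    D.δ_triv, trivChar_apply, hlt] at hrel
  apply Int.cast_injective (α := ℂ)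
  push_cast at hrel ⊢
  linear_combination -hrel

open Classical in
/-- `t` is the product of exactly `n e` ordered pairs of its conjugates. -/
theorem card_pairs (hk : 3 ≤ kIdx P ∨ D.aNum = 0) (ht : t ∈ E) (ht2 : orderOf t = 2)
    (huniq : ∀ s ∈ E, s * s = 1 → s = 1 ∨ s = t) :
    (Finset.univ.filter fun i : G => IsConj t i ∧ IsConj t (i * t)).card =
      nIdx p G * eIdx P := by
  obtain ⟨σ, l, hl, hlt, hσ, hrel⟩ := H.values ht ht2 huniq
  set A := (D.X.erase (trivChar G)).filter (fun χ => D.δ χ = 1) with hA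
  have htN := H.line.le ht
  have ht1 := H.ne_one_of_order ht2
  have htP : t ∉ (P : Subgroup G) := fun h => ht1 (H.line.inter t ht h)
  have hti := inv_eq_self_of_orderOf_eq_two ht2
  -- the sum of the cubes vanishes and `θ(t) = -1`
  have hσ3 : ∑ χ ∈ A, σ χ ^ 3 = (kIdx P : ℤ) ^ 2 * ∑ χ ∈ A, σ χ := by
    rw [Finset.mul_sum]
    exact Finset.sum_congr rfl fun χ hχ => by rw [← (hσ χ hχ).2]; ring
  have hdvd : (kIdx P : ℤ) ∣ ∑ χ ∈ A, σ χ := by
    refine Finset.dvd_sum fun χ hχ => ?_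
    rcases sq_eq_sq_iff_eq_or_eq_neg.1 (hσ χ hχ).2 with e | e <;> rw [e]
    exact dvd_neg.2 dvd_rfl
  have hl1 : l = -1 ∧ ∑ χ ∈ A, σ χ = 0 := by
    rcases hk with hk | ha
    · rcases hl with e | e
      · exfalso
        subst e
        have h2 : (kIdx P : ℤ) ∣ 2 := by
          rw [show ∑ χ ∈ A, σ χ = -2 by linarith] at hdvd
          simpa using hdvd
        have := Int.le_of_dvd two_pos h2
        omega
      · exact ⟨e, by linarith⟩
    · have hA0 : A = ∅ := Finset.card_eq_zero.1 (by rw [hA, H.card_plus, ha])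
      rw [hA0, Finset.sum_empty] at hrel ⊢
      exact ⟨by omega, rfl⟩
  -- the pairs
  set I := Finset.univ.filter fun i : G => IsConj t i ∧ IsConj t (i * t)
  have hC := H.card_centralizer ht ht2 huniq
  have hfib : ∀ i : G, IsConj t i →
      (Finset.univ.filter fun a : G => a * t * a⁻¹ = i).card = eIdx P * kIdx P := by
    intro i hi
    rw [← hC, ← card_transporter hi, Nat.card_eq_fintype_card, Fintype.card_subtype]
  have hL : (∑ a : G, ∑ b : G,
      if a * t * a⁻¹ * (b * t * b⁻¹) ∈ ({t} : Finset G) then (1 : ℂ) else 0) =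
      (((eIdx P * kIdx P) ^ 2 * I.card : ℕ) : ℂ) := by
    have h1 : ∀ a : G, (∑ b : G,
        if a * t * a⁻¹ * (b * t * b⁻¹) ∈ ({t} : Finset G) then (1 : ℂ) else 0) =
        if IsConj t (a * t * a⁻¹ * t) then ((eIdx P * kIdx P : ℕ) : ℂ) else 0 := by
      intro a
      have hinv : (a * t * a⁻¹)⁻¹ = a * t * a⁻¹ := by rw [mul_inv_rev, mul_inv_rev, inv_inv, hti, mul_assoc]
      rw [Finset.sum_boole]
      split_ifs with hc
      · rw [← hfib _ hc]
        congr 2
        refine Finset.filter_congr fun b _ => ?_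
        rw [Finset.mem_singleton, ← eq_inv_mul_iff_mul_eq, hinv]
      · rw [Finset.card_eq_zero.2, Nat.cast_zero]
        refine Finset.filter_eq_empty_iff.2 fun b _ hb => hc (isConj_iff.2 ⟨b, ?_⟩)
        rw [Finset.mem_singleton, ← eq_inv_mul_iff_mul_eq, hinv] at hb
        exact hb
    rw [Finset.sum_congr rfl fun a _ => h1 a, ← Finset.sum_filter, Finset.sum_const, nsmul_eq_mul,
      ← Nat.cast_mul]
    congr 1
    rw [Finset.card_eq_sum_card_fiberwise (f := fun a : G => a * t * a⁻¹) (t := I)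
      (fun a ha => Finset.mem_filter.2 ⟨Finset.mem_univ _, isConj_iff.2 ⟨a, rfl⟩,
        (Finset.mem_filter.1 ha).2⟩),
      Finset.sum_congr rfl (g := fun _ => eIdx P * kIdx P) (fun i hi => ?_), Finset.sum_const,
      smul_eq_mul]
    · ring
    · rw [← hfib i (Finset.mem_filter.1 hi).2.1, Finset.filter_filter]
      exact congrArg Finset.card (Finset.filter_congr fun a _ =>
        ⟨fun h => h.2, fun h => ⟨by show IsConj t (a * t * a⁻¹ * t); rw [h]; exact (Finset.mem_filter.1 hi).2.2, h⟩⟩)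
  have hp0 : (p : ℂ) ≠ 0 := Nat.cast_ne_zero.2 (Fact.out : p.Prime).ne_zero
  set d := Cfsg.charDegree (θ : G → ℂ) with hd
  have hd0 : (d : ℂ) ≠ 0 := Nat.cast_ne_zero.2 (charDegree_ne_zero θ)
  have hdθ : d + eIdx P = p := H.deg_Y H.memY
  have hpairs := ClassPairs.card_pairs t t ({t} : Finset G)
  rw [hL, D.sum_split] at hpairs
  simp only [Finset.sum_singleton] at hpairs
  rw [Finset.sum_congr (s₁ := D.Y) rfl (g := fun _ => (-1 : ℂ) / d) (fun ψ hψ => by
      have hψt : (ψ : G → ℂ) t = -1 := by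
        rw [D.eqY ψ hψ θ H.memY t (H.setup.not_dvd_orderOf htN htP), hlt, hl1.1]; norm_num
      rw [hψt, ← charDegree_cast, D.deg_Y_eq H.setup hψ H.memY]
      simp [hd, neg_div]),
    Finset.sum_congr (s₁ := D.out) rfl (g := fun χ => ((qdim P χ : ℤ) ^ 2 : ℂ) / p) (fun χ hχ => by
      have hq : (qdim P χ : ℂ) ≠ 0 := Nat.cast_ne_zero.2 fun h0 => by
        have := D.deg_out H.setup hχ
        rw [h0, mul_zero] at this
        exact charDegree_ne_zero χ this
      rw [D.apply_out H.setup hχ htN htP, ← charDegree_cast, D.deg_out H.setup hχ,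
        Complex.conj_natCast]
      push_cast
      field_simp),
    ← Finset.sum_div, ← Finset.add_sum_erase _ _ D.triv_mem,
    ← Finset.sum_filter_add_sum_filter_not (D.X.erase (trivChar G)) (fun χ => D.δ χ = 1),
    Finset.sum_congr (s₁ := A) rfl (g := fun χ => ((σ χ ^ 3 : ℤ) : ℂ) / (1 + (nIdx p G : ℂ) * p))
      (fun χ hχ => by
        rw [(hσ χ hχ).1, map_intCast, ← charDegree_cast, (H.plus_spec hχ).2.2.2]
        push_cast
        ring),
    Finset.sum_eq_zero (s := (D.X.erase (trivChar G)).filter fun χ => ¬ D.δ χ = 1) (fun χ hχ => by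
      obtain ⟨h1, h2⟩ := Finset.mem_filter.1 hχ
      obtain ⟨h3, h4⟩ := Finset.mem_erase.1 h1
      rcases D.X_cases H.setup h4 h3 with h | h
      · exact absurd h.1 h2
      · rw [← H.setup.bar_mk χ htN htP, H.setup.bar_eq_of_qdim_eq_zero h.2.2.1, map_zero,
          zero_mul]),
    ← Finset.sum_div, ← Int.cast_sum, hσ3, hl1.2, mul_zero, Int.cast_zero, zero_div,
    Finset.sum_const, D.cardY] at hpairs
  simp only [trivChar_apply, map_one, one_mul, div_one, add_zero, nsmul_eq_mul] at hpairs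
  have hR := congrArg (Int.cast (R := ℂ)) (D.sum_out_sq H.setup)
  push_cast at hR hpairs
  rw [← Finset.sum_div, hR, H.setup.card_group] at hpairs
  push_cast at hpairs
  have hn : (nIdx p G : ℂ) = kIdx P - 1 := by
    have : (nIdx p G : ℂ) + 1 = kIdx P := by exact_mod_cast H.n_eq
    linear_combination this
  have hpc : (p : ℂ) = eIdx P * kIdx P + 1 := by exact_mod_cast H.setup.eq_mul_add
  have hdc : (d : ℂ) = p - eIdx P := by
    have : (d : ℂ) + eIdx P = p := by exact_mod_cast hdθ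
    linear_combination this
  have hek : ((eIdx P : ℂ) * kIdx P) ^ 2 ≠ 0 :=
    pow_ne_zero 2 (mul_ne_zero (Nat.cast_ne_zero.2 H.setup.eIdx_pos.ne')
      (Nat.cast_ne_zero.2 H.setup.kIdx_pos.ne'))
  apply Nat.cast_injective (R := ℂ)
  push_cast
  refine mul_left_cancel₀ hek ?_
  rw [hpairs]
  field_simp
  rw [hdc, hn, hpc]
  ring

/-- The elements counted by `card_pairs` are involutions centralizing `t`. -/
theorem pair_mem (ht2 : orderOf t = 2) {i : G} (hi : IsConj t i) (hit : IsConj t (i * t)) :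
    i * i = 1 ∧ i * t = t * i ∧ i ≠ 1 ∧ i ≠ t := by
  have ht1 := H.ne_one_of_order ht2
  have htt : t * t = 1 := by rw [← sq, ← ht2, pow_orderOf_eq_one]
  obtain ⟨a, ha⟩ := isConj_iff.1 hi
  obtain ⟨b, hb⟩ := isConj_iff.1 hit
  have hii : i * i = 1 := by
    rw [← ha, show a * t * a⁻¹ * (a * t * a⁻¹) = a * (t * t) * a⁻¹ by group, htt, mul_one,
      mul_inv_cancel]
  have hsq : i * t * (i * t) = 1 := by
    rw [← hb, show b * t * b⁻¹ * (b * t * b⁻¹) = b * (t * t) * b⁻¹ by group, htt, mul_one,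
      mul_inv_cancel]
  refine ⟨hii, ?_, fun h => ht1 (conj_eq_one_iff.1 (ha.trans h)),
    fun h => ht1 (conj_eq_one_iff.1 (hb.trans (by rw [h, htt])))⟩
  have h1 : (i * t)⁻¹ = i * t := inv_eq_of_mul_eq_one_right hsq
  rw [← h1, mul_inv_rev, inv_eq_of_mul_eq_one_right hii, inv_eq_of_mul_eq_one_right htt]

open Classical in
/-- Away from `t` the centralizers are `E`. -/
theorem centralizer_eq_line (ht : t ∈ E) (ht2 : orderOf t = 2)
    (huniq : ∀ s ∈ E, s * s = 1 → s = 1 ∨ s = t) {g : G} (hg : g ∈ E) (hg1 : g ≠ 1) (hgt : g ≠ t) :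
    Subgroup.centralizer ({g} : Set G) = E := by
  haveI := H.setup.finite_dual_quot
  letI := Fintype.ofFinite (Quot' P →* ℂˣ)
  letI := Fintype.ofFinite (Quot' P)
  letI := Fintype.ofFinite E
  set A := (D.X.erase (trivChar G)).filter (fun χ => D.δ χ = 1) with hA
  let e' : E ≃ Quot' P := Equiv.ofBijective _ (line_bijective H.line H.setup)
  have he'1 : e' 1 = 1 := QuotientGroup.mk_one _
  set F : E → ℂ := fun x => 2 * (kIdx P : ℂ) + ∑ χ ∈ A, bar P χ (e' x) * conj (bar P χ (e' x))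
  have hF : ∀ x : E, x ≠ 1 →
      F x = (Nat.card (Subgroup.centralizer ({(x : G)} : Set G)) : ℂ) := by
    intro x hx
    have hx1 : (x : G) ≠ 1 := fun e => hx (Subtype.ext e)
    rw [H.norm_eq x.2 hx1]
    show 2 * (kIdx P : ℂ) + _ = _
    congr 1
    refine Finset.sum_congr rfl fun χ _ => ?_
    rw [show e' x = QuotientGroup.mk (⟨(x : G), H.line.le x.2⟩ :
      Subgroup.normalizer ((P : Subgroup G) : Set G)) from rfl, H.line.bar_apply H.setup x.2 hx1]
  have hone : F 1 = 2 * (kIdx P : ℂ) + D.aNum * (kIdx P : ℂ) ^ 2 := by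
    show 2 * (kIdx P : ℂ) + _ = _
    rw [Finset.sum_congr rfl (g := fun _ => (kIdx P : ℂ) ^ 2) fun χ hχ => by
      rw [he'1, H.setup.bar_one, (H.plus_spec hχ).2.2.1, Complex.conj_natCast, sq],
      Finset.sum_const, hA, H.card_plus, nsmul_eq_mul]
  have hsum : ∑ x : E, F x =
      (eIdx P : ℂ) * (2 * kIdx P) + D.aNum * ((eIdx P : ℂ) * kIdx P) := by
    show ∑ x : E, (2 * (kIdx P : ℂ) + ∑ χ ∈ A, bar P χ (e' x) * conj (bar P χ (e' x))) = _
    rw [Finset.sum_add_distrib, Finset.sum_const, Finset.card_univ, ← Nat.card_eq_fintype_card,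
      H.line.card, nsmul_eq_mul, Finset.sum_comm,
      Finset.sum_congr rfl (g := fun _ => (eIdx P : ℂ) * kIdx P) fun χ hχ => ?_,
      Finset.sum_const, hA, H.card_plus, nsmul_eq_mul]
    rw [Fintype.sum_equiv e' (fun x => bar P χ (e' x) * conj (bar P χ (e' x)))
      (fun q => bar P χ q * conj (bar P χ q)) (fun x => rfl), H.setup.parseval,
      ← (H.plus_spec hχ).2.2.1, ← H.setup.sum_M, Nat.cast_sum]
    congr 1
    refine Finset.sum_congr rfl fun μ _ => ?_
    have h1 := H.regular μ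
    rw [← hA] at h1
    have h2 : M P χ μ ≤ ∑ ψ ∈ A, M P ψ μ :=
      Finset.single_le_sum (f := fun ψ => M P ψ μ) (fun _ _ => Nat.zero_le _) hχ
    have h3 : M P χ μ = 0 ∨ M P χ μ = 1 := by omega
    rcases h3 with e | e <;> rw [e] <;> norm_num
  have ht1 : (⟨t, ht⟩ : E) ≠ 1 := fun e => H.ne_one_of_order ht2 (congrArg Subtype.val e)
  set Rest := (Finset.univ.erase (1 : E)).erase ⟨t, ht⟩
  have hRc : Rest.card + 2 = eIdx P := by
    rw [Finset.card_erase_of_mem (Finset.mem_erase.2 ⟨ht1, Finset.mem_univ _⟩),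
      Finset.card_erase_of_mem (Finset.mem_univ _), Finset.card_univ, ← Nat.card_eq_fintype_card,
      H.line.card]
    have := H.setup.two_le_eIdx
    omega
  have hle : ∀ x ∈ Rest, eIdx P ≤ Nat.card (Subgroup.centralizer ({(x : G)} : Set G)) := by
    intro x hx
    rw [← H.line.card]
    exact Nat.le_of_dvd Nat.card_pos (Subgroup.card_dvd_of_le fun z hz =>
      Subgroup.mem_centralizer_singleton_iff.2 (H.line.comm z hz x x.2))
  have heq : ∑ x ∈ Rest, eIdx P =
      ∑ x ∈ Rest, Nat.card (Subgroup.centralizer ({(x : G)} : Set G)) := by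
    apply Nat.cast_injective (R := ℂ)
    rw [← Finset.add_sum_erase _ _ (Finset.mem_univ (1 : E)), hone,
      ← Finset.add_sum_erase _ _ (Finset.mem_erase.2 ⟨ht1, Finset.mem_univ _⟩), hF _ ht1,
      H.card_centralizer ht ht2 huniq,
      Finset.sum_congr rfl (g := fun x : E =>
        (Nat.card (Subgroup.centralizer ({(x : G)} : Set G)) : ℂ))
        (fun x hx => hF x (Finset.mem_erase.1 (Finset.mem_erase.1 hx).2).1)] at hsum
    rw [Nat.cast_sum, Nat.cast_sum, Finset.sum_const, nsmul_eq_mul]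
    have h1 : (Rest.card : ℂ) + 2 = eIdx P := by exact_mod_cast hRc
    have h2 : (eIdx P : ℂ) = D.aNum * kIdx P + 2 := by exact_mod_cast H.e_eq
    push_cast at hsum
    linear_combination (eIdx P : ℂ) * h1 - hsum + ((eIdx P : ℂ) - kIdx P) * h2
  have hx := (Finset.sum_eq_sum_iff_of_le hle).1 heq ⟨g, hg⟩ (Finset.mem_erase.2
    ⟨fun e => hgt (congrArg Subtype.val e), Finset.mem_erase.2
      ⟨fun e => hg1 (congrArg Subtype.val e), Finset.mem_univ _⟩⟩)
  exact (Subgroup.eq_of_le_of_card_ge (fun z hz => Subgroup.mem_centralizer_singleton_iff.2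
    (H.line.comm z hz g hg)) (by rw [H.line.card, ← hx])).symm

/-- If `a > 0` then `k ≤ 2`. -/
theorem kIdx_eq_two (ha : 0 < D.aNum) : kIdx P = 2 := by
  classical
  have h2 := D.two_le_kIdx H.setup
  by_contra hk
  have hk3 : 3 ≤ kIdx P := by omega
  obtain ⟨t, ht, ht2, huniq⟩ := H.exists_invol
  have hcard := H.card_pairs (Or.inl hk3) ht ht2 huniq
  set I := Finset.univ.filter fun i : G => IsConj t i ∧ IsConj t (i * t)
  obtain ⟨i₀, hi₀⟩ : I.Nonempty := Finset.card_pos.1 (by
    rw [hcard]; exact Nat.mul_pos H.setup.nIdx_pos H.setup.eIdx_pos)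
  -- a generator
  haveI := H.isCyclic
  obtain ⟨g, hg⟩ := IsCyclic.exists_generator (α := E)
  have hgo : orderOf (g : G) = eIdx P := by
    rw [Subgroup.orderOf_coe, orderOf_eq_card_of_forall_mem_zpowers hg, H.line.card]
  have he5 : 5 ≤ eIdx P := by
    rw [H.e_eq]
    have : 1 * 3 ≤ D.aNum * kIdx P := Nat.mul_le_mul ha hk3
    omega
  have hg2 : (g : G) * g ≠ 1 := fun e => by
    have := orderOf_dvd_of_pow_eq_one (x := (g : G)) (n := 2) (by rw [sq]; exact e)
    rw [hgo] at this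
    have := Nat.le_of_dvd two_pos this
    omega
  have hg2t : (g : G) * g ≠ t := fun e => by
    have := orderOf_dvd_of_pow_eq_one (x := (g : G)) (n := 4) (by
      rw [show 4 = 2 * 2 from rfl, pow_mul, sq (g : G), e, ← ht2, pow_orderOf_eq_one])
    rw [hgo] at this
    have := Nat.le_of_dvd (by norm_num) this
    omega
  have hC2 := H.centralizer_eq_line ht ht2 huniq (mul_mem g.2 g.2) hg2 hg2t
  have hinv : ∀ i ∈ I, i * ((g : G) * g) * i⁻¹ = ((g : G) * g)⁻¹ ∧ i ∉ E := by
    intro i hi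
    obtain ⟨hii, hit, hi1, hit'⟩ :=
      H.pair_mem ht2 (Finset.mem_filter.1 hi).2.1 (Finset.mem_filter.1 hi).2.2
    have hiE : i ∉ E := fun h => by
      rcases huniq i h hii with e | e
      exacts [hi1 e, hit' e]
    have hiN : i ∈ Subgroup.normalizer (E : Set G) := by
      rw [← H.centralizer_eq ht ht2 huniq]
      exact Subgroup.mem_centralizer_singleton_iff.2 hit
    have hi' : i⁻¹ = i := inv_eq_of_mul_eq_one_right hii
    set g' := i * (g : G) * i⁻¹ with hg'
    have hg'E : g' ∈ E := (Subgroup.mem_normalizer_iff.1 hiN g).1 g.2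
    have hcomm : (g : G) * g' = g' * g := H.line.comm g g.2 g' hg'E
    have hfix : i * ((g : G) * g') * i⁻¹ = g * g' := by
      rw [hg', show i * ((g : G) * (i * g * i⁻¹)) * i⁻¹ = (i * g * i⁻¹) * (i * i * g * (i * i)⁻¹) by
        group, hii, inv_one, one_mul, mul_one]
      exact hcomm.symm
    have hh : (g : G) * g' = 1 ∨ (g : G) * g' = t := by
      by_contra h
      push Not at h
      refine hiE ?_
      rw [← H.centralizer_eq_line ht ht2 huniq (mul_mem g.2 hg'E) h.1 h.2,
        Subgroup.mem_centralizer_singleton_iff]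
      exact mul_inv_eq_iff_eq_mul.1 hfix
    refine ⟨?_, hiE⟩
    have h4 : (g : G) * g' * (g * g') = 1 := by
      rcases hh with e | e <;> rw [e]
      · exact one_mul 1
      · rw [← sq, ← ht2, pow_orderOf_eq_one]
    rw [eq_inv_iff_mul_eq_one, show i * ((g : G) * g) * i⁻¹ = g' * g' by rw [hg']; group]
    calc g' * g' * ((g : G) * g) = g' * (g' * g) * g := by group
      _ = g' * (g * g') * g := by rw [hcomm]
      _ = (g' * g) * (g' * g) := by group
      _ = 1 := by rw [← hcomm]; exact h4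
  have hsub : I ⊆ (Finset.univ.filter (fun x : G => x ∈ E)).image (fun x => i₀ * x) := by
    intro i hi
    refine Finset.mem_image.2 ⟨i₀⁻¹ * i, Finset.mem_filter.2 ⟨Finset.mem_univ _, ?_⟩,
      mul_inv_cancel_left _ _⟩
    rw [← hC2, Subgroup.mem_centralizer_singleton_iff]
    obtain ⟨h1, -⟩ := hinv i hi
    obtain ⟨h2, -⟩ := hinv i₀ hi₀
    apply mul_inv_eq_iff_eq_mul.1
    calc i₀⁻¹ * i * ((g : G) * g) * (i₀⁻¹ * i)⁻¹
        = i₀⁻¹ * (i * ((g : G) * g) * i⁻¹) * i₀ := by group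
      _ = i₀⁻¹ * (i₀ * ((g : G) * g) * i₀⁻¹) * i₀ := by rw [h1, ← h2]
      _ = (g : G) * g := by group
  have h3 := (Finset.card_le_card hsub).trans Finset.card_image_le
  rw [hcard, ← Fintype.card_subtype, ← Nat.card_eq_fintype_card] at h3
  change nIdx p G * eIdx P ≤ Nat.card E at h3
  rw [H.line.card] at h3
  have := H.n_eq
  have h4 : 2 * eIdx P ≤ nIdx p G * eIdx P := Nat.mul_le_mul_right _ (by omega)
  omega

open Classical in
/-- If `a = 0` the centralizer of `t` is elementary abelian and its involutions are conjugate. -/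
theorem centralizer_of_zero (ha : D.aNum = 0) :
    ∃ t : G, orderOf t = 2 ∧ Nat.card (Subgroup.centralizer ({t} : Set G)) = 2 * kIdx P ∧
      ∀ x ∈ Subgroup.centralizer ({t} : Set G), x ≠ 1 → x * x = 1 ∧ IsConj t x := by
  obtain ⟨t, ht, ht2, huniq⟩ := H.exists_invol
  have he : eIdx P = 2 := by rw [H.e_eq, ha, zero_mul]
  have hC := H.card_centralizer ht ht2 huniq
  rw [he] at hC
  refine ⟨t, ht2, hC, ?_⟩
  have hcard := H.card_pairs (Or.inr ha) ht ht2 huniq
  set I := Finset.univ.filter fun i : G => IsConj t i ∧ IsConj t (i * t)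
  set T := ((Finset.univ.filter fun x : G => x ∈ Subgroup.centralizer ({t} : Set G)).erase 1).erase t
  have hsub : I ⊆ T := by
    intro i hi
    obtain ⟨-, hit, hi1, hit'⟩ :=
      H.pair_mem ht2 (Finset.mem_filter.1 hi).2.1 (Finset.mem_filter.1 hi).2.2
    exact Finset.mem_erase.2 ⟨hit', Finset.mem_erase.2 ⟨hi1, Finset.mem_filter.2
      ⟨Finset.mem_univ _, Subgroup.mem_centralizer_singleton_iff.2 hit⟩⟩⟩
  have hTc : T.card ≤ I.card := by
    rw [hcard, Finset.card_erase_of_mem (Finset.mem_erase.2 ⟨H.ne_one_of_order ht2,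
        Finset.mem_filter.2 ⟨Finset.mem_univ _, Subgroup.mem_centralizer_singleton_iff.2 rfl⟩⟩),
      Finset.card_erase_of_mem (Finset.mem_filter.2 ⟨Finset.mem_univ _, one_mem _⟩),
      ← Fintype.card_subtype, ← Nat.card_eq_fintype_card]
    rw [hC, he, ← H.n_eq]
    omega
  have hTI := Finset.eq_of_subset_of_card_le hsub hTc
  intro x hx hx1
  by_cases hxt : x = t
  · subst hxt
    exact ⟨by rw [← sq, ← ht2, pow_orderOf_eq_one], IsConj.refl x⟩
  · have hxI : x ∈ I := by
      rw [hTI]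
      exact Finset.mem_erase.2 ⟨hxt, Finset.mem_erase.2 ⟨hx1,
        Finset.mem_filter.2 ⟨Finset.mem_univ _, hx⟩⟩⟩
    exact ⟨(H.pair_mem ht2 (Finset.mem_filter.1 hxI).2.1 (Finset.mem_filter.1 hxI).2.2).1,
      (Finset.mem_filter.1 hxI).2.1⟩

end Minus

end CfsgLib.LargePrime
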