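import Cfsg.Agent.LargePrime.Degrees

/-!
# Two-point stabilisers

When every element of `N ∖ P` normalizes exactly `n + 1` Sylow subgroups, a complement `E` of `P`
in `N` normalizing a second Sylow subgroup has normalizer of order `e (n + 1)`.
-/

set_option autoImplicit false
set_option linter.style.haveILetI false
set_option linter.unusedSectionVars false

namespace CfsgLib.LargePrime

universe u

variable {G : Type u} [Group G] [Fintype G] {p : ℕ} [Fact p.Prime] {P : Sylow p G}

local notation "Nor" => Subgroup.normalizer ((P : Subgroup G) : Set G)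

theorem mem_normalizer_smul {x a : G} {Q : Sylow p G} :
    a ∈ Subgroup.normalizer (((x • Q : Sylow p G) : Subgroup G) : Set G) ↔
      x⁻¹ * a * x ∈ Subgroup.normalizer ((Q : Subgroup G) : Set G) := by
  rw [← mem_fixedBy_sylow, ← mem_fixedBy_sylow, MulAction.mem_fixedBy, MulAction.mem_fixedBy,
    mul_smul, mul_smul, inv_smul_eq_iff]

/-- A complement `E` with its normalizer. -/
structure Line (P : Sylow p G) (E : Subgroup G) : Prop where
  le : E ≤ Subgroup.normalizer ((P : Subgroup G) : Set G)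
  inter : ∀ g ∈ E, g ∈ (P : Subgroup G) → g = 1
  card : Nat.card E = eIdx P
  comm : ∀ g ∈ E, ∀ h ∈ E, g * h = h * g
  cent_inf : ∀ g ∈ E, g ≠ 1 →
    Subgroup.centralizer ({g} : Set G) ⊓ Subgroup.normalizer ((P : Subgroup G) : Set G) = E
  cent_le : ∀ g ∈ E, g ≠ 1 → Subgroup.centralizer ({g} : Set G) ≤ Subgroup.normalizer (E : Set G)
  cardNormalizer : Nat.card (Subgroup.normalizer (E : Set G)) = eIdx P * (nIdx p G + 1)

namespace Setup

variable (S : Setup P)
include S

/-- Elements of `N` meeting `P` trivially map injectively to `N / P`. -/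
theorem card_le_of_inter {H : Subgroup G} (hle : H ≤ Nor)
    (hint : ∀ g ∈ H, g ∈ (P : Subgroup G) → g = 1) :
    Nat.card H ≤ eIdx P ∧ (∀ g ∈ H, ∀ h ∈ H, g * h = h * g) ∧
      (Nat.card H = eIdx P → ∀ q : Quot' P, ∃ g, ∃ hg : g ∈ H,
        (QuotientGroup.mk (⟨g, hle hg⟩ : Nor) : Quot' P) = q) := by
  let f : H →* Quot' P :=
    (QuotientGroup.mk' ((P : Subgroup G).subgroupOf Nor)).comp (Subgroup.inclusion hle)
  have hf : Function.Injective f := by
    rw [← MonoidHom.ker_eq_bot_iff, Subgroup.eq_bot_iff_forall]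
    intro g hg
    exact Subtype.ext (hint g g.2 (Subgroup.mem_subgroupOf.1
      ((QuotientGroup.eq_one_iff (Subgroup.inclusion hle g)).1 (MonoidHom.mem_ker.1 hg))))
  refine ⟨?_, fun g hg h hh => ?_, fun hc q => ?_⟩
  · rw [← S.card_quot]
    exact Nat.card_le_card_of_injective f hf
  · haveI := S.isMulCommutative_quot
    exact congrArg Subtype.val (hf (a₁ := ⟨g, hg⟩ * ⟨h, hh⟩) (a₂ := ⟨h, hh⟩ * ⟨g, hg⟩)
      (by rw [map_mul, map_mul]; exact IsMulCommutative.is_comm.comm _ _))
  · have hb : Function.Bijective f :=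
      (Nat.bijective_iff_injective_and_card f).2 ⟨hf, by rw [hc, S.card_quot]⟩
    obtain ⟨g, hg⟩ := hb.2 q
    exact ⟨g, g.2, hg⟩

theorem inter_of_fixed {Q : Sylow p G} (hQ : Q ≠ P) {g : G}
    (hg : g ∈ Subgroup.normalizer ((Q : Subgroup G) : Set G)) (hgP : g ∈ (P : Subgroup G)) :
    g = 1 := by
  by_contra h1
  have h := S.fixCount_of_mem hgP h1
  rw [fixCount, Nat.card_eq_one_iff_unique] at h
  haveI := h.1
  exact hQ (congrArg Subtype.val (Subsingleton.elim
    (⟨Q, mem_fixedBy_sylow.2 hg⟩ : MulAction.fixedBy (Sylow p G) g)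
    ⟨P, mem_fixedBy_sylow.2 (Subgroup.le_normalizer hgP)⟩))

open Classical in
/-- Every two-point stabiliser has order `e`. -/
theorem card_inf_normalizer
    (hfix : ∀ g ∈ Nor, g ∉ (P : Subgroup G) → fixCount p g = nIdx p G + 1)
    {Q : Sylow p G} (hQ : Q ≠ P) :
    Nat.card ↥(Nor ⊓ Subgroup.normalizer ((Q : Subgroup G) : Set G)) = eIdx P := by
  set T : Finset G := Finset.univ.filter (fun g => g ∈ Nor ∧ g ∉ (P : Subgroup G)) with hT
  have hTc : T.card = p * eIdx P - p := by
    rw [hT, ← Finset.filter_filter,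
      show (Finset.univ.filter (fun g => g ∈ Nor)).filter (fun g => g ∉ (P : Subgroup G)) =
        Finset.univ.filter (fun g => g ∈ Nor) \ Finset.univ.filter (fun g => g ∈ (P : Subgroup G)) by
        ext g; simp,
      Finset.card_sdiff_of_subset (fun g hg => by
        simp only [Finset.mem_filter, Finset.mem_univ, true_and] at hg ⊢
        exact Subgroup.le_normalizer hg), ← Fintype.card_subtype, ← Fintype.card_subtype,
      ← Nat.card_eq_fintype_card, ← Nat.card_eq_fintype_card]
    exact congrArg₂ (· - ·) S.card_normalizer S.card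
  have hsum : ∑ R ∈ (Finset.univ : Finset (Sylow p G)).erase P,
      (T.filter fun g => g ∈ Subgroup.normalizer ((R : Subgroup G) : Set G)).card =
      T.card * nIdx p G := by
    simp only [Finset.card_filter]
    rw [Finset.sum_comm, ← smul_eq_mul, ← Finset.sum_const]
    refine Finset.sum_congr rfl fun g hg => ?_
    obtain ⟨hgN, hgP⟩ := (Finset.mem_filter.1 hg).2
    rw [← Finset.card_filter, Finset.filter_erase, Finset.card_erase_of_mem
      (Finset.mem_filter.2 ⟨Finset.mem_univ P, hgN⟩)]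
    have h := hfix g hgN hgP
    rw [fixCount, Nat.card_eq_fintype_card, Fintype.card_subtype] at h
    rw [Finset.filter_congr (q := fun R => R ∈ MulAction.fixedBy (Sylow p G) g)
      fun R _ => mem_fixedBy_sylow.symm, h, Nat.add_sub_cancel]
  have hcard : ∀ R ∈ (Finset.univ : Finset (Sylow p G)).erase P,
      (T.filter fun g => g ∈ Subgroup.normalizer ((R : Subgroup G) : Set G)).card + 1 =
        Nat.card ↥(Nor ⊓ Subgroup.normalizer ((R : Subgroup G) : Set G)) := by
    intro R hR
    rw [Nat.card_eq_fintype_card, Fintype.card_subtype,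
      ← Finset.card_insert_of_notMem (a := (1 : G)) (by simp [hT, one_mem])]
    congr 1
    ext g
    simp only [hT, Finset.mem_insert, Finset.mem_filter, Finset.mem_univ, true_and, Subgroup.mem_inf]
    constructor
    · rintro (rfl | ⟨⟨h1, -⟩, h2⟩)
      · exact ⟨one_mem _, one_mem _⟩
      · exact ⟨h1, h2⟩
    · rintro ⟨h1, h2⟩
      by_cases hP' : g ∈ (P : Subgroup G)
      · exact Or.inl (S.inter_of_fixed (Finset.mem_erase.1 hR).1 h2 hP')
      · exact Or.inr ⟨⟨h1, hP'⟩, h2⟩
  have hle : ∀ R ∈ (Finset.univ : Finset (Sylow p G)).erase P,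
      (T.filter fun g => g ∈ Subgroup.normalizer ((R : Subgroup G) : Set G)).card ≤ eIdx P - 1 := by
    intro R hR
    have h1 := hcard R hR
    have h2 := (S.card_le_of_inter (H := Nor ⊓ Subgroup.normalizer ((R : Subgroup G) : Set G))
      inf_le_left fun g hg hgP => S.inter_of_fixed (Finset.mem_erase.1 hR).1 hg.2 hgP).1
    omega
  have heq : ∑ R ∈ (Finset.univ : Finset (Sylow p G)).erase P,
      (T.filter fun g => g ∈ Subgroup.normalizer ((R : Subgroup G) : Set G)).card =
      ∑ R ∈ (Finset.univ : Finset (Sylow p G)).erase P, (eIdx P - 1) := by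
    rw [hsum, Finset.sum_const, smul_eq_mul, Finset.card_erase_of_mem (Finset.mem_univ P),
      Finset.card_univ, ← Nat.card_eq_fintype_card, card_sylow_eq_add p, Nat.add_sub_cancel_left,
      hTc, Nat.mul_sub, mul_one, Nat.sub_mul]
    congr 1 <;> ring
  have h1 := (Finset.sum_eq_sum_iff_of_le hle).1 heq Q (Finset.mem_erase.2 ⟨hQ, Finset.mem_univ Q⟩)
  have h2 := hcard Q (Finset.mem_erase.2 ⟨hQ, Finset.mem_univ Q⟩)
  have := S.eIdx_pos
  omega

theorem centralizer_inf_eq {E : Subgroup G} (hle : E ≤ Nor)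
    (hint : ∀ g ∈ E, g ∈ (P : Subgroup G) → g = 1) (hc : Nat.card E = eIdx P) {g : G} (hg : g ∈ E)
    (hg1 : g ≠ 1) : Subgroup.centralizer ({g} : Set G) ⊓ Nor = E := by
  have hgP : g ∉ (P : Subgroup G) := fun h => hg1 (hint g hg h)
  obtain ⟨-, hcomm, -⟩ := S.card_le_of_inter hle hint
  refine (Subgroup.eq_of_le_of_card_ge (fun h hh => Subgroup.mem_inf.2
    ⟨Subgroup.mem_centralizer_singleton_iff.2 (hcomm h hh g hg), hle hh⟩) ?_).symm
  rw [hc]
  refine (S.card_le_of_inter inf_le_right fun h hh hP' => ?_).1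
  by_contra h1
  refine hgP ?_
  rw [← S.centralizer_eq hP' h1, Subgroup.mem_centralizer_singleton_iff]
  exact (Subgroup.mem_centralizer_singleton_iff.1 hh.1).symm

theorem exists_line (hfix : ∀ g ∈ Nor, g ∉ (P : Subgroup G) → fixCount p g = nIdx p G + 1) :
    ∃ E : Subgroup G, Line P E := by
  classical
  obtain ⟨Q₀, hQ₀⟩ : ∃ Q : Sylow p G, Q ≠ P := by
    refine Fintype.exists_ne_of_one_lt_card ?_ P
    rw [← Nat.card_eq_fintype_card, card_sylow_eq_add p]
    have := Nat.mul_pos S.nIdx_pos (Fact.out : p.Prime).pos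
    omega
  set E := Nor ⊓ Subgroup.normalizer ((Q₀ : Subgroup G) : Set G) with hE
  have hle : E ≤ Nor := inf_le_left
  have hint : ∀ g ∈ E, g ∈ (P : Subgroup G) → g = 1 := fun g hg hgP =>
    S.inter_of_fixed hQ₀ (Subgroup.mem_inf.1 hg).2 hgP
  have hc : Nat.card E = eIdx P := S.card_inf_normalizer hfix hQ₀
  obtain ⟨-, hcomm, hsurj⟩ := S.card_le_of_inter hle hint
  have hcent : ∀ g ∈ E, g ≠ 1 → Subgroup.centralizer ({g} : Set G) ⊓ Nor = E :=
    fun g hg hg1 => S.centralizer_inf_eq hle hint hc hg hg1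
  -- the points fixed by an element of `E` are fixed by `E`
  have hall : ∀ g ∈ E, g ≠ 1 → ∀ R : Sylow p G,
      g ∈ Subgroup.normalizer ((R : Subgroup G) : Set G) →
      E ≤ Subgroup.normalizer ((R : Subgroup G) : Set G) := by
    intro g hg hg1 R hR
    by_cases hRP : R = P
    · rw [hRP]; exact hle
    have hint' : ∀ a ∈ Nor ⊓ Subgroup.normalizer ((R : Subgroup G) : Set G),
        a ∈ (P : Subgroup G) → a = 1 := fun a ha h => S.inter_of_fixed hRP ha.2 h
    have h1 := S.centralizer_inf_eq (E := Nor ⊓ Subgroup.normalizer ((R : Subgroup G) : Set G))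
      inf_le_left hint' (S.card_inf_normalizer hfix hRP) ⟨hle hg, hR⟩ hg1
    rw [← hcent g hg hg1, h1]
    exact inf_le_right
  have hnorm : ∀ x : G, (∀ z ∈ E, x * z * x⁻¹ ∈ E) → x ∈ Subgroup.normalizer (E : Set G) := by
    intro x hx
    rw [Subgroup.mem_normalizer_iff]
    refine fun z => ⟨hx z, fun hz => ?_⟩
    obtain ⟨w, hw⟩ := (Finite.injective_iff_surjective.1
      (show Function.Injective (fun w : E => (⟨x * w * x⁻¹, hx w w.2⟩ : E)) from fun a b h =>
        Subtype.ext (mul_left_cancel (mul_right_cancel (congrArg Subtype.val h))))) ⟨_, hz⟩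
    have := mul_left_cancel (mul_right_cancel (congrArg Subtype.val hw))
    exact this ▸ w.2
  have hcentle : ∀ g ∈ E, g ≠ 1 →
      Subgroup.centralizer ({g} : Set G) ≤ Subgroup.normalizer (E : Set G) := by
    intro g hg hg1 c hc'
    have hcg : c * g = g * c := Subgroup.mem_centralizer_singleton_iff.1 hc'
    refine hnorm c fun z hz => ?_
    rw [← hcent g hg hg1]
    refine ⟨Subgroup.mem_centralizer_singleton_iff.2 ?_, ?_⟩
    · calc c * z * c⁻¹ * g = c * z * (c⁻¹ * (g * c)) * c⁻¹ := by group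
        _ = c * (z * g) * c⁻¹ := by rw [← hcg]; group
        _ = c * g * z * c⁻¹ := by rw [hcomm z hz g hg]; group
        _ = g * (c * z * c⁻¹) := by rw [hcg]; group
    · have h2 : g ∈ Subgroup.normalizer (((c⁻¹ • P : Sylow p G) : Subgroup G) : Set G) := by
        rw [mem_normalizer_smul, inv_inv, hcg, mul_inv_cancel_right]
        exact hle hg
      have h3 := hall g hg hg1 _ h2 hz
      rwa [mem_normalizer_smul, inv_inv] at h3
  refine ⟨E, hle, hint, hc, hcomm, hcent, hcentle, ?_⟩
  -- the orbit of `P` under the normalizer of `E`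
  obtain ⟨g₀, hg₀, hg₀1⟩ : ∃ g ∈ E, g ≠ 1 := by
    refine (Subgroup.bot_or_exists_ne_one E).resolve_left fun hb => ?_
    rw [hb, Subgroup.card_bot] at hc
    have := S.two_le_eIdx
    omega
  have hg₀P : g₀ ∉ (P : Subgroup G) := fun h => hg₀1 (hint g₀ hg₀ h)
  set K := Subgroup.normalizer (E : Set G)
  have horb : ∀ R : Sylow p G, R ∈ MulAction.orbit K P ↔
      R ∈ MulAction.fixedBy (Sylow p G) g₀ := by
    intro R
    rw [mem_fixedBy_sylow]
    constructor
    · rintro ⟨u, rfl⟩
      show g₀ ∈ Subgroup.normalizer ((((u : G) • P : Sylow p G) : Subgroup G) : Set G)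
      rw [mem_normalizer_smul]
      refine hle ?_
      have := (Subgroup.mem_normalizer_iff.1 (inv_mem u.2) g₀).1 hg₀
      rwa [inv_inv] at this
    · intro hR
      obtain ⟨x, rfl⟩ := MulAction.exists_smul_eq G P R
      have hg' : x⁻¹ * g₀ * x ∈ Nor := mem_normalizer_smul.1 hR
      have hg'P : x⁻¹ * g₀ * x ∉ (P : Subgroup G) := fun h => by
        refine S.not_dvd_orderOf (hle hg₀) hg₀P ?_
        have h1 : x⁻¹ * g₀ * x ≠ 1 := fun e => hg₀1 (by
          calc g₀ = x * (x⁻¹ * g₀ * x) * x⁻¹ := by group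
            _ = 1 := by rw [e]; group)
        have h2 := BlocksFrobenius.dvd_orderOf_of_mem h h1
        rwa [show x⁻¹ * g₀ * x = MulAut.conj x⁻¹ g₀ by simp, MulEquiv.orderOf_eq] at h2
      obtain ⟨g₁, hg₁, hq⟩ := hsurj hc (QuotientGroup.mk (⟨_, hg'⟩ : Nor))
      have hg₁1 : g₁ ≠ 1 := fun e => S.mk_ne_one hg' hg'P (by
        subst e
        rw [← hq]
        exact QuotientGroup.mk_one _)
      obtain ⟨v, hv, hve⟩ := S.exists_conj_coset (hle hg₁) (fun h => hg₁1 (hint _ hg₁ h))
        (Subgroup.mem_subgroupOf.1 (QuotientGroup.eq.1 hq))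
      have hkey : x * v * g₁ * (x * v)⁻¹ = g₀ := by
        calc x * v * g₁ * (x * v)⁻¹ = x * (v * g₁ * v⁻¹) * x⁻¹ := by group
          _ = g₀ := by rw [hve]; simp [mul_assoc]
      have hxv : x • P = (x * v) • P := by
        rw [mul_smul, MulAction.mem_fixedBy.1 (mem_fixedBy_sylow.2 (Subgroup.le_normalizer hv))]
      have hK : x * v ∈ K := inv_mem_iff.1 (hnorm _ fun z hz => by
        rw [inv_inv, ← hcent g₁ hg₁ hg₁1]
        refine ⟨Subgroup.mem_centralizer_singleton_iff.2 ?_, ?_⟩
        · have h1 := hcomm z hz g₀ hg₀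
          rw [← hkey] at h1
          calc (x * v)⁻¹ * z * (x * v) * g₁
              = (x * v)⁻¹ * (z * (x * v * g₁ * (x * v)⁻¹)) * (x * v) := by group
            _ = g₁ * ((x * v)⁻¹ * z * (x * v)) := by rw [h1]; group
        · have h3 := hall g₀ hg₀ hg₀1 _ hR hz
          rw [hxv] at h3
          exact mem_normalizer_smul.1 h3)
      exact ⟨⟨x * v, hK⟩, hxv.symm⟩
  have hst : ∀ u : K, u ∈ MulAction.stabilizer K P ↔ (u : G) ∈ E := by
    intro u
    constructor
    · intro hu
      have huN : (u : G) ∈ Nor := mem_fixedBy_sylow.1 hu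
      rw [← hcent g₀ hg₀ hg₀1]
      refine ⟨Subgroup.mem_centralizer_singleton_iff.2 ?_, huN⟩
      have h1 : (u : G) * g₀ * (u : G)⁻¹ ∈ E := (Subgroup.mem_normalizer_iff.1 u.2 g₀).1 hg₀
      haveI := S.isMulCommutative_quot
      have h2 : (QuotientGroup.mk (⟨_, hle h1⟩ : Nor) : Quot' P) =
          QuotientGroup.mk (⟨g₀, hle hg₀⟩ : Nor) := by
        show QuotientGroup.mk' _ ((⟨u, huN⟩ : Nor) * ⟨g₀, hle hg₀⟩ * (⟨u, huN⟩ : Nor)⁻¹) =
          QuotientGroup.mk' _ (⟨g₀, hle hg₀⟩ : Nor)
        rw [map_mul, map_mul, map_inv, mul_inv_eq_iff_eq_mul]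
        exact IsMulCommutative.is_comm.comm _ _
      have h3 := hint _ (mul_mem (inv_mem h1) hg₀)
        (Subgroup.mem_subgroupOf.1 (QuotientGroup.eq.1 h2))
      exact mul_inv_eq_iff_eq_mul.1 (inv_mul_eq_one.1 h3)
    · intro hu
      exact MulAction.mem_fixedBy.1 (mem_fixedBy_sylow.2 (hle hu))
  have hEK : E ≤ K := Subgroup.le_normalizer
  have h := MulAction.card_orbit_mul_card_stabilizer_eq_card_group K P
  rw [← Nat.card_eq_fintype_card, ← Nat.card_eq_fintype_card, ← Nat.card_eq_fintype_card,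
    Nat.card_congr (Equiv.subtypeEquivRight horb), ← fixCount, hfix g₀ (hle hg₀) hg₀P] at h
  rw [← h, mul_comm]
  congr 1
  rw [show MulAction.stabilizer K P = E.subgroupOf K from Subgroup.ext hst,
    Nat.card_congr (Subgroup.subgroupOfEquivOfLe hEK).toEquiv, hc]

end Setup

namespace Line

variable {E : Subgroup G} (L : Line P E) (S : Setup P)
include L S

/-- Sums over the non-trivial elements of `E` are sums over the non-trivial classes of `N / P`. -/
theorem bar_apply {g : G} (hg : g ∈ E) (hg1 : g ≠ 1) (χ : Cfsg.IrrCharacter G) :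
    bar P χ (QuotientGroup.mk (⟨g, L.le hg⟩ : Nor)) = (χ : G → ℂ) g :=
  S.bar_mk χ (L.le hg) fun h => hg1 (L.inter g hg h)

end Line

end CfsgLib.LargePrime
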