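import Cfsg.Agent.LargePrime.Normalizer

/-!
# Multiplicities on `N / P`

For a character `χ` the average over the cosets of `P` is a character of the cyclic group
`N / P`; `M χ μ` is the multiplicity of the linear character `μ` in it.
-/

set_option autoImplicit false
set_option linter.style.haveILetI false
set_option linter.unusedSectionVars false

namespace CfsgLib.LargePrime

open Cfsg CfsgLib.BlocksFrobenius CfsgLib.PrincipalBlock
open scoped ComplexConjugate

universe u

variable {G : Type u} [Group G] [Fintype G] {p : ℕ} [Fact p.Prime]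

/-- The average of `χ` over a coset of `P` in its normalizer. -/
noncomputable def bar (P : Sylow p G) (χ : IrrCharacter G) (q : Quot' P) : ℂ :=
  (p : ℂ)⁻¹ * ∑ᶠ y : ↥(P : Subgroup G), (χ : G → ℂ) ((q.out : G) * y)

/-- The dimension of the fixed points of `P`. -/
noncomputable def qdim (P : Sylow p G) (χ : IrrCharacter G) : ℕ :=
  mult χ (1 : ↥(P : Subgroup G) →* ℂˣ)

theorem exists_M (P : Sylow p G) (χ : IrrCharacter G) (μ : Quot' P →* ℂˣ) :
    ∃ m : ℕ, Setup P → ∀ [Fintype (Quot' P)],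
      ∑ q : Quot' P, bar P χ q * conj (μ q : ℂ) = (eIdx P : ℂ) * m := by
  classical
  let N := Subgroup.normalizer ((P : Subgroup G) : Set G)
  letI := Fintype.ofFinite N
  letI := Fintype.ofFinite ↥(P : Subgroup G)
  obtain ⟨m, hm⟩ := Characters.classInner_characters
    (Characters.isCharacter_restrict N (Characters.isCharacter_of_isIrr χ.2))
    (Characters.isCharacter_of_isIrr (Characters.isIrr_linChar
      (μ.comp (QuotientGroup.mk' ((P : Subgroup G).subgroupOf N)))))
  refine ⟨m, fun S {inst} => ?_⟩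
  have hN : (Nat.card N : ℂ) ≠ 0 := Nat.cast_ne_zero.2 Nat.card_pos.ne'
  rw [Cfsg.classInner, inv_mul_eq_iff_eq_mul₀ hN] at hm
  have hp : (p : ℂ) ≠ 0 := Nat.cast_ne_zero.2 (Fact.out : p.Prime).ne_zero
  have key : ∑ g : N, (χ : G → ℂ) g * conj ((μ (QuotientGroup.mk g) : ℂˣ) : ℂ) =
      (p : ℂ) * ∑ q : Quot' P, bar P χ q * conj (μ q : ℂ) := by
    let f : G → ℂ := fun g => if h : g ∈ N then
      (χ : G → ℂ) g * conj ((μ (QuotientGroup.mk (⟨g, h⟩ : N)) : ℂˣ) : ℂ) else 0
    have h1 := S.sum_normalizer f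
    rw [Finset.sum_congr rfl (g := fun g : N => (χ : G → ℂ) g *
      conj ((μ (QuotientGroup.mk g) : ℂˣ) : ℂ)) fun g _ => dif_pos g.2] at h1
    rw [h1, Finset.mul_sum]
    refine Finset.sum_congr rfl fun q _ => ?_
    rw [bar, finsum_eq_sum_of_fintype, ← mul_assoc, mul_inv_cancel_left₀ hp, Finset.sum_mul]
    refine Finset.sum_congr rfl fun y _ => ?_
    have hmem : (q.out : G) * (y : G) ∈ N := mul_mem q.out.2 (Subgroup.le_normalizer y.2)
    rw [show f ((q.out : G) * y) = _ from dif_pos hmem]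
    have hq : (QuotientGroup.mk (⟨_, hmem⟩ : N) : Quot' P) = q :=
      (QuotientGroup.mk_mul_of_mem (s := (P : Subgroup G).subgroupOf N) q.out
        (b := ⟨(y : G), Subgroup.le_normalizer y.2⟩) (Subgroup.mem_subgroupOf.2 y.2)).trans
        (Quotient.out_eq q)
    rw [hq]
  have hm' : ∑ g : N, (χ : G → ℂ) g * conj ((μ (QuotientGroup.mk g) : ℂˣ) : ℂ) =
      (Nat.card N : ℂ) * m := hm
  rw [key, S.card_normalizer, Nat.cast_mul, mul_assoc] at hm'
  exact mul_left_cancel₀ hp hm'

/-- The multiplicity of `μ` on the fixed points of `P`. -/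
noncomputable def M (P : Sylow p G) (χ : IrrCharacter G) (μ : Quot' P →* ℂˣ) : ℕ :=
  (exists_M P χ μ).choose

namespace Setup

variable {P : Sylow p G} (S : Setup P)
include S

theorem sum_bar_mul [Fintype (Quot' P)] (χ : IrrCharacter G) (μ : Quot' P →* ℂˣ) :
    ∑ q : Quot' P, bar P χ q * conj (μ q : ℂ) = (eIdx P : ℂ) * M P χ μ :=
  (exists_M P χ μ).choose_spec S

theorem isMulCommutative_quot : IsMulCommutative (Quot' P) := by
  haveI := S.isCyclic_quot
  letI := IsCyclic.commGroup (α := Quot' P)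
  exact ⟨⟨mul_comm⟩⟩

theorem finite_dual_quot : Finite (Quot' P →* ℂˣ) :=
  haveI := S.isMulCommutative_quot
  finite_dual

/-- Fourier inversion. -/
theorem bar_eq_sum [Fintype (Quot' P →* ℂˣ)] (χ : IrrCharacter G) (q : Quot' P) :
    bar P χ q = ∑ μ : Quot' P →* ℂˣ, (M P χ μ : ℂ) * (μ q : ℂ) := by
  classical
  haveI := S.isMulCommutative_quot
  letI := Fintype.ofFinite (Quot' P)
  have he : (eIdx P : ℂ) ≠ 0 := Nat.cast_ne_zero.2 S.eIdx_pos.ne'
  refine mul_left_cancel₀ he ?_
  rw [Finset.mul_sum]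
  simp only [← mul_assoc, ← S.sum_bar_mul, Finset.sum_mul]
  rw [Finset.sum_comm, Finset.sum_eq_single q]
  · rw [Finset.sum_congr rfl (g := fun _ => bar P χ q) fun μ _ => by
      rw [mul_assoc, conj_apply, ← Units.val_mul, MonoidHom.inv_apply, inv_mul_cancel,
        Units.val_one, mul_one],
      Finset.sum_const, nsmul_eq_mul, Finset.card_univ, ← Nat.card_eq_fintype_card, card_dual,
      S.card_quot]
  · intro r _ hr
    rw [Finset.sum_congr rfl (g := fun μ : Quot' P →* ℂˣ => bar P χ r * (μ (r⁻¹ * q) : ℂ))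
      fun μ _ => by
        rw [mul_assoc, conj_apply, ← Units.val_mul, MonoidHom.inv_apply, ← map_inv, ← map_mul],
      ← Finset.mul_sum, sum_dual_apply, if_neg (fun h => hr (inv_mul_eq_one.1 h)), mul_zero]
  · intro h; exact absurd (Finset.mem_univ q) h

theorem bar_one (χ : IrrCharacter G) : bar P χ 1 = (qdim P χ : ℂ) := by
  classical
  letI := Fintype.ofFinite ↥(P : Subgroup G)
  have hp : (p : ℂ) ≠ 0 := Nat.cast_ne_zero.2 (Fact.out : p.Prime).ne_zero
  have h := sum_mult_eq χ (1 : ↥(P : Subgroup G) →* ℂˣ)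
  simp only [MonoidHom.one_apply, Units.val_one, map_one, mul_one, S.card] at h
  have ha : (((1 : Quot' P).out : Subgroup.normalizer ((P : Subgroup G) : Set G)) : G) ∈
      (P : Subgroup G) :=
    Subgroup.mem_subgroupOf.1 ((QuotientGroup.eq_one_iff _).1 (Quotient.out_eq (1 : Quot' P)))
  rw [bar, finsum_eq_sum_of_fintype, qdim, inv_mul_eq_iff_eq_mul₀ hp, ← h]
  exact Fintype.sum_equiv (Equiv.mulLeft (⟨_, ha⟩ : ↥(P : Subgroup G))) _ _ fun y => rfl

theorem mk_ne_one {g : G} (hg : g ∈ Subgroup.normalizer ((P : Subgroup G) : Set G))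
    (hgP : g ∉ (P : Subgroup G)) :
    (QuotientGroup.mk (⟨g, hg⟩ : Subgroup.normalizer ((P : Subgroup G) : Set G)) : Quot' P) ≠ 1 :=
  fun h => hgP (Subgroup.mem_subgroupOf.1 ((QuotientGroup.eq_one_iff _).1 h))

/-- A non-trivial class of `N / P` has an element outside `P`. -/
theorem exists_rep {q : Quot' P} (hq : q ≠ 1) :
    ∃ g : G, ∃ hg : g ∈ Subgroup.normalizer ((P : Subgroup G) : Set G), g ∉ (P : Subgroup G) ∧
      (QuotientGroup.mk (⟨g, hg⟩ : Subgroup.normalizer ((P : Subgroup G) : Set G)) : Quot' P) = q :=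
  ⟨q.out, q.out.2, fun h => hq (by
    rw [← Quotient.out_eq q]
    exact (QuotientGroup.eq_one_iff _).2 (Subgroup.mem_subgroupOf.2 h)), Quotient.out_eq q⟩

theorem bar_mk (χ : IrrCharacter G) {g : G}
    (hg : g ∈ Subgroup.normalizer ((P : Subgroup G) : Set G)) (hgP : g ∉ (P : Subgroup G)) :
    bar P χ (QuotientGroup.mk (⟨g, hg⟩ : Subgroup.normalizer ((P : Subgroup G) : Set G))) =
      (χ : G → ℂ) g := by
  classical
  letI := Fintype.ofFinite ↥(P : Subgroup G)
  set r := ((QuotientGroup.mk (⟨g, hg⟩ : Subgroup.normalizer ((P : Subgroup G) : Set G)) :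
    Quot' P).out)
  have hr : g⁻¹ * (r : G) ∈ (P : Subgroup G) :=
    Subgroup.mem_subgroupOf.1 (QuotientGroup.eq.1 (Quotient.out_eq (QuotientGroup.mk
      (⟨g, hg⟩ : Subgroup.normalizer ((P : Subgroup G) : Set G)) : Quot' P)).symm)
  have hp : (p : ℂ) ≠ 0 := Nat.cast_ne_zero.2 (Fact.out : p.Prime).ne_zero
  rw [bar, finsum_eq_sum_of_fintype, inv_mul_eq_iff_eq_mul₀ hp,
    Finset.sum_congr rfl (g := fun _ => (χ : G → ℂ) g) fun y _ => ?_, Finset.sum_const,
    Finset.card_univ, ← Nat.card_eq_fintype_card, S.card, nsmul_eq_mul]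
  obtain ⟨u, hu, he⟩ := S.exists_conj_coset hg hgP (mul_mem hr y.2)
  show (χ : G → ℂ) ((r : G) * y) = _
  rw [show (r : G) * y = g * (g⁻¹ * r * y) by group, ← he]
  exact Characters.isClassFunction_of_isIrr χ.2 g u

theorem sum_M [Fintype (Quot' P →* ℂˣ)] (χ : IrrCharacter G) :
    ∑ μ : Quot' P →* ℂˣ, M P χ μ = qdim P χ := by
  apply Nat.cast_injective (R := ℂ)
  rw [← S.bar_one, S.bar_eq_sum, Nat.cast_sum]
  exact Finset.sum_congr rfl fun μ _ => by rw [map_one, Units.val_one, mul_one]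

theorem M_le_qdim (χ : IrrCharacter G) (μ : Quot' P →* ℂˣ) : M P χ μ ≤ qdim P χ := by
  classical
  haveI := S.finite_dual_quot
  letI := Fintype.ofFinite (Quot' P →* ℂˣ)
  rw [← S.sum_M χ]
  exact Finset.single_le_sum (fun _ _ => Nat.zero_le _) (Finset.mem_univ μ)

theorem bar_eq_of_qdim_eq_zero {χ : IrrCharacter G} (h : qdim P χ = 0) (q : Quot' P) :
    bar P χ q = 0 := by
  classical
  haveI := S.finite_dual_quot
  letI := Fintype.ofFinite (Quot' P →* ℂˣ)
  rw [S.bar_eq_sum]
  refine Finset.sum_eq_zero fun μ _ => ?_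
  rw [show M P χ μ = 0 by have := S.M_le_qdim χ μ; omega, Nat.cast_zero, zero_mul]

/-- If `P`-fixed points are fixed by `N`, the average is constant. -/
theorem bar_eq_of_M_one_eq {χ : IrrCharacter G} (h : M P χ 1 = qdim P χ) (q : Quot' P) :
    bar P χ q = (qdim P χ : ℂ) := by
  classical
  haveI := S.finite_dual_quot
  letI := Fintype.ofFinite (Quot' P →* ℂˣ)
  rw [S.bar_eq_sum, Finset.sum_eq_single (1 : Quot' P →* ℂˣ) (fun μ _ hμ => ?_)
    (fun hh => absurd (Finset.mem_univ _) hh), MonoidHom.one_apply, Units.val_one, mul_one, h]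
  have h1 := S.sum_M χ
  rw [← Finset.add_sum_erase _ _ (Finset.mem_univ (1 : Quot' P →* ℂˣ)), h] at h1
  have h2 : M P χ μ ≤ ∑ ν ∈ Finset.univ.erase (1 : Quot' P →* ℂˣ), M P χ ν :=
    Finset.single_le_sum (fun _ _ => Nat.zero_le _) (Finset.mem_erase.2 ⟨hμ, Finset.mem_univ μ⟩)
  rw [show M P χ μ = 0 by omega, Nat.cast_zero, zero_mul]

theorem parseval [Fintype (Quot' P)] [Fintype (Quot' P →* ℂˣ)] (χ : IrrCharacter G) :
    ∑ q : Quot' P, bar P χ q * conj (bar P χ q) =
      (eIdx P : ℂ) * ∑ μ : Quot' P →* ℂˣ, (M P χ μ : ℂ) ^ 2 := by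
  calc ∑ q : Quot' P, bar P χ q * conj (bar P χ q)
      = ∑ q : Quot' P, ∑ μ : Quot' P →* ℂˣ, (M P χ μ : ℂ) * (bar P χ q * conj (μ q : ℂ)) := by
        refine Finset.sum_congr rfl fun q _ => ?_
        rw [show conj (bar P χ q) = conj (∑ μ : Quot' P →* ℂˣ, (M P χ μ : ℂ) * (μ q : ℂ)) by
          rw [← S.bar_eq_sum], map_sum, Finset.mul_sum]
        refine Finset.sum_congr rfl fun μ _ => ?_
        rw [map_mul, Complex.conj_natCast]; ring
    _ = _ := by
        rw [Finset.sum_comm, Finset.mul_sum]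
        refine Finset.sum_congr rfl fun μ _ => ?_
        rw [← Finset.mul_sum, S.sum_bar_mul]; ring

open Classical in
/-- The permutation character on the Sylow subgroups. -/
theorem fixCount_eq_sum (g : G) :
    (fixCount p g : ℂ) = ∑ χ : IrrCharacter G, (M P χ 1 : ℂ) * (χ : G → ℂ) g := by
  letI := Fintype.ofFinite (Subgroup.normalizer ((P : Subgroup G) : Set G))
  letI := Fintype.ofFinite ↥(P : Subgroup G)
  letI := Fintype.ofFinite (Quot' P)
  have hN : (Nat.card (Subgroup.normalizer ((P : Subgroup G) : Set G)) : ℂ) ≠ 0 :=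
    Nat.cast_ne_zero.2 Nat.card_pos.ne'
  refine mul_right_cancel₀ hN ?_
  rw [← Nat.cast_mul, ← card_conj_mem P g, Finset.sum_mul,
    Nat.card_congr (α := {x : G // x * g * x⁻¹ ∈ Subgroup.normalizer ((P : Subgroup G) : Set G)})
      (β := Σ h : Subgroup.normalizer ((P : Subgroup G) : Set G), {x : G // x * g * x⁻¹ = h})
      { toFun := fun x => ⟨⟨_, x.2⟩, x.1, rfl⟩
        invFun := fun s => ⟨s.2.1, s.2.2.symm ▸ s.1.2⟩
        left_inv := fun x => rfl
        right_inv := by
          rintro ⟨⟨h, hh⟩, x, hx⟩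
          change x * g * x⁻¹ = h at hx
          subst hx
          rfl },
    Nat.card_sigma, Nat.cast_sum]
  rw [Finset.sum_congr rfl
      (g := fun h : Subgroup.normalizer ((P : Subgroup G) : Set G) =>
        ∑ χ : IrrCharacter G, (χ : G → ℂ) g * conj ((χ : G → ℂ) h))
      fun h _ => (Characters.sum_irr_mul_conj g (h : G)).symm, Finset.sum_comm]
  refine Finset.sum_congr rfl fun χ _ => ?_
  rw [← Finset.mul_sum, ← map_sum, mul_assoc, mul_comm (M P χ 1 : ℂ), mul_assoc]
  congr 1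
  have h1 := S.sum_bar_mul χ 1
  simp only [MonoidHom.one_apply, Units.val_one, map_one, mul_one] at h1
  have h2 : ∑ h : Subgroup.normalizer ((P : Subgroup G) : Set G), (χ : G → ℂ) h =
      (p : ℂ) * ∑ q : Quot' P, bar P χ q := by
    rw [S.sum_normalizer, Finset.mul_sum]
    refine Finset.sum_congr rfl fun q _ => ?_
    rw [bar, finsum_eq_sum_of_fintype, mul_inv_cancel_left₀
      (Nat.cast_ne_zero.2 (Fact.out : p.Prime).ne_zero)]
  rw [h2, h1, map_mul, map_mul, Complex.conj_natCast, Complex.conj_natCast, Complex.conj_natCast,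
    S.card_normalizer, Nat.cast_mul]
  ring

end Setup

end CfsgLib.LargePrime
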