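import Cfsg.Agent.BlocksFrobenius.PrimeOrder
import Cfsg.Agent.Small.SylowArgs
import Cfsg.Agent.Small.OrderTools
import Mathlib.GroupTheory.Transfer
import Mathlib.GroupTheory.Abelianization.Defs

/-!
# A self-centralizing Sylow subgroup of prime order in a perfect group

The setting of Brauer's theorem on groups with few Sylow `p`-subgroups, and the elementary facts
about the normalizer `N = P ⋊ E`.
-/

set_option autoImplicit false
set_option linter.style.haveILetI false
set_option linter.unusedSectionVars false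

namespace CfsgLib.LargePrime

universe u

variable {G : Type u} [Group G] [Fintype G] {p : ℕ} [Fact p.Prime]

/-- A perfect group with a self-centralizing Sylow subgroup of order `p`. -/
structure Core (P : Sylow p G) : Prop where
  perfect : commutator G = ⊤
  card : Nat.card (P : Subgroup G) = p
  self : Subgroup.centralizer ((P : Subgroup G) : Set G) = (P : Subgroup G)

/-- A perfect group with a self-centralizing Sylow subgroup of order `p` and few Sylow
`p`-subgroups. -/
structure Setup (P : Sylow p G) : Prop extends Core P where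
  bound : 2 * Nat.card (Sylow p G) < (p + 1) * (p + 2)

/-- The index of `P` in its normalizer. -/
noncomputable def eIdx (P : Sylow p G) : ℕ :=
  (P : Subgroup G).relIndex (Subgroup.normalizer ((P : Subgroup G) : Set G))

/-- The number of Sylow subgroups is `1 + nIdx * p`. -/
noncomputable def nIdx (p : ℕ) (G : Type u) [Group G] : ℕ := Nat.card (Sylow p G) / p

/-- `(p - 1) / e`. -/
noncomputable def kIdx (P : Sylow p G) : ℕ := (p - 1) / eIdx P

/-- `N / P`. -/
abbrev Quot' (P : Sylow p G) : Type u :=
  ↥(Subgroup.normalizer ((P : Subgroup G) : Set G)) ⧸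
    (P : Subgroup G).subgroupOf (Subgroup.normalizer ((P : Subgroup G) : Set G))

/-- The number of Sylow `p`-subgroups normalized by `g`. -/
noncomputable def fixCount (p : ℕ) {G : Type u} [Group G] (g : G) : ℕ :=
  Nat.card (MulAction.fixedBy (Sylow p G) g)

theorem card_sylow_eq_add (p : ℕ) [Fact p.Prime] :
    Nat.card (Sylow p G) = 1 + nIdx p G * p := by
  have h := Nat.mod_add_div (Nat.card (Sylow p G)) p
  rw [Small.card_sylow_mod p] at h
  rw [nIdx, mul_comm]
  exact h.symm

theorem mem_fixedBy_sylow {g : G} {Q : Sylow p G} :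
    Q ∈ MulAction.fixedBy (Sylow p G) g ↔
      g ∈ Subgroup.normalizer ((Q : Subgroup G) : Set G) := by
  rw [MulAction.mem_fixedBy, ← MulAction.mem_stabilizer_iff, Sylow.stabilizer_eq_normalizer]
  exact Iff.rfl

open Classical in
/-- Counting conjugates inside the normalizer. -/
theorem card_conj_mem (P : Sylow p G) (g : G) :
    Nat.card {x : G // x * g * x⁻¹ ∈ Subgroup.normalizer ((P : Subgroup G) : Set G)} =
      fixCount p g * Nat.card (Subgroup.normalizer ((P : Subgroup G) : Set G)) := by
  have hiff : ∀ x : G, x * g * x⁻¹ ∈ Subgroup.normalizer ((P : Subgroup G) : Set G) ↔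
      x⁻¹ • P ∈ MulAction.fixedBy (Sylow p G) g := by
    intro x
    rw [← mem_fixedBy_sylow (g := x * g * x⁻¹) (Q := P), MulAction.mem_fixedBy,
      MulAction.mem_fixedBy, mul_smul, mul_smul, smul_eq_iff_eq_inv_smul]
  have hfib : ∀ Q : Sylow p G, Nat.card {x : G // x⁻¹ • P = Q} =
      Nat.card (Subgroup.normalizer ((P : Subgroup G) : Set G)) := by
    intro Q
    obtain ⟨a, ha⟩ := MulAction.exists_smul_eq G P Q
    refine (Nat.card_congr
    { toFun := fun h => ⟨(h : G) * a⁻¹, by
        have h2 : (h : G)⁻¹ • P = P :=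
          MulAction.mem_fixedBy.1 (mem_fixedBy_sylow.2 (inv_mem h.2))
        rw [mul_inv_rev, inv_inv, mul_smul, h2, ha]⟩
      invFun := fun x => ⟨x.1 * a, mem_fixedBy_sylow.1 (MulAction.mem_fixedBy.2 (by
        rw [mul_smul, ha]
        exact (congrArg (x.1 • ·) x.2).symm.trans (smul_inv_smul x.1 P)))⟩
      left_inv := fun h => Subtype.ext (inv_mul_cancel_right (h : G) a)
      right_inv := fun x => Subtype.ext (mul_inv_cancel_right x.1 a) }).symm
  rw [fixCount, Nat.card_congr (α := {x : G // x * g * x⁻¹ ∈ Subgroup.normalizer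
      ((P : Subgroup G) : Set G)})
    (β := Σ Q : MulAction.fixedBy (Sylow p G) g, {x : G // x⁻¹ • P = (Q : Sylow p G)})
    { toFun := fun x => ⟨⟨x.1⁻¹ • P, (hiff x.1).1 x.2⟩, x.1, rfl⟩
      invFun := fun s => ⟨s.2.1, (hiff _).2 (s.2.2.symm ▸ s.1.2)⟩
      left_inv := fun x => rfl
      right_inv := by
        rintro ⟨⟨Q, hQ⟩, x, hx⟩
        change x⁻¹ • P = Q at hx
        subst hx
        rfl },
    Nat.card_sigma, Finset.sum_congr rfl fun Q _ => hfib _, Finset.sum_const, smul_eq_mul,
    Finset.card_univ]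
  congr 1
  exact Nat.card_eq_fintype_card.symm

namespace Core

variable {P : Sylow p G} (S : Core P)
include S

theorem card_ne_bot : (P : Subgroup G) ≠ ⊥ := fun h => by
  have := S.card
  rw [h, Subgroup.card_bot] at this
  exact (Fact.out : p.Prime).ne_one this.symm

theorem zpowers_eq {y : G} (hy : y ∈ (P : Subgroup G)) (hy1 : y ≠ 1) :
    Subgroup.zpowers y = (P : Subgroup G) := by
  refine Subgroup.eq_of_le_of_card_ge (Subgroup.zpowers_le.2 hy) ?_
  rw [S.card, Nat.card_zpowers]
  have h : orderOf y ∣ p := by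
    have := orderOf_dvd_natCard (⟨y, hy⟩ : (P : Subgroup G))
    rwa [S.card, Subgroup.orderOf_mk] at this
  rcases (Nat.dvd_prime (Fact.out : p.Prime)).1 h with h1 | h1
  · exact absurd (orderOf_eq_one_iff.1 h1) hy1
  · exact h1.ge

theorem centralizer_eq {y : G} (hy : y ∈ (P : Subgroup G)) (hy1 : y ≠ 1) :
    Subgroup.centralizer ({y} : Set G) = (P : Subgroup G) := by
  conv_rhs => rw [← S.self, ← S.zpowers_eq hy hy1]
  refine le_antisymm (fun g hg => Subgroup.mem_centralizer_iff.2 fun w hw => ?_)
    (Subgroup.centralizer_le (by simp))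
  obtain ⟨i, rfl⟩ := hw
  have h : Commute g y := Subgroup.mem_centralizer_singleton_iff.1 hg
  exact (h.zpow_right i).eq.symm

theorem semireg : BlocksFrobenius.Semireg P := BlocksFrobenius.semireg_of_prime S.card

theorem card_aut : Nat.card (BlocksFrobenius.aut P) = eIdx P := by
  rw [BlocksFrobenius.card_aut, S.self, eIdx]

theorem card_normalizer :
    Nat.card (Subgroup.normalizer ((P : Subgroup G) : Set G)) = p * eIdx P := by
  have h := Small.card_centralizer_mul_relIndex (P : Subgroup G)
  rw [S.self, S.card] at h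
  exact h.symm

theorem eIdx_pos : 0 < eIdx P := Nat.pos_of_ne_zero fun h => by
  have := S.card_normalizer
  rw [h, mul_zero] at this
  exact Nat.card_pos.ne' this

theorem eq_mul_add : p = eIdx P * kIdx P + 1 := by
  have h := BlocksFrobenius.card_orb_mul S.semireg
  rw [S.card, S.card_aut] at h
  have h1 : p - 1 = Nat.card (BlocksFrobenius.Orb P) * eIdx P := by omega
  rw [kIdx, h1, Nat.mul_div_cancel _ S.eIdx_pos, mul_comm, h]

theorem kIdx_eq : kIdx P = Nat.card (BlocksFrobenius.Orb P) := by
  have h := BlocksFrobenius.card_orb_mul S.semireg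
  rw [S.card, S.card_aut] at h
  have h1 : p - 1 = Nat.card (BlocksFrobenius.Orb P) * eIdx P := by omega
  rw [kIdx, h1, Nat.mul_div_cancel _ S.eIdx_pos]

theorem kIdx_pos : 0 < kIdx P := Nat.pos_of_ne_zero fun h => by
  have := S.eq_mul_add
  rw [h, mul_zero, zero_add] at this
  exact (Fact.out : p.Prime).ne_one this

theorem two_le_eIdx : 2 ≤ eIdx P := by
  by_contra h
  have he : eIdx P = 1 := by have := S.eIdx_pos; omega
  have hle : Subgroup.normalizer ((P : Subgroup G) : Set G) ≤
      Subgroup.centralizer ((P : Subgroup G) : Set G) := by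
    rw [S.self]
    exact Subgroup.relIndex_eq_one.1 he
  have hc := MonoidHom.ker_transferSylow_isComplement' P hle
  haveI := isCyclic_of_prime_card S.card
  letI := IsCyclic.commGroup (α := (P : Subgroup G))
  have hcomm : commutator G ≤ (MonoidHom.transferSylow P hle).ker :=
    Abelianization.commutator_subset_ker _
  rw [S.perfect, top_le_iff] at hcomm
  rw [hcomm, Subgroup.isComplement'_top_left] at hc
  exact S.card_ne_bot hc

theorem isCyclic_quot : IsCyclic (Quot' P) := by
  haveI := isCyclic_of_prime_card S.card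
  set φ : ↥(Subgroup.normalizer ((P : Subgroup G) : Set G)) →*
      (ZMod (Nat.card (P : Subgroup G)))ˣ :=
    (IsCyclic.mulAutMulEquiv (P : Subgroup G)).toMonoidHom.comp
      (Subgroup.normalizerMonoidHom (P : Subgroup G))
  have hker : φ.ker =
      (P : Subgroup G).subgroupOf (Subgroup.normalizer ((P : Subgroup G) : Set G)) := by
    have h : φ.ker = (Subgroup.normalizerMonoidHom (P : Subgroup G)).ker :=
      MonoidHom.ker_comp_of_injective _ _ (IsCyclic.mulAutMulEquiv (P : Subgroup G)).injective
    rw [h, Subgroup.normalizerMonoidHom_ker, S.self]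
  haveI : Fact (Nat.card (P : Subgroup G)).Prime := ⟨by rw [S.card]; exact Fact.out⟩
  exact isCyclic_of_injective ((QuotientGroup.kerLift φ).comp
      (QuotientGroup.quotientMulEquivOfEq hker).symm.toMonoidHom)
    ((QuotientGroup.kerLift_injective φ).comp (MulEquiv.injective _))

theorem card_quot : Nat.card (Quot' P) = eIdx P := rfl

theorem nIdx_pos : 0 < nIdx p G := Nat.pos_of_ne_zero fun h => by
  have h1 := card_sylow_eq_add (G := G) p
  rw [h, zero_mul, add_zero] at h1
  haveI := (Nat.card_eq_one_iff_unique.1 h1).1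
  haveI : (P : Subgroup G).Normal := P.normal_of_subsingleton
  haveI := isCyclic_of_prime_card S.card
  have hN : Subgroup.normalizer ((P : Subgroup G) : Set G) = ⊤ :=
    Subgroup.normalizer_eq_top_iff.2 inferInstance
  set φ : ↥(Subgroup.normalizer ((P : Subgroup G) : Set G)) →*
      (ZMod (Nat.card (P : Subgroup G)))ˣ :=
    (IsCyclic.mulAutMulEquiv (P : Subgroup G)).toMonoidHom.comp
      (Subgroup.normalizerMonoidHom (P : Subgroup G))
  set ψ : G →* (ZMod (Nat.card (P : Subgroup G)))ˣ :=
    φ.comp ((MonoidHom.id G).codRestrict _ fun g => by rw [hN]; exact Subgroup.mem_top g) with hψ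
  have hle : commutator G ≤ ψ.ker := Abelianization.commutator_subset_ker _
  rw [S.perfect, top_le_iff] at hle
  have h2 : (P : Subgroup G) = ⊤ := by
    rw [eq_top_iff, ← S.self]
    intro g _
    have hg : g ∈ ψ.ker := hle.ge (Subgroup.mem_top g)
    rw [hψ, MonoidHom.mem_ker, MonoidHom.comp_apply] at hg
    have h3 := (Subgroup.normalizerMonoidHom (P : Subgroup G)).mem_ker.2
      ((IsCyclic.mulAutMulEquiv (P : Subgroup G)).map_eq_one_iff.1 hg)
    rw [Subgroup.normalizerMonoidHom_ker] at h3
    exact h3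
  have h3 := S.card_normalizer
  rw [hN, ← h2, S.card] at h3
  have := S.two_le_eIdx
  have h4 : p * 2 ≤ p * eIdx P := Nat.mul_le_mul_left p this
  have := (Fact.out : p.Prime).pos
  omega

theorem odd : p ≠ 2 := fun hp2 => by
  have h3 : eIdx P * kIdx P = 1 := by have := S.eq_mul_add; omega
  have := S.two_le_eIdx
  have := (Nat.eq_one_of_mul_eq_one_right h3)
  omega

theorem card_group : Nat.card G = p * (eIdx P * (1 + nIdx p G * p)) := by
  rw [← Small.card_sylow_mul_card_normalizer P, S.card_normalizer, card_sylow_eq_add p]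
  ring

/-- A `p`-element of the normalizer lies in `P`. -/
theorem mem_of_isPGroup {g : G} (hg : g ∈ Subgroup.normalizer ((P : Subgroup G) : Set G))
    (h : IsPGroup p (Subgroup.zpowers g)) : g ∈ (P : Subgroup G) := by
  have h1 := h.to_sup_of_normal_right' P.2 (Subgroup.zpowers_le.2 hg)
  rw [← P.3 h1 le_sup_right]
  exact (le_sup_left : Subgroup.zpowers g ≤ _) (Subgroup.mem_zpowers g)

/-- Elements of `N ∖ P` are `p`-regular. -/
theorem not_dvd_orderOf {g : G} (hg : g ∈ Subgroup.normalizer ((P : Subgroup G) : Set G))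
    (hgP : g ∉ (P : Subgroup G)) : ¬ p ∣ orderOf g := fun hd => by
  have hp := (Fact.out : p.Prime)
  set a := g ^ (orderOf g / p) with ha
  have hao : orderOf a = p := by
    rw [ha, orderOf_pow_of_dvd _ (Nat.div_dvd_of_dvd hd), Nat.div_div_self hd (orderOf_pos g).ne']
    exact Nat.div_ne_zero_iff.2 ⟨hp.ne_zero, Nat.le_of_dvd (orderOf_pos g) hd⟩
  have haP : a ∈ (P : Subgroup G) := S.mem_of_isPGroup (pow_mem hg _)
    (IsPGroup.of_card (n := 1) (by rw [Nat.card_zpowers, hao, pow_one]))
  have ha1 : a ≠ 1 := fun h => by rw [h, orderOf_one] at hao; exact hp.one_lt.ne hao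
  refine hgP ?_
  rw [← S.centralizer_eq haP ha1, Subgroup.mem_centralizer_singleton_iff]
  exact (Commute.self_pow g _).eq

/-- The coset `g P` of an element of `N ∖ P` consists of conjugates of `g`. -/
theorem exists_conj_coset {g y : G} (hg : g ∈ Subgroup.normalizer ((P : Subgroup G) : Set G))
    (hgP : g ∉ (P : Subgroup G)) (hy : y ∈ (P : Subgroup G)) :
    ∃ u ∈ (P : Subgroup G), u * g * u⁻¹ = g * y := by
  let φ : ↥(P : Subgroup G) → ↥(P : Subgroup G) := fun u => ⟨g⁻¹ * u * g * (u : G)⁻¹, by
    refine mul_mem ?_ (inv_mem u.2)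
    have := (Subgroup.mem_normalizer_iff.1 (inv_mem hg) (u : G)).1 u.2
    rwa [inv_inv] at this⟩
  have hinj : Function.Injective φ := by
    intro u v huv
    have h := congrArg Subtype.val huv
    simp only [φ] at h
    by_contra hne
    have hw1 : (v : G)⁻¹ * u ≠ 1 := fun h1 => hne (Subtype.ext (inv_mul_eq_one.1 h1).symm)
    refine hgP ?_
    rw [← S.centralizer_eq (mul_mem (inv_mem v.2) u.2) hw1,
      Subgroup.mem_centralizer_singleton_iff]
    calc g * ((v : G)⁻¹ * u)
        = (v : G)⁻¹ * (v * g * (v : G)⁻¹) * u := by group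
      _ = (v : G)⁻¹ * (g * (g⁻¹ * v * g * (v : G)⁻¹)) * u := by group
      _ = (v : G)⁻¹ * (g * (g⁻¹ * u * g * (u : G)⁻¹)) * u := by rw [h]
      _ = (v : G)⁻¹ * u * g := by group
  obtain ⟨u, hu⟩ := Finite.injective_iff_surjective.1 hinj ⟨y, hy⟩
  refine ⟨u, u.2, ?_⟩
  have h := congrArg Subtype.val hu
  simp only [φ] at h
  rw [← h]
  group

/-- A non-trivial element of `P` normalizes only `P`. -/
theorem fixCount_of_mem {y : G} (hy : y ∈ (P : Subgroup G)) (hy1 : y ≠ 1) :
    fixCount p y = 1 := by
  rw [fixCount, Nat.card_eq_one_iff_unique]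
  refine ⟨⟨fun Q R => ?_⟩, ⟨⟨P, mem_fixedBy_sylow.2 (Subgroup.le_normalizer hy)⟩⟩⟩
  suffices h : ∀ Q : MulAction.fixedBy (Sylow p G) y, (Q : Sylow p G) = P from
    Subtype.ext ((h Q).trans (h R).symm)
  intro Q
  have hle : Subgroup.zpowers y ≤ ((Q : Sylow p G) : Subgroup G) := by
    have hZ : IsPGroup p (Subgroup.zpowers y) := by
      rw [S.zpowers_eq hy hy1]; exact P.2
    have h1 := hZ.to_sup_of_normal_right' (Q : Sylow p G).2
      (Subgroup.zpowers_le.2 (mem_fixedBy_sylow.1 Q.2))
    rw [← (Q : Sylow p G).3 h1 le_sup_right]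
    exact le_sup_left
  rw [S.zpowers_eq hy hy1] at hle
  exact Sylow.ext (P.3 (Q : Sylow p G).2 hle)

/-- A sum over `N` through the averages over the cosets of `P`. -/
theorem sum_normalizer [Fintype (Subgroup.normalizer ((P : Subgroup G) : Set G))]
    [Fintype (P : Subgroup G)] [Fintype (Quot' P)] (f : G → ℂ) :
    ∑ g : Subgroup.normalizer ((P : Subgroup G) : Set G), f g =
      ∑ q : Quot' P, ∑ y : (P : Subgroup G), f ((q.out : G) * y) := by
  rw [← Fintype.sum_prod_type']
  let N := Subgroup.normalizer ((P : Subgroup G) : Set G)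
  let Pn := (P : Subgroup G).subgroupOf N
  have hmem : ∀ g : N, (QuotientGroup.mk g : Quot' P).out⁻¹ * g ∈ Pn := fun g =>
    QuotientGroup.eq.1 (Quotient.out_eq (QuotientGroup.mk g : Quot' P))
  let ι : ↥(P : Subgroup G) → N := fun y => ⟨(y : G), Subgroup.le_normalizer y.2⟩
  have hmk : ∀ (q : Quot' P) (y : ↥(P : Subgroup G)),
      (QuotientGroup.mk (q.out * ι y) : Quot' P) = q := fun q y =>
    (QuotientGroup.mk_mul_of_mem q.out (Subgroup.mem_subgroupOf.2 y.2)).trans (Quotient.out_eq q)
  let e : N ≃ Quot' P × ↥(P : Subgroup G) :=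
    { toFun := fun g => (QuotientGroup.mk g, ⟨((_ : N) : G), Subgroup.mem_subgroupOf.1 (hmem g)⟩)
      invFun := fun x => x.1.out * ι x.2
      left_inv := fun g => Subtype.ext
        (mul_inv_cancel_left (((QuotientGroup.mk g : Quot' P).out : N) : G) (g : G))
      right_inv := fun x => Prod.ext (hmk x.1 x.2) (Subtype.ext (by
        show (((QuotientGroup.mk (x.1.out * ι x.2) : Quot' P).out : N) : G)⁻¹ *
          (((x.1.out : N) : G) * (x.2 : G)) = x.2
        rw [hmk, inv_mul_cancel_left])) }
  refine Fintype.sum_equiv e _ _ fun g => congrArg f ?_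
  exact (congrArg Subtype.val (e.left_inv g)).symm

end Core

namespace Setup

variable {P : Sylow p G} (S : Setup P)
include S

theorem two_mul_nIdx_le : 2 * nIdx p G ≤ p + 1 := by
  have h := S.bound
  rw [card_sylow_eq_add p] at h
  have h1 : 2 * nIdx p G * p < (p + 3) * p := by
    have : (p + 1) * (p + 2) = (p + 3) * p + 2 := by ring
    rw [this] at h
    linarith
  have h2 := Nat.lt_of_mul_lt_mul_right h1
  -- parity
  rcases Nat.even_or_odd p with hev | hodd
  · exfalso
    have hp2 : p = 2 := ((Fact.out : p.Prime).even_iff).1 hev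
    have h3 : eIdx P * kIdx P = 1 := by have := S.eq_mul_add; omega
    have := S.two_le_eIdx
    have := (Nat.eq_one_of_mul_eq_one_right h3)
    omega
  · obtain ⟨r, hr⟩ := hodd
    omega

end Setup

end CfsgLib.LargePrime
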