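import Cfsg.Agent.LargePrime.Lines

/-!
# The two shapes of the principal block, and the shape with `Y` of degree `e`

`n + 1 = k` and `e = a k + 1` or `e = a k + 2`. In the first shape `k = 2`: otherwise the sum of
`θ θ̄` over `Y` would have too small a degree.
-/

set_option autoImplicit false
set_option linter.style.haveILetI false
set_option linter.unusedSectionVars false

namespace CfsgLib.LargePrime

open Cfsg CfsgLib.PrincipalBlock CfsgLib.Blocks
open scoped ComplexConjugate

universe u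

variable {G : Type u} [Group G] [Fintype G] {p : ℕ} [Fact p.Prime] {P : Sylow p G}

namespace BlockData

variable (D : BlockData P) (S : Setup P)
include D S

theorem exists_line : ∃ E : Subgroup G, Line P E :=
  S.exists_line fun _ hg hgP => D.fixCount_eq S hg hgP

theorem succ_dvd_pred (h5 : 5 ≤ p) : nIdx p G + 1 ∣ eIdx P * kIdx P := by
  obtain ⟨E, L⟩ := D.exists_line S
  have h1 : eIdx P * (nIdx p G + 1) ∣ eIdx P * (p * (1 + nIdx p G * p)) := by
    rw [← L.cardNormalizer, show eIdx P * (p * (1 + nIdx p G * p)) = Nat.card G by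
      rw [S.card_group]; ring]
    exact Subgroup.card_subgroup_dvd_card _
  have h2 := (Nat.mul_dvd_mul_iff_left S.eIdx_pos).1 h1
  have hco : Nat.Coprime (nIdx p G + 1) p :=
    ((Fact.out : p.Prime).coprime_iff_not_dvd.2 fun h => by
      have := Nat.le_of_dvd (Nat.succ_pos _) h
      have := S.two_mul_nIdx_le
      omega).symm
  have h3 := hco.dvd_of_dvd_mul_left h2
  have h4 : nIdx p G + 1 ∣ (nIdx p G + 1) * p - (1 + nIdx p G * p) :=
    Nat.dvd_sub (dvd_mul_right _ _) h3
  have h6 : (nIdx p G + 1) * p - (1 + nIdx p G * p) = eIdx P * kIdx P := by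
    have := S.eq_mul_add
    rw [add_mul, one_mul]
    omega
  rwa [h6] at h4

theorem shape {θ : IrrCharacter G} (hθ : θ ∈ D.Y) :
    (D.ε = 1 ∧ qdim P θ = 0 ∧ nIdx p G + 1 = kIdx P ∧ eIdx P = D.aNum * kIdx P + 1) ∨
      (D.ε = -1 ∧ qdim P θ = 1 ∧ nIdx p G + 1 = kIdx P ∧ eIdx P = D.aNum * kIdx P + 2) := by
  have hab := D.aNum_add_bNum S
  have he := S.two_le_eIdx
  have hn := S.nIdx_pos
  have hp5 : 5 ≤ p := by
    by_contra h
    have hp3 : p = 3 := by
      have hp := (Fact.out : p.Prime)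
      have := hp.two_le
      have := S.odd
      have : p ≠ 4 := fun h4 => by rw [h4] at hp; norm_num at hp
      omega
    have hek : eIdx P * kIdx P = 2 := by have := S.eq_mul_add; omega
    have he2 : eIdx P = 2 := by
      have := Nat.le_of_dvd (by norm_num) (Dvd.intro _ hek)
      omega
    have hk1 : kIdx P = 1 := by rw [he2] at hek; omega
    rcases D.params S hθ with ⟨-, -, hb⟩ | ⟨-, hq, hnq, hb⟩
    · rcases Nat.eq_zero_or_pos D.aNum with ha | ha
      · rw [ha, zero_mul] at hb; omega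
      · have : 1 * 1 ≤ D.aNum * nIdx p G := Nat.mul_le_mul ha hn
        omega
    · rw [hk1, one_mul] at hnq
      omega
  have hdvd := D.succ_dvd_pred S hp5
  rcases D.params S hθ with ⟨hε, hq, hb⟩ | ⟨hε, hq, hnq, hb⟩
  · left
    have he' : eIdx P = D.aNum * (nIdx p G + 1) + 1 := by rw [mul_add, mul_one]; omega
    have hco : Nat.Coprime (nIdx p G + 1) (eIdx P) := by
      rw [he', Nat.coprime_mul_right_add_right]
      exact Nat.coprime_one_right _
    have h1 := hco.dvd_of_dvd_mul_left hdvd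
    have ha : 0 < D.aNum := Nat.pos_of_ne_zero fun h => by rw [h, zero_mul] at he'; omega
    have h2 := D.dvd_of_bNum_pos S (by rw [hb]; exact Nat.mul_pos ha hn)
    have h3 := Nat.dvd_antisymm h1 h2
    exact ⟨hε, hq, h3, by rw [← h3]; exact he'⟩
  · right
    have he' : eIdx P = 1 + qdim P θ * (D.aNum * kIdx P + 1) := by
      have : D.aNum * (nIdx p G + 1) = D.aNum * nIdx p G + D.aNum := by ring
      rw [hnq] at this
      have h' : qdim P θ * (D.aNum * kIdx P + 1) =
          D.aNum * (kIdx P * qdim P θ) + qdim P θ := by ring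
      omega
    rw [hnq, mul_comm (eIdx P)] at hdvd
    have h1 := (Nat.mul_dvd_mul_iff_left S.kIdx_pos).1 hdvd
    have h2 : qdim P θ = 1 := by
      rw [he'] at h1
      exact Nat.dvd_one.1 ((Nat.dvd_add_left (dvd_mul_right _ _)).1 h1)
    rw [h2] at hnq he'
    exact ⟨hε, h2, by omega, by omega⟩

theorem two_le_kIdx : 2 ≤ kIdx P := by
  obtain ⟨θ, hθ⟩ := D.exists_mem_Y S
  have := S.nIdx_pos
  rcases D.shape S hθ with h | h <;> omega

theorem sum_normalizer_char [Fintype (Subgroup.normalizer ((P : Subgroup G) : Set G))]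
    (χ : IrrCharacter G) :
    ∑ g : Subgroup.normalizer ((P : Subgroup G) : Set G), (χ : G → ℂ) g =
      (p : ℂ) * eIdx P * M P χ 1 := by
  classical
  letI := Fintype.ofFinite ↥(P : Subgroup G)
  letI := Fintype.ofFinite (Quot' P)
  have h1 := S.sum_bar_mul χ 1
  simp only [MonoidHom.one_apply, Units.val_one, map_one, mul_one] at h1
  rw [S.sum_normalizer, mul_assoc, ← h1, Finset.mul_sum]
  refine Finset.sum_congr rfl fun q _ => ?_
  rw [bar, finsum_eq_sum_of_fintype, mul_inv_cancel_left₀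
    (Nat.cast_ne_zero.2 (Fact.out : p.Prime).ne_zero)]

/-- In the first shape `k = 2`. -/
theorem kIdx_eq_two_of_plus {θ : IrrCharacter G} (hθ : θ ∈ D.Y) (hε : D.ε = 1) :
    kIdx P = 2 := by
  classical
  obtain ⟨-, hq0, hnk, hea⟩ : D.ε = 1 ∧ qdim P θ = 0 ∧ nIdx p G + 1 = kIdx P ∧
      eIdx P = D.aNum * kIdx P + 1 := by
    rcases D.shape S hθ with h | h
    · exact h
    · rw [h.1] at hε; norm_num at hε
  have hp := (Fact.out : p.Prime)
  letI := Fintype.ofFinite ↥(P : Subgroup G)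
  letI := Fintype.ofFinite (Subgroup.normalizer ((P : Subgroup G) : Set G))
  letI := Fintype.ofFinite (Quot' P)
  have hYdeg : ∀ ψ ∈ D.Y, Cfsg.charDegree (ψ : G → ℂ) = eIdx P ∧ qdim P ψ = 0 := by
    intro ψ hψ
    rcases D.Y_cases S hψ with h | h
    · exact ⟨h.2.1, h.2.2⟩
    · rw [h.1] at hε; norm_num at hε
  set Φ : G → ℂ := fun g => ∑ ψ ∈ D.Y, (ψ : G → ℂ) g * conj ((ψ : G → ℂ) g) with hΦ
  have hΦc : Cfsg.IsCharacter G Φ := by
    have : Φ = ∑ ψ ∈ D.Y, fun g => (ψ : G → ℂ) g * conj ((ψ : G → ℂ) g) := by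
      funext g; rw [hΦ, Finset.sum_apply]
    rw [this]
    exact Characters.isCharacter_sum _ _ fun ψ _ => Characters.isCharacter_mul
      (Characters.isCharacter_of_isIrr ψ.2)
      (Characters.isCharacter_conj (Characters.isCharacter_of_isIrr ψ.2))
  choose c hc using fun χ : IrrCharacter G => Characters.classInner_character_irr hΦc χ.2
  have hexp : ∀ g, Φ g = ∑ χ : IrrCharacter G, (c χ : ℂ) * (χ : G → ℂ) g := by
    intro g
    have h := congrFun (Characters.character_expansion hΦc) g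
    simp only [hc, Finset.sum_apply, Pi.smul_apply, smul_eq_mul] at h
    exact h
  -- the value at `1`
  have hone : Φ 1 = ((kIdx P * eIdx P ^ 2 : ℕ) : ℂ) := by
    rw [hΦ]
    simp only
    rw [Finset.sum_congr rfl (g := fun _ => ((eIdx P : ℂ) ^ 2)) fun ψ hψ => by
      rw [← charDegree_cast, (hYdeg ψ hψ).1, Complex.conj_natCast, sq],
      Finset.sum_const, D.cardY, nsmul_eq_mul]
    push_cast; ring
  have hdeg : kIdx P * eIdx P ^ 2 = ∑ χ : IrrCharacter G, c χ * Cfsg.charDegree (χ : G → ℂ) := by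
    apply Nat.cast_injective (R := ℂ)
    rw [← hone, hexp, Nat.cast_sum]
    exact Finset.sum_congr rfl fun χ _ => by rw [Nat.cast_mul, charDegree_cast]
  -- the average over `P`
  have hP : ∑ y : ↥(P : Subgroup G), Φ y = ((p * (kIdx P * eIdx P) : ℕ) : ℂ) := by
    rw [← Finset.add_sum_erase _ _ (Finset.mem_univ 1), show Φ ((1 : ↥(P : Subgroup G)) : G) = Φ 1
        from rfl, hone,
      Finset.sum_congr rfl (g := fun _ => (p : ℂ) - eIdx P) (fun y hy => D.sum_Y_norm S y.2
        fun h => (Finset.mem_erase.1 hy).1 (Subtype.ext h)),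
      Finset.sum_const, Finset.card_erase_of_mem (Finset.mem_univ _), Finset.card_univ,
      ← Nat.card_eq_fintype_card, S.card, nsmul_eq_mul, Nat.cast_sub hp.one_le, Nat.cast_one]
    have : (p : ℂ) = eIdx P * kIdx P + 1 := by exact_mod_cast S.eq_mul_add
    push_cast
    rw [this]; ring
  -- the average over `N`
  have hN : ∑ g : Subgroup.normalizer ((P : Subgroup G) : Set G), Φ g =
      ((p * (kIdx P * eIdx P) : ℕ) : ℂ) := by
    rw [S.sum_normalizer, Finset.sum_eq_single (1 : Quot' P) (fun q _ hq => ?_)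
      (fun h => absurd (Finset.mem_univ _) h), ← hP]
    · have ha : (((1 : Quot' P).out : Subgroup.normalizer ((P : Subgroup G) : Set G)) : G) ∈
          (P : Subgroup G) :=
        Subgroup.mem_subgroupOf.1 ((QuotientGroup.eq_one_iff _).1 (Quotient.out_eq (1 : Quot' P)))
      exact Fintype.sum_equiv (Equiv.mulLeft (⟨_, ha⟩ : ↥(P : Subgroup G))) _ _ fun y => rfl
    · refine Finset.sum_eq_zero fun y _ => Finset.sum_eq_zero fun ψ hψ => ?_
      have hgN : (q.out : G) * (y : G) ∈ Subgroup.normalizer ((P : Subgroup G) : Set G) :=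
        mul_mem q.out.2 (Subgroup.le_normalizer y.2)
      have hgP : (q.out : G) * (y : G) ∉ (P : Subgroup G) := fun h => hq (by
        rw [← Quotient.out_eq q]
        exact (QuotientGroup.eq_one_iff _).2 (Subgroup.mem_subgroupOf.2
          ((Subgroup.mul_mem_cancel_right _ y.2).1 h)))
      rw [← S.bar_mk ψ hgN hgP, S.bar_eq_of_qdim_eq_zero (hYdeg ψ hψ).2, zero_mul]
  have hsumq : p * (kIdx P * eIdx P) = p * ∑ χ : IrrCharacter G, c χ * qdim P χ := by
    apply Nat.cast_injective (R := ℂ)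
    rw [← hP]
    simp only [hexp]
    rw [Finset.sum_comm]
    push_cast
    rw [Finset.mul_sum]
    exact Finset.sum_congr rfl fun χ _ => by rw [← Finset.mul_sum, D.sum_P S]; ring
  have hsumM : p * (kIdx P * eIdx P) = p * eIdx P * ∑ χ : IrrCharacter G, c χ * M P χ 1 := by
    apply Nat.cast_injective (R := ℂ)
    rw [← hN]
    simp only [hexp]
    rw [Finset.sum_comm]
    push_cast
    rw [Finset.mul_sum]
    exact Finset.sum_congr rfl fun χ _ => by rw [← Finset.mul_sum, D.sum_normalizer_char S]; ring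
  replace hsumq := Nat.eq_of_mul_eq_mul_left hp.pos hsumq
  replace hsumM : kIdx P = ∑ χ : IrrCharacter G, c χ * M P χ 1 := by
    refine Nat.eq_of_mul_eq_mul_left (Nat.mul_pos hp.pos S.eIdx_pos) ?_
    rw [← hsumM]; ring
  have htriv : c (trivChar G) = kIdx P := by
    apply Nat.cast_injective (R := ℂ)
    rw [← hc, Cfsg.classInner]
    simp only [trivChar_apply, map_one, mul_one, hΦ]
    rw [Finset.sum_comm, Finset.mul_sum, Finset.sum_congr rfl (g := fun _ => (1 : ℂ)) fun ψ _ => ?_,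
      Finset.sum_const, D.cardY, nsmul_one]
    exact Characters.classInner_isIrr_self ψ.2
  rw [D.sum_split, Finset.sum_eq_single_of_mem (trivChar G) D.triv_mem (fun ψ hψ hψ1 => by
      rw [D.M_one_eq_zero S (Or.inl hψ) hψ1, mul_zero]),
    Finset.sum_eq_zero (s := D.Y) (fun ψ hψ => by
      rw [D.M_one_eq_zero S (Or.inr hψ) (D.ne_trivChar_of_mem_Y S hψ), mul_zero]),
    S.M_trivChar, htriv, mul_one, add_zero] at hsumM
  have hout : ∀ χ ∈ D.out, c χ * qdim P χ = 0 := fun χ hχ => by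
    have h1 := Finset.sum_eq_zero_iff.1 (show ∑ χ ∈ D.out, c χ * M P χ 1 = 0 by omega) χ hχ
    rwa [D.M_one_eq_qdim S hχ] at h1
  rw [D.sum_split, Finset.sum_eq_zero (s := D.out) hout,
    Finset.sum_eq_zero (s := D.Y) (fun ψ hψ => by rw [(hYdeg ψ hψ).2, mul_zero]),
    ← Finset.add_sum_erase _ _ D.triv_mem, htriv, S.qdim_trivChar, mul_one, add_zero, add_zero,
    ← Finset.sum_filter_add_sum_filter_not (D.X.erase (trivChar G)) (fun χ => D.δ χ = 1),
    Finset.sum_eq_zero (s := (D.X.erase (trivChar G)).filter fun χ => ¬ D.δ χ = 1) (fun χ hχ => by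
      obtain ⟨h1, h2⟩ := Finset.mem_filter.1 hχ
      obtain ⟨h3, h4⟩ := Finset.mem_erase.1 h1
      rcases D.X_cases S h4 h3 with h | h
      · exact absurd h.1 h2
      · rw [h.2.2.1, mul_zero]),
    add_zero] at hsumq
  set F := (D.X.erase (trivChar G)).filter fun χ => D.δ χ = 1
  have hF : ∀ χ ∈ F, qdim P χ = kIdx P ∧
      Cfsg.charDegree (χ : G → ℂ) = 1 + nIdx p G * p := by
    intro χ hχ
    obtain ⟨h1, h2⟩ := Finset.mem_filter.1 hχ
    obtain ⟨h3, h4⟩ := Finset.mem_erase.1 h1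
    rcases D.X_cases S h4 h3 with h | h
    · exact ⟨by rw [h.2.2]; exact hnk, h.2.1⟩
    · rw [h.1] at h2; norm_num at h2
  rw [Finset.sum_congr rfl (g := fun χ => c χ * kIdx P) (fun χ hχ => by rw [(hF χ hχ).1]),
    ← Finset.sum_mul] at hsumq
  have hdeg2 : kIdx P + (∑ χ ∈ F, c χ) * (1 + nIdx p G * p) ≤ kIdx P * eIdx P ^ 2 := by
    rw [hdeg, Finset.sum_mul]
    have hnot : trivChar G ∉ F := fun h => (Finset.mem_erase.1 (Finset.mem_filter.1 h).1).1 rfl
    refine le_trans (le_of_eq ?_)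
      (Finset.sum_le_sum_of_subset (Finset.subset_univ (insert (trivChar G) F)))
    rw [Finset.sum_insert hnot, htriv, charDegree_trivChar, mul_one]
    exact congrArg _ (Finset.sum_congr rfl fun χ hχ => by rw [(hF χ hχ).2])
  have h2k := D.two_le_kIdx S
  by_contra hk2
  have hk3 : 3 ≤ kIdx P := by omega
  set C := ∑ χ ∈ F, c χ
  have hC : (C : ℤ) = (eIdx P : ℤ) - 1 := by
    have h' : ((kIdx P * eIdx P : ℕ) : ℤ) = ((kIdx P + C * kIdx P : ℕ) : ℤ) := by rw [← hsumq]
    push_cast at h'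
    have hk : (kIdx P : ℤ) ≠ 0 := by omega
    exact mul_left_cancel₀ hk (by linear_combination -h')
  have hp' : (p : ℤ) = eIdx P * kIdx P + 1 := by exact_mod_cast S.eq_mul_add
  have hn' : (nIdx p G : ℤ) + 1 = kIdx P := by exact_mod_cast hnk
  have hd2 : (kIdx P : ℤ) + C * (1 + (nIdx p G : ℤ) * p) ≤ kIdx P * (eIdx P : ℤ) ^ 2 := by
    exact_mod_cast hdeg2
  rw [hC, hp'] at hd2
  have he : (2 : ℤ) ≤ eIdx P := by exact_mod_cast S.two_le_eIdx
  have hk3' : (3 : ℤ) ≤ kIdx P := by exact_mod_cast hk3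
  nlinarith [mul_nonneg (by linarith : (0 : ℤ) ≤ eIdx P - 1)
    (mul_nonneg (by linarith : (0 : ℤ) ≤ (kIdx P : ℤ) - 3) (by positivity : (0 : ℤ) ≤ (eIdx P : ℤ) * kIdx P)),
    mul_nonneg (by linarith : (0 : ℤ) ≤ eIdx P - 1)
      (mul_nonneg (by positivity : (0 : ℤ) ≤ (eIdx P : ℤ)) (by linarith : (0 : ℤ) ≤ (kIdx P : ℤ) - 3))]

end BlockData

end CfsgLib.LargePrime
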