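import Cfsg.Agent.LargePrime.Block
import Cfsg.Agent.ClassPairs.Basic
import Cfsg.Agent.Small.DegreeInvolution
import Cfsg.Agent.SylowPrimeOrder.Simple

/-!
# Products of exceptional characters and pairs of involutions

For two exceptional characters `θ`, `θ'` the function `θ θ̄ - θ θ̄'` lives on `p`-singular elements,
where a member of `X` is the constant `δ`. So the members of `X` with `δ = 1` occur in `θ θ̄` and
those with `δ = -1` in `θ θ̄'`: their degrees add up to at most `θ(1) ^ 2`.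
-/

set_option autoImplicit false
set_option linter.style.haveILetI false
set_option linter.unusedSectionVars false

namespace CfsgLib.LargePrime

open Cfsg CfsgLib.PrincipalBlock CfsgLib.Blocks
open scoped ComplexConjugate

universe u

variable {G : Type u} [Group G] [Fintype G] {p : ℕ} [Fact p.Prime] {P : Sylow p G}

theorem Core.exists_conj_mem (S : Core P) {g : G} (hg : p ∣ orderOf g) :
    ∃ a : G, a * g * a⁻¹ ∈ (P : Subgroup G) ∧ a * g * a⁻¹ ≠ 1 := by
  have hp := (Fact.out : p.Prime)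
  set w := g ^ (orderOf g / p) with hwdef
  have hw : orderOf w = p := by
    rw [hwdef, orderOf_pow_of_dvd _ (Nat.div_dvd_of_dvd hg), Nat.div_div_self hg (orderOf_pos g).ne']
    exact Nat.div_ne_zero_iff.2 ⟨hp.ne_zero, Nat.le_of_dvd (orderOf_pos g) hg⟩
  have hpw : IsPGroup p (Subgroup.zpowers w) :=
    IsPGroup.of_card (n := 1) (by rw [Nat.card_zpowers, hw, pow_one])
  obtain ⟨Q, hQ⟩ := hpw.exists_le_sylow
  obtain ⟨a, ha⟩ := MulAction.exists_smul_eq G Q P
  have hwP : a * w * a⁻¹ ∈ (P : Subgroup G) := by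
    rw [← ha, Sylow.coe_subgroup_smul]
    exact Subgroup.smul_mem_pointwise_smul w (MulAut.conj a) _ (hQ (Subgroup.mem_zpowers w))
  have hw1 : a * w * a⁻¹ ≠ 1 := fun h => by
    rw [conj_eq_one_iff] at h
    rw [h, orderOf_one] at hw
    exact hp.one_lt.ne hw
  refine ⟨a, ?_, fun h => ?_⟩
  · rw [← S.centralizer_eq hwP hw1, Subgroup.mem_centralizer_singleton_iff]
    exact (((Commute.self_pow g _).map (MulAut.conj a).toMonoidHom)).eq
  · rw [conj_eq_one_iff] at h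
    rw [h, orderOf_one] at hg
    exact hp.ne_one (Nat.dvd_one.1 hg)

/-- A finite set of pairs stable under `C × C` on the right has cardinality divisible by `|C| ^ 2`. -/
theorem sq_dvd_card_of_invariant (C : Subgroup G) (T : Finset (G × G))
    (hT : ∀ x ∈ T, ∀ c ∈ C, ∀ c' ∈ C, (x.1 * c, x.2 * c') ∈ T) : Nat.card C ^ 2 ∣ T.card := by
  classical
  set H := C.prod C
  have hH : Nat.card H = Nat.card C ^ 2 := by
    rw [Nat.card_congr (Subgroup.prodEquiv C C).toEquiv, Nat.card_prod, sq]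
  have heq : (QuotientGroup.mk ⁻¹' ((QuotientGroup.mk (s := H)) '' (T : Set (G × G))) : Set (G × G)) =
      (T : Set (G × G)) := by
    refine Set.Subset.antisymm ?_ (Set.subset_preimage_image _ _)
    rintro x ⟨y, hy, hyx⟩
    have h := QuotientGroup.eq.1 hyx
    have hx : x = (y.1 * (y⁻¹ * x).1, y.2 * (y⁻¹ * x).2) := by
      ext <;> simp
    rw [hx]
    exact Finset.mem_coe.2 (hT y (Finset.mem_coe.1 hy) _ (Subgroup.mem_prod.1 h).1 _
      (Subgroup.mem_prod.1 h).2)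
  have h := QuotientGroup.card_preimage_mk H ((QuotientGroup.mk (s := H)) '' (T : Set (G × G)))
  rw [heq, hH] at h
  exact ⟨_, by rw [← h, Nat.card_coe_set_eq, Set.ncard_coe_finset]⟩

namespace BlockData

variable (D : BlockData P) (S : Core P)
include S

theorem apply_X {χ : IrrCharacter G} (hχ : χ ∈ D.X) {g : G} (hg : p ∣ orderOf g) :
    (χ : G → ℂ) g = (D.δ χ : ℂ) := by
  obtain ⟨a, h1, h2⟩ := S.exists_conj_mem hg
  rw [← Characters.isClassFunction_of_isIrr χ.2 g a]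
  exact D.valX χ hχ _ h1 h2

/-- The relation at the identity. -/
theorem rel_one {θ : IrrCharacter G} (hθ : θ ∈ D.Y) :
    D.ε * (Cfsg.charDegree (θ : G → ℂ) : ℤ) =
      ∑ χ ∈ D.X, D.δ χ * (Cfsg.charDegree (χ : G → ℂ) : ℤ) := by
  have h := D.rel θ hθ 1 (by rw [orderOf_one]; exact (Fact.out : p.Prime).not_dvd_one)
  simp only [← charDegree_cast] at h
  exact_mod_cast h

theorem apply_Y {θ θ' : IrrCharacter G} (hθ : θ ∈ D.Y) (hθ' : θ' ∈ D.Y) :
    (θ' : G → ℂ) 1 = (θ : G → ℂ) 1 :=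
  D.eqY θ' hθ' θ hθ 1 (by rw [orderOf_one]; exact (Fact.out : p.Prime).not_dvd_one)

theorem sum_Y_apply {y : G} (hy : y ∈ (P : Subgroup G)) (hy1 : y ≠ 1) {θ : IrrCharacter G}
    (hθ : θ ∈ D.Y) : ∑ θ' ∈ D.Y, (θ' : G → ℂ) y = -(D.ε : ℂ) := by
  classical
  have h := Characters.sum_degree_mul y
  rw [if_neg hy1, D.sum_split,
    Finset.sum_eq_zero (s := D.out) (fun χ hχ => by
      rw [D.out_val χ (D.mem_out.1 hχ).1 (D.mem_out.1 hχ).2 y hy hy1, mul_zero]),
    Finset.sum_congr rfl (s₁ := D.Y) (g := fun θ' => (θ : G → ℂ) 1 * (θ' : G → ℂ) y)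
      (fun θ' hθ' => by rw [D.apply_Y S hθ hθ']),
    Finset.sum_congr rfl (s₁ := D.X) (g := fun χ => (D.δ χ : ℂ) * (χ : G → ℂ) 1)
      (fun χ hχ => by rw [D.valX χ hχ y hy hy1, mul_comm]),
    ← D.rel θ hθ 1 (by rw [orderOf_one]; exact (Fact.out : p.Prime).not_dvd_one),
    ← Finset.mul_sum, add_zero] at h
  refine mul_left_cancel₀ (Characters.irr_one_ne_zero θ.2) ?_
  linear_combination h

omit S in
/-- `|G|` times the inner product. -/
theorem classInner_diff_eq (S : Core P) {θ θ' χ : IrrCharacter G} (hθ : θ ∈ D.Y) (hθ' : θ' ∈ D.Y)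
    (hχ : χ ∈ D.X) :
    Cfsg.classInner (fun g => (θ : G → ℂ) g * conj ((θ : G → ℂ) g)) (χ : G → ℂ) -
        Cfsg.classInner (fun g => (θ : G → ℂ) g * conj ((θ' : G → ℂ) g)) (χ : G → ℂ) =
      (D.δ χ : ℂ) * (Cfsg.classInner (θ : G → ℂ) (θ : G → ℂ) -
        Cfsg.classInner (θ : G → ℂ) (θ' : G → ℂ)) := by
  simp only [Cfsg.classInner]
  rw [← mul_sub, ← mul_sub, ← Finset.sum_sub_distrib, ← Finset.sum_sub_distrib,
    ← mul_assoc, mul_comm (D.δ χ : ℂ), mul_assoc, Finset.mul_sum (a := (D.δ χ : ℂ))]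
  congr 1
  refine Finset.sum_congr rfl fun g _ => ?_
  by_cases hg : p ∣ orderOf g
  · rw [D.apply_X S hχ hg, map_intCast]
    ring
  · rw [D.eqY θ' hθ' θ hθ g hg]
    ring

open Classical in
/-- The degrees in `X` of either sign add up to at most `θ(1) ^ 2`. -/
theorem sum_degree_le {θ θ' : IrrCharacter G} (hθ : θ ∈ D.Y) (hθ' : θ' ∈ D.Y) (hne : θ ≠ θ') :
    ∑ χ ∈ D.X.filter (fun χ => D.δ χ = 1), Cfsg.charDegree (χ : G → ℂ) ≤
        Cfsg.charDegree (θ : G → ℂ) ^ 2 ∧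
      ∑ χ ∈ D.X.filter (fun χ => D.δ χ = -1), Cfsg.charDegree (χ : G → ℂ) ≤
        Cfsg.charDegree (θ : G → ℂ) ^ 2 := by
  have hc := Characters.isCharacter_of_isIrr θ.2
  have hca : Cfsg.IsCharacter G (fun g => (θ : G → ℂ) g * conj ((θ : G → ℂ) g)) :=
    Characters.isCharacter_mul hc (Characters.isCharacter_conj hc)
  have hcb : Cfsg.IsCharacter G (fun g => (θ : G → ℂ) g * conj ((θ' : G → ℂ) g)) :=
    Characters.isCharacter_mul hc (Characters.isCharacter_conj (Characters.isCharacter_of_isIrr θ'.2))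
  obtain ⟨ma, hma⟩ := Characters.exists_nat_coeff hca
  obtain ⟨mb, hmb⟩ := Characters.exists_nat_coeff hcb
  have hcoef : ∀ χ ∈ D.X, (ma χ : ℤ) - mb χ = D.δ χ := by
    intro χ hχ
    have h := D.classInner_diff_eq S hθ hθ' hχ
    rw [hma, hmb, Characters.classInner_irr_coeff, Characters.classInner_irr_coeff,
      Characters.classInner_isIrr_self θ.2,
      Characters.classInner_isIrr_ne θ.2 θ'.2 (fun h => hne (Subtype.ext h)), sub_zero,
      mul_one] at h
    exact_mod_cast h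
  have hd : ∀ {m : IrrCharacter G → ℕ} {ψ : IrrCharacter G}, ψ ∈ D.Y →
      (fun g => (θ : G → ℂ) g * conj ((ψ : G → ℂ) g)) =
        ∑ χ, (m χ : ℂ) • (χ : G → ℂ) →
      ∀ s : Finset (IrrCharacter G), (∀ χ ∈ s, 1 ≤ m χ) →
        ∑ χ ∈ s, Cfsg.charDegree (χ : G → ℂ) ≤ Cfsg.charDegree (θ : G → ℂ) ^ 2 := by
    intro m ψ hψ hm s hs
    have h := congrFun hm 1
    rw [D.apply_Y S hθ hψ, Finset.sum_apply, ← charDegree_cast, Complex.conj_natCast] at h
    simp only [Pi.smul_apply, smul_eq_mul, ← charDegree_cast] at h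
    have h' : Cfsg.charDegree (θ : G → ℂ) * Cfsg.charDegree (θ : G → ℂ) =
        ∑ χ, m χ * Cfsg.charDegree (χ : G → ℂ) := by exact_mod_cast h
    rw [sq, h']
    exact (Finset.sum_le_sum fun χ hχ => Nat.le_mul_of_pos_left _ (hs χ hχ)).trans
      (Finset.sum_le_sum_of_subset (Finset.subset_univ s))
  refine ⟨hd hθ hma _ fun χ hχ => ?_, hd hθ' hmb _ fun χ hχ => ?_⟩
  · obtain ⟨h1, h2⟩ := Finset.mem_filter.1 hχ
    have := hcoef χ h1
    rw [h2] at this
    omega
  · obtain ⟨h1, h2⟩ := Finset.mem_filter.1 hχ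
    have := hcoef χ h1
    rw [h2] at this
    omega

/-- Pairs of conjugates of an involution with product in `P ∖ 1`. -/
theorem involution_pairs {θ : IrrCharacter G} (hθ : θ ∈ D.Y) (z : G) (hz : ¬ p ∣ orderOf z) :
    ∃ a : ℕ, (a : ℂ) * (Nat.card (Subgroup.centralizer ({z} : Set G)) : ℂ) ^ 2 =
      (Nat.card G : ℂ) * (∑ χ ∈ D.X, (D.δ χ : ℂ) * ((χ : G → ℂ) z ^ 2 / (χ : G → ℂ) 1) -
        (D.ε : ℂ) * ((θ : G → ℂ) z ^ 2 / (θ : G → ℂ) 1)) := by
  classical
  obtain ⟨y, hy, hy1⟩ := (P : Subgroup G).bot_or_exists_ne_one.resolve_left S.card_ne_bot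
  set C := Subgroup.centralizer ({z} : Set G)
  set T := (Finset.univ : Finset (G × G)).filter fun x =>
    x.1 * z * x.1⁻¹ * (x.2 * z * x.2⁻¹) = y with hT
  obtain ⟨a, ha⟩ := sq_dvd_card_of_invariant C T fun x hx c hc c' hc' => by
    have hfix : ∀ w ∈ C, ∀ u : G, u * w * z * (u * w)⁻¹ = u * z * u⁻¹ := fun w hw u => by
      calc u * w * z * (u * w)⁻¹ = u * (w * z) * w⁻¹ * u⁻¹ := by group
        _ = u * (z * w) * w⁻¹ * u⁻¹ := by rw [Subgroup.mem_centralizer_singleton_iff.1 hw]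
        _ = u * z * u⁻¹ := by group
    simp only [hT, Finset.mem_filter, Finset.mem_univ, true_and] at hx ⊢
    rw [hfix c hc, hfix c' hc']
    exact hx
  refine ⟨a, ?_⟩
  have h := ClassPairs.card_pairs z z ({y} : Finset G)
  simp only [Finset.mem_singleton, Finset.sum_singleton] at h
  have hLHS : (∑ u : G, ∑ v : G, if u * z * u⁻¹ * (v * z * v⁻¹) = y then (1 : ℂ) else 0) =
      (T.card : ℂ) := by
    rw [← Fintype.sum_prod_type', Finset.sum_boole]
  rw [hLHS, ha, Nat.cast_mul, Nat.cast_pow] at h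
  rw [mul_comm, h]
  congr 1
  rw [D.sum_split,
    Finset.sum_eq_zero (s := D.out) (fun χ hχ => by
      rw [D.out_val χ (D.mem_out.1 hχ).1 (D.mem_out.1 hχ).2 y hy hy1, map_zero, zero_mul]),
    Finset.sum_congr rfl (s₁ := D.X)
      (g := fun χ => (D.δ χ : ℂ) * ((χ : G → ℂ) z ^ 2 / (χ : G → ℂ) 1))
      (fun χ hχ => by rw [D.valX χ hχ y hy hy1, map_intCast, sq]),
    Finset.sum_congr rfl (s₁ := D.Y)
      (g := fun θ' => conj ((θ' : G → ℂ) y) * ((θ : G → ℂ) z ^ 2 / (θ : G → ℂ) 1))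
      (fun θ' hθ' => by rw [D.eqY θ' hθ' θ hθ z hz, D.apply_Y S hθ hθ', sq]),
    ← Finset.sum_mul, ← map_sum, D.sum_Y_apply S hy hy1 hθ, map_neg, map_intCast, add_zero]
  ring

end BlockData

end CfsgLib.LargePrime
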